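import Cfsg.Agent.Lib.Presented.BaseChain
import Cfsg.Agent.Lib.Presented.Order

/-!
In a checked chain of a group of exactly the chain's order, the points of the chain form a base.
-/
set_option autoImplicit false

namespace CfsgLib.Th

open CfsgLib.Presented CfsgLib.Presented.Vec

theorem eq_one_of_fix {R : Rep} (hR : R.valid = true) :
    ∀ (Ls : List BLevel) (L : BLevel) (rest : List BLevel), Ls = L :: rest → chainOK R Ls = true →
      ∀ (K : Subgroup (Equiv.Perm (Fin R.N))), (∀ x ∈ L.gens, R.perm hR x ∈ K) → Nat.card K ≤ chainProd Ls →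
        ∀ g ∈ K, (∀ M ∈ Ls, ∀ i : Fin R.N, (i : ℕ) = M.point → g i = i) → g = 1 := by
  intro Ls
  induction Ls with
  | nil => intro L rest h; exact absurd h (by simp)
  | cons L0 tl ih =>
    intro L rest h hok K hK hcard g hg hfix0
    obtain ⟨rfl, rfl⟩ : L0 = L ∧ tl = rest := List.cons.inj h
    have hlev : levelOK R L0 = true := by
      cases tl with
      | nil => exact hok
      | cons M r => simp only [chainOK, Bool.and_eq_true] at hok; exact hok.1.1
    simp only [levelOK, Bool.and_eq_true, List.all_eq_true] at hlev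
    obtain ⟨⟨horb, hsize⟩, hnext⟩ := hlev
    let K0 : Subgroup (Equiv.Perm (Fin R.N)) :=
      Subgroup.closure ((fun w => evW (R.perm hR) w) '' {w | w ∈ L0.gens.map fun x => [x]})
    have hle : K0 ≤ K := by
      rw [Subgroup.closure_le]
      rintro _ ⟨w, hw, rfl⟩
      obtain ⟨x, hx, rfl⟩ := List.mem_map.1 hw
      simpa using hK x hx
    have hi : L0.point < R.N := by
      simp only [orbitOK, Bool.and_eq_true, Nat.blt_eq] at horb
      exact horb.1.1
    have horbit := orbit_eq_of_ok hR horb (ev := R.perm hR) (MonoidHom.id _) (fun x _ => rfl)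
      (H := K0) rfl hi
    have hsz : (MulAction.orbit K0 (⟨L0.point, hi⟩ : Fin R.N)).ncard = L0.size := by
      rw [← Nat.eq_of_beq_eq_true hsize, bitCount_eq, ← Set.ncard_coe_finset]
      refine Set.ncard_congr (fun q _ => (q : ℕ)) ?_ (fun p q _ _ h => Fin.ext h) ?_
      · intro q hq
        obtain ⟨⟨h, hh⟩, rfl⟩ := hq
        have := (horbit (h ⟨L0.point, hi⟩)).1 ⟨h, hh, rfl⟩
        simp only [Finset.coe_filter, Finset.mem_range]
        exact ⟨(h ⟨L0.point, hi⟩).2, this⟩
      · intro k hk
        simp only [Finset.coe_filter, Finset.mem_range] at hk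
        obtain ⟨h, hh, he⟩ := (horbit ⟨k, hk.1⟩).2 hk.2
        exact ⟨⟨k, hk.1⟩, ⟨⟨h, hh⟩, he⟩, rfl⟩
    let S := MulAction.stabilizer K0 (⟨L0.point, hi⟩ : Fin R.N)
    have hindex : S.index = L0.size := (MulAction.index_stabilizer K0 _).trans hsz
    have hlow := le_natCard_of_chainOK hR (L0 :: tl) L0 tl rfl hok K0
      (fun x hx => Subgroup.subset_closure ⟨[x], List.mem_map.2 ⟨x, hx, rfl⟩, by simp⟩)
    have hKeq : K0 = K := Subgroup.eq_of_le_of_card_ge hle (hcard.trans hlow)
    have hgK0 : g ∈ K0 := hKeq ▸ hg
    have hS : Nat.card S * L0.size = Nat.card K0 := by rw [← hindex]; exact S.card_mul_index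
    have hSle : Nat.card S ≤ chainProd tl := by
      have h1 : Nat.card S * L0.size ≤ L0.size * chainProd tl := by
        rw [hS, hKeq]
        simpa [chainProd] using hcard
      have hpos : 0 < L0.size := by
        rw [← hsz]
        exact (Set.ncard_pos (Set.toFinite _)).2 ⟨_, MulAction.mem_orbit_self _⟩
      exact Nat.le_of_mul_le_mul_left (by rw [mul_comm L0.size (Nat.card S)]; exact h1) hpos
    have hgS : (⟨g, hgK0⟩ : K0) ∈ S :=
      MulAction.mem_stabilizer_iff.2 (hfix0 L0 List.mem_cons_self _ rfl)
    cases tl with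
    | nil =>
      have h1 : Nat.card S = 1 := le_antisymm (by simpa [chainProd] using hSle) Nat.card_pos
      rw [Subgroup.card_eq_one] at h1
      rw [h1, Subgroup.mem_bot] at hgS
      exact congrArg Subtype.val hgS
    | cons M r =>
      simp only [chainOK, Bool.and_eq_true] at hok
      have hg' := listEq_eq hok.1.2
      refine ih M r rfl hok.2 (S.map K0.subtype) ?_ ?_ g ⟨⟨g, hgK0⟩, hgS, rfl⟩
        (fun M' hM' => hfix0 M' (List.mem_cons_of_mem _ hM'))
      · intro y hy
        rw [← hg'] at hy
        obtain ⟨d, hd, rfl⟩ := List.mem_map.1 hy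
        obtain ⟨⟨⟨hlt, hfix⟩, hletters⟩, hrel⟩ := hnext d hd
        rw [Nat.blt_eq] at hlt
        simp only [List.all_eq_true, Bool.or_eq_true, List.contains_iff_mem] at hletters
        have hgood := Rep.perm_good hR
        have hinK : ∀ z ∈ L0.gens, R.perm hR z ∈ K0 := fun z hz =>
          Subgroup.subset_closure ⟨[z], List.mem_map.2 ⟨z, hz, rfl⟩, by simp⟩
        have hzle : ∀ z ∈ d.2, z ≤ R.A.eps := by
          have h2 := hrel
          simp only [Rep.relsOK, List.all_eq_true, Bool.and_eq_true] at h2
          intro z hz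
          have h3 := (h2 (d.2 ++ [R.A.invl d.1]) (by simp)).1 z (List.mem_append.2 (Or.inl hz))
          rw [Nat.blt_eq] at h3
          exact h3.le
        have hy1 : evW (R.perm hR) d.2 = R.perm hR d.1 := by
          have h1 := Rep.evW_eq_one hR hrel (w := d.2 ++ [R.A.invl d.1]) (by simp)
          rw [evW_append, evW_cons, evW_nil, mul_one] at h1
          rw [eq_inv_of_mul_eq_one_left h1, eq_inv_of_mul_eq_one_left (hgood.inv d.1 hlt.le), inv_inv]
        have hy0 : R.perm hR d.1 ∈ K0 := by
          rw [← hy1]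
          refine list_prod_mem ?_
          intro g hg
          obtain ⟨z, hz, rfl⟩ := List.mem_map.1 hg
          rcases hletters z hz with h | h
          · exact hinK z h
          · have hinv := hgood.inv z (hzle z hz)
            rw [eq_inv_of_mul_eq_one_right hinv]
            exact K0.inv_mem (hinK _ h)
        refine ⟨⟨R.perm hR d.1, hy0⟩, MulAction.mem_stabilizer_iff.2 (Fin.ext ?_), rfl⟩
        show ((R.perm hR d.1) ⟨L0.point, hi⟩ : ℕ) = L0.point
        rw [Rep.perm_val]
        rw [testBit_applyNet ((Rep.valid_spec hR).2.2.1 d.1)] at hfix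
        change Nat.testBit (1 <<< L0.point) _ = true at hfix
        rw [Nat.testBit_shiftLeft, Bool.and_eq_true, decide_eq_true_eq] at hfix
        have := VCert.one_bit hfix.2
        have hf1 := hfix.1
        simp only
        omega
      · rw [Subgroup.card_map_of_injective K0.subtype_injective]
        exact hSle

end CfsgLib.Th
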