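import Cfsg.Prelude.Def_Spor_Th
import Cfsg.Agent.Lib.Presented.Cox
import Cfsg.Agent.Lib.Presented.Order

/-!
The presented Thompson group and the presentations of two of its subgroups on the same letters.
-/
set_option autoImplicit false
set_option maxRecDepth 8000

namespace CfsgLib.Th

open Cfsg.Spor CfsgLib.Presented

/-- generator numbering -/
def idxOf : Th.Gen → ℕ
  | .a => 0
  | .b => 2
  | .c => 4
  | .d => 6
  | .e => 8
  | .s => 10
  | .t => 12
  | .u => 14

/-- reading letters back -/
def genOf : ℕ → Th.Gen × Bool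
  | 0 => (.a, true)
  | 1 => (.a, false)
  | 2 => (.b, true)
  | 3 => (.b, false)
  | 4 => (.c, true)
  | 5 => (.c, false)
  | 6 => (.d, true)
  | 7 => (.d, false)
  | 8 => (.e, true)
  | 9 => (.e, false)
  | 10 => (.s, true)
  | 11 => (.s, false)
  | 12 => (.t, true)
  | 13 => (.t, false)
  | 14 => (.u, true)
  | _ => (.u, false)

/-- the alphabet -/
def alphabet : Alphabet := ⟨16, (.leaf 0x1038f30d28b209187105083001)⟩

/-- the letters -/
def letters : Letters Th.Gen := ⟨alphabet, idxOf, genOf, []⟩

theorem letters_valid : letters.valid = true := by decide +kernel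

theorem nodes_valid : letters.nodesValid Th.edges = true := by decide +kernel

theorem full : letters.Full := fun g => by cases g <;> decide

/-- the relators of the triality group extended by its field automorphism; `u` is killed -/
def hExtra : List (FreeGroup Th.Gen) := Th.extra.take 27 ++ [Th.u]

/-- the relators of the G₂(3) extension; `s` and `t` are killed -/
def nExtra : List (FreeGroup Th.Gen) :=
  Th.extra.take 14 ++ (Th.extra.drop 27).take 7 ++ [Th.s, Th.t]

/-- the group presented by the first three relator groups -/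
abbrev HT : Type := CoxPresented Th.Gen Th.edges hExtra

/-- the group presented by the first and fourth relator groups -/
abbrev NT : Type := CoxPresented Th.Gen Th.edges nExtra

/-- values of the letters in the big group -/
noncomputable abbrev ev : ℕ → Cfsg.Spor.Th := letters.ev fun g => PresentedGroup.of g

/-- values of the letters in the first subgroup presentation -/
noncomputable abbrev hev : ℕ → HT := letters.ev fun g => PresentedGroup.of g

/-- values of the letters in the second subgroup presentation -/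
noncomputable abbrev nev : ℕ → NT := letters.ev fun g => PresentedGroup.of g

/-- relator words of the big group -/
def relWords : List (List ℕ) := [[0, 0],
  [2, 2],
  [4, 4],
  [6, 6],
  [8, 8],
  [0, 2, 0, 2, 0, 2],
  [0, 8, 0, 8],
  [2, 4, 2, 4, 2, 4],
  [2, 6, 2, 6],
  [2, 8, 2, 8],
  [0, 7, 5, 7, 5, 7, 5, 7, 5],
  [4, 8, 4, 8],
  [6, 8, 6, 8, 6, 8],
  [2, 4, 6, 8, 2, 4, 6, 8, 2, 4, 6, 8, 2, 4, 6, 8, 2, 4, 6, 8, 2, 4, 6, 8, 2, 4, 6, 8, 2, 4, 6, 8],
  [10, 10, 10, 10, 10, 10, 10],
  [11, 1, 10, 0],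
  [11, 3, 10, 2],
  [11, 5, 10, 4],
  [10, 6, 10, 6],
  [9, 11, 8, 11, 11, 9, 10, 10, 10],
  [12, 12, 12],
  [13, 1, 12, 0],
  [13, 3, 12, 2],
  [13, 5, 12, 4],
  [13, 7, 12, 6],
  [13, 9, 12, 8],
  [13, 10, 12, 11, 11],
  [14, 14, 5, 1],
  [15, 1, 14, 0],
  [15, 5, 14, 4],
  [15, 9, 14, 8],
  [6, 8, 15, 6, 14, 6, 8, 15, 6, 14],
  [15, 3, 5, 1, 2, 14, 3, 0, 4, 2, 9],
  [7, 15, 6, 3, 5, 1, 2, 7, 14, 6, 3, 0, 4, 2, 5, 9, 7, 15, 6, 3, 5, 1, 2, 9, 15],
  [15, 12, 14, 12],
  [9, 11, 11, 15, 10, 10, 8, 11, 11, 14, 10, 10],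
  [0, 4, 11, 15, 11, 15, 11, 15],
  [0, 4, 11, 15, 10, 14, 11, 15, 10, 14, 11, 15, 10, 14, 11, 15, 10, 14],
  [6, 11, 11, 14, 10, 10, 6, 11, 11, 14, 10, 10, 6, 11, 11, 14, 10, 10, 6, 11, 11, 14, 9, 7, 5, 6, 8, 10, 10, 10, 9, 7, 5, 6, 8, 11, 7, 5, 6, 5, 1]]

/-- relator words of the first subgroup presentation -/
def hWords : List (List ℕ) := [[0, 0],
  [2, 2],
  [4, 4],
  [6, 6],
  [8, 8],
  [0, 2, 0, 2, 0, 2],
  [0, 8, 0, 8],
  [2, 4, 2, 4, 2, 4],
  [2, 6, 2, 6],
  [2, 8, 2, 8],
  [0, 7, 5, 7, 5, 7, 5, 7, 5],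
  [4, 8, 4, 8],
  [6, 8, 6, 8, 6, 8],
  [2, 4, 6, 8, 2, 4, 6, 8, 2, 4, 6, 8, 2, 4, 6, 8, 2, 4, 6, 8, 2, 4, 6, 8, 2, 4, 6, 8, 2, 4, 6, 8],
  [10, 10, 10, 10, 10, 10, 10],
  [11, 1, 10, 0],
  [11, 3, 10, 2],
  [11, 5, 10, 4],
  [10, 6, 10, 6],
  [9, 11, 8, 11, 11, 9, 10, 10, 10],
  [12, 12, 12],
  [13, 1, 12, 0],
  [13, 3, 12, 2],
  [13, 5, 12, 4],
  [13, 7, 12, 6],
  [13, 9, 12, 8],
  [13, 10, 12, 11, 11],
  [14]]

/-- relator words of the second subgroup presentation -/
def nWords : List (List ℕ) := [[0, 0],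
  [2, 2],
  [4, 4],
  [6, 6],
  [8, 8],
  [0, 2, 0, 2, 0, 2],
  [0, 8, 0, 8],
  [2, 4, 2, 4, 2, 4],
  [2, 6, 2, 6],
  [2, 8, 2, 8],
  [0, 7, 5, 7, 5, 7, 5, 7, 5],
  [4, 8, 4, 8],
  [6, 8, 6, 8, 6, 8],
  [2, 4, 6, 8, 2, 4, 6, 8, 2, 4, 6, 8, 2, 4, 6, 8, 2, 4, 6, 8, 2, 4, 6, 8, 2, 4, 6, 8, 2, 4, 6, 8],
  [14, 14, 5, 1],
  [15, 1, 14, 0],
  [15, 5, 14, 4],
  [15, 9, 14, 8],
  [6, 8, 15, 6, 14, 6, 8, 15, 6, 14],
  [15, 3, 5, 1, 2, 14, 3, 0, 4, 2, 9],
  [7, 15, 6, 3, 5, 1, 2, 7, 14, 6, 3, 0, 4, 2, 5, 9, 7, 15, 6, 3, 5, 1, 2, 9, 15],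
  [10],
  [12]]

theorem relWords_eq : relWords = letters.coxWords Th.edges ++ letters.extraWords Th.extra := by decide +kernel

theorem hWords_eq : hWords = letters.coxWords Th.edges ++ letters.extraWords hExtra := by decide +kernel

theorem nWords_eq : nWords = letters.coxWords Th.edges ++ letters.extraWords nExtra := by decide +kernel

theorem rels_hold : ∀ w ∈ relWords, evW ev w = 1 := by
  rw [relWords_eq]
  exact Letters.rels_hold letters_valid nodes_valid full

theorem hrels_hold : ∀ w ∈ hWords, evW hev w = 1 := by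
  rw [hWords_eq]
  exact Letters.rels_hold letters_valid nodes_valid full

theorem nrels_hold : ∀ w ∈ nWords, evW nev w = 1 := by
  rw [nWords_eq]
  exact Letters.rels_hold letters_valid nodes_valid full

section

variable {extra : List (FreeGroup Th.Gen)}

theorem letters_ev_one :
    letters.ev (fun g => (PresentedGroup.of g : CoxPresented Th.Gen Th.edges extra)) alphabet.eps = 1 :=
  Letters.ev_eps (L := letters)

theorem letters_ev_inv : ∀ x, x < alphabet.eps →
    letters.ev (fun g => (PresentedGroup.of g : CoxPresented Th.Gen Th.edges extra)) (alphabet.invl x) *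
      letters.ev (fun g => (PresentedGroup.of g : CoxPresented Th.Gen Th.edges extra)) x = 1 :=
  Letters.ev_inv letters_valid (Letters.of_sq nodes_valid)

theorem letters_good :
    alphabet.Good (letters.ev (fun g => (PresentedGroup.of g : CoxPresented Th.Gen Th.edges extra))) := by
  refine ⟨letters_ev_one, fun x hx => ?_⟩
  rcases Nat.eq_or_lt_of_le hx with rfl | h
  · rw [show alphabet.invl alphabet.eps = alphabet.eps by decide +kernel, letters_ev_one, one_mul]
  · exact letters_ev_inv x h

end

theorem gen_top : Subgroup.closure (ev '' Set.Iio alphabet.eps) = ⊤ :=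
  Letters.gen_top letters_valid nodes_valid full

theorem hgen_top : Subgroup.closure (hev '' Set.Iio alphabet.eps) = ⊤ :=
  Letters.gen_top letters_valid nodes_valid full

theorem ngen_top : Subgroup.closure (nev '' Set.Iio alphabet.eps) = ⊤ :=
  Letters.gen_top letters_valid nodes_valid full

/-- images of the generators in the big group, `u` killed -/
noncomputable def hGenMap : Th.Gen → Cfsg.Spor.Th
  | .u => 1
  | g => PresentedGroup.of g

/-- images of the generators in the big group, `s` and `t` killed -/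
noncomputable def nGenMap : Th.Gen → Cfsg.Spor.Th
  | .s => 1
  | .t => 1
  | g => PresentedGroup.of g

theorem letters_ev_congr {G : Type*} [Group G] {f f' : Th.Gen → G} {p : ℕ → Bool}
    (h : ∀ x, p x = true → f (genOf x).1 = f' (genOf x).1) {w : List ℕ} (hw : w.all p = true) :
    evW (letters.ev f) w = evW (letters.ev f') w := by
  simp only [List.all_eq_true] at hw
  unfold evW
  congr 1
  refine List.map_congr_left fun x hx => ?_
  have e : f (letters.gen x).1 = f' (letters.gen x).1 := h x (hw x hx)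
  simp only [Letters.ev, e]

/-- avoid `u` -/
def noU (x : ℕ) : Bool := Nat.blt x 14

/-- avoid `s` and `t` -/
def noST (x : ℕ) : Bool := Nat.blt x 10 || (Nat.ble 14 x && Nat.blt x 16)

theorem hGenMap_eq : ∀ x, noU x = true → hGenMap (genOf x).1 = PresentedGroup.of (genOf x).1 := by
  intro x hx
  simp only [noU, Nat.blt_eq] at hx
  interval_cases x <;> rfl

theorem nGenMap_eq : ∀ x, noST x = true → nGenMap (genOf x).1 = PresentedGroup.of (genOf x).1 := by
  intro x hx
  simp only [noST, Bool.or_eq_true, Bool.and_eq_true, Nat.blt_eq, Nat.ble_eq] at hx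
  rcases hx with hx | ⟨h1, hx⟩ <;> interval_cases x <;> rfl

theorem hkills : ∀ r ∈ coxRelators Th.edges ∪ {r | r ∈ hExtra}, FreeGroup.lift hGenMap r = 1 := by
  refine Letters.kills letters_valid nodes_valid full (fun g hg => absurd hg (by simp [letters]))
    (fun w hw => absurd hw (by simp [Letters.coxWords, letters])) fun w hw => ?_
  have hw' : w ∈ hWords := by rw [hWords_eq]; exact List.mem_append.2 (Or.inr hw)
  have hs : hWords.all (fun w => decide (w = [14]) || (w.all noU && relWords.contains w)) = true := by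
    decide +kernel
  have h1 := List.all_eq_true.1 hs w hw'
  simp only [Bool.or_eq_true, decide_eq_true_eq, Bool.and_eq_true, List.contains_iff_mem] at h1
  rcases h1 with rfl | h1
  · simp [Letters.ev, letters, alphabet, genOf, hGenMap]
  · rw [letters_ev_congr hGenMap_eq h1.1]
    exact rels_hold w h1.2

theorem nkills : ∀ r ∈ coxRelators Th.edges ∪ {r | r ∈ nExtra}, FreeGroup.lift nGenMap r = 1 := by
  refine Letters.kills letters_valid nodes_valid full (fun g hg => absurd hg (by simp [letters]))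
    (fun w hw => absurd hw (by simp [Letters.coxWords, letters])) fun w hw => ?_
  have hw' : w ∈ nWords := by rw [nWords_eq]; exact List.mem_append.2 (Or.inr hw)
  have hs : nWords.all (fun w => decide (w = [10]) || decide (w = [12]) || (w.all noST && relWords.contains w)) = true := by
    decide +kernel
  have h1 := List.all_eq_true.1 hs w hw'
  simp only [Bool.or_eq_true, decide_eq_true_eq, Bool.and_eq_true, List.contains_iff_mem] at h1
  rcases h1 with (rfl | rfl) | h1
  · simp [Letters.ev, letters, alphabet, genOf, nGenMap]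
  · simp [Letters.ev, letters, alphabet, genOf, nGenMap]
  · rw [letters_ev_congr nGenMap_eq h1.1]
    exact rels_hold w h1.2

/-- the first subgroup presentation maps to the big group -/
noncomputable def iota : HT →* Cfsg.Spor.Th := PresentedGroup.toGroup hkills

/-- the second subgroup presentation maps to the big group -/
noncomputable def kappa : NT →* Cfsg.Spor.Th := PresentedGroup.toGroup nkills

theorem map_evW {G : Type*} [Group G] {extra : List (FreeGroup Th.Gen)} (φ : CoxPresented Th.Gen Th.edges extra →* G)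
    (w : List ℕ) : φ (evW (letters.ev fun g => PresentedGroup.of g) w) =
      evW (letters.ev fun g => φ (PresentedGroup.of g)) w := by
  simp only [evW, map_list_prod, List.map_map]
  congr 1
  refine List.map_congr_left fun x _ => ?_
  simp only [Function.comp_apply, Letters.ev]
  split
  · cases (letters.gen x).2 <;> simp
  · simp

theorem iota_evW {w : List ℕ} (hw : w.all noU = true) : iota (evW hev w) = evW ev w := by
  rw [map_evW, ← letters_ev_congr hGenMap_eq hw]
  simp [iota, PresentedGroup.toGroup.of]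

theorem kappa_evW {w : List ℕ} (hw : w.all noST = true) : kappa (evW nev w) = evW ev w := by
  rw [map_evW, ← letters_ev_congr nGenMap_eq hw]
  simp [kappa, PresentedGroup.toGroup.of]

end CfsgLib.Th
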