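import Cfsg.Agent.Lib.Th.Cover
import Mathlib.Combinatorics.Enumerative.DoubleCounting

/-!
The index of the triality subgroup in the presented Thompson group, by double counting neighbours.
-/
set_option autoImplicit false
set_option maxRecDepth 8000
set_option Elab.async false

namespace CfsgLib.Th

open CfsgLib.Presented

theorem finite_HT : Finite HT := Nat.finite_of_card_ne_zero cardHT_le.1

theorem finite_cosets : Finite Cosets := by
  have := finite_HT
  refine Finite.of_surjective (fun p : Fin 11 × HT => iota p.2 • C p.1) fun q => ?_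
  obtain ⟨j, hj, x, rfl⟩ := covered q
  exact ⟨(⟨j, hj⟩, x), rfl⟩

/-- the inverse of a coset, up to the triality subgroup -/
noncomputable def flip (q : Cosets) : Cosets := (((Quotient.out q)⁻¹ : Cfsg.Spor.Th) : Cosets)

/-- the orbit of the inverse -/
noncomputable def cls (q : Cosets) : ℕ := (covered (flip q)).choose

theorem cls_lt (q : Cosets) : cls q < 11 := (covered (flip q)).choose_spec.1

theorem cls_inOrb (q : Cosets) : InOrb (C (cls q)) (flip q) := (covered (flip q)).choose_spec.2

theorem cls_eq {q : Cosets} {g : Cfsg.Spor.Th} (hg : (g : Cosets) = q) {j : ℕ} (hj : j < 11) :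
    cls q = j ↔ InOrb (C j) ((g⁻¹ : Cfsg.Spor.Th) : Cosets) := by
  have hm : (Quotient.out q)⁻¹ * g ∈ Hs := by
    rw [← QuotientGroup.eq, hg]
    exact QuotientGroup.out_eq' q
  obtain ⟨x, hx⟩ := hm
  have e : InOrb ((g⁻¹ : Cfsg.Spor.Th) : Cosets) (flip q) :=
    ⟨x, by
      rw [flip, MulAction.Quotient.smul_coe, smul_eq_mul, hx]
      simp⟩
  constructor
  · rintro rfl
    exact (cls_inOrb q).trans e.symm
  · intro h
    exact orb_unique (cls_lt q) hj (cls_inOrb q) (h.trans e)

/-- neighbours -/
def Adj (q q' : Cosets) : Prop := ∃ x y : HT, (Quotient.out q)⁻¹ * Quotient.out q' = iota x * U * iota y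

theorem adj_symm {q q' : Cosets} (h : Adj q q') : Adj q' q := by
  obtain ⟨x, y, h⟩ := h
  refine ⟨y⁻¹ * evW hev [5, 1], x⁻¹, ?_⟩
  have e : (Quotient.out q')⁻¹ * Quotient.out q = (iota x * U * iota y)⁻¹ := by rw [← h]; group
  have hc : hv [5, 1] * U = U⁻¹ := by
    rw [← mul_left_cancel_iff (a := U), mul_inv_cancel, ← mul_assoc, ← U_inv, inv_mul_cancel]
  rw [e, map_mul, ← hv, map_inv, map_inv, mul_inv_rev, mul_inv_rev, mul_assoc (iota y)⁻¹ (hv [5, 1]), hc,
    mul_assoc]

/-- the neighbour at a label -/
noncomputable def nbr (q : Cosets) (p : Fin R17.N) : Cosets :=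
  ((Quotient.out q * iota (rep p) * U : Cfsg.Spor.Th) : Cosets)

theorem nbr_injective (q : Cosets) : Function.Injective (nbr q) := by
  intro p p' h
  rw [nbr, nbr, QuotientGroup.eq] at h
  have h' : U⁻¹ * iota ((rep p)⁻¹ * rep p') * U ∈ Hs := by
    convert h using 1
    rw [map_mul, map_inv]
    group
  have hl := mem_Lsub_iff.1 (conj_mem h')
  rw [map_mul, Equiv.Perm.mul_apply, lact_rep, map_inv] at hl
  rw [← lact_rep p]
  exact ((Equiv.symm_apply_eq _).1 hl).symm

theorem adj_iff (q q' : Cosets) : Adj q q' ↔ ∃ p, nbr q p = q' := by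
  constructor
  · rintro ⟨x, y, h⟩
    refine ⟨lact x pt0, ?_⟩
    have hl : x⁻¹ * rep (lact x pt0) ∈ Lsub := by
      rw [mem_Lsub_iff, map_mul, Equiv.Perm.mul_apply, lact_rep, ← Equiv.Perm.mul_apply, ← map_mul,
        inv_mul_cancel, map_one, Equiv.Perm.one_apply]
    obtain ⟨v, hv'⟩ := exists_comm hl
    rw [nbr, ← QuotientGroup.out_eq' q', QuotientGroup.eq]
    refine ⟨v⁻¹ * y, ?_⟩
    have hrep : iota (rep (lact x pt0)) = iota x * (U * iota v * U⁻¹) := by
      rw [← hv', map_mul, map_inv]
      group
    rw [hrep, show Quotient.out q' = Quotient.out q * ((Quotient.out q)⁻¹ * Quotient.out q') by group, h, map_mul,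
      map_inv]
    group
  · rintro ⟨p, rfl⟩
    obtain ⟨h, hh⟩ : (Quotient.out q * iota (rep p) * U)⁻¹ * Quotient.out (nbr q p) ∈ Hs := by
      rw [← QuotientGroup.eq, QuotientGroup.out_eq']
      rfl
    refine ⟨rep p, h, ?_⟩
    rw [hh]
    group

theorem cls_nbr {q : Cosets} {p : Fin R17.N} {j : ℕ} (hj : j < 11) :
    cls (nbr q p) = j ↔ InOrb (C j) (nb (rep p) (flip q)) := by
  rw [nbr, cls_eq rfl hj, nb, flip, MulAction.Quotient.smul_coe, MulAction.Quotient.smul_coe, smul_eq_mul, smul_eq_mul,
    mul_inv_rev, mul_inv_rev]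

/-- the cosets of one class -/
noncomputable def clsSet (j : ℕ) : Finset Cosets :=
  haveI := finite_cosets
  letI := Fintype.ofFinite Cosets
  Finset.univ.filter fun q => cls q = j

theorem mem_clsSet {j : ℕ} {q : Cosets} : q ∈ clsSet j ↔ cls q = j := by simp [clsSet]

theorem card_adj_class {i j : ℕ} (hj : j < 11) {q : Cosets} (hq : q ∈ clsSet i) [DecidableRel Adj] :
    ((clsSet j).bipartiteAbove Adj q).card = cnt i j := by
  classical
  rw [mem_clsSet] at hq
  subst hq
  have e : (clsSet j).bipartiteAbove Adj q =
      (Finset.univ.filter fun p => InOrb (C j) (nb (rep p) (flip q))).image (nbr q) := by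
    ext q'
    simp only [Finset.mem_bipartiteAbove, mem_clsSet, Finset.mem_image, Finset.mem_filter, Finset.mem_univ, true_and,
      adj_iff]
    constructor
    · rintro ⟨h1, p, rfl⟩
      exact ⟨p, (cls_nbr hj).1 h1, rfl⟩
    · rintro ⟨p, h1, rfl⟩
      exact ⟨(cls_nbr hj).2 h1, p, rfl⟩
  rw [e, Finset.card_image_of_injective _ (nbr_injective q), ← nbCount_eq (cls_lt q) hj (sep_all j hj),
    nbCount_inOrb (cls_inOrb q), nbCount, Nat.card_eq_fintype_card, Fintype.card_subtype]

theorem card_edges {i j : ℕ} (hi : i < 11) (hj : j < 11) :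
    (clsSet i).card * cnt i j = (clsSet j).card * cnt j i := by
  classical
  have h := Finset.sum_card_bipartiteAbove_eq_sum_card_bipartiteBelow (r := Adj) (s := clsSet i) (t := clsSet j)
  have e : ∀ q', (clsSet i).bipartiteBelow Adj q' = (clsSet i).bipartiteAbove Adj q' := by
    intro q'
    ext q
    simp only [Finset.mem_bipartiteBelow, Finset.mem_bipartiteAbove]
    exact ⟨fun h => ⟨h.1, adj_symm h.2⟩, fun h => ⟨h.1, adj_symm h.2⟩⟩
  simp only [e] at h
  rw [Finset.sum_congr rfl fun q hq => card_adj_class hj hq,
    Finset.sum_congr rfl fun q hq => card_adj_class hi hq] at h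
  simpa using h

theorem card_clsSet_zero : (clsSet 0).card = 1 := by
  rw [Finset.card_eq_one]
  refine ⟨c0, Finset.ext fun q => ?_⟩
  rw [mem_clsSet, Finset.mem_singleton, cls_eq (QuotientGroup.out_eq' q) (by decide), C_zero]
  constructor
  · rintro ⟨x, hx⟩
    rw [iota_smul_c0, c0, QuotientGroup.eq, mul_one, inv_inv] at hx
    rw [← QuotientGroup.out_eq' q, c0, QuotientGroup.eq, mul_one]
    exact Hs.inv_mem hx
  · intro h
    rw [← QuotientGroup.out_eq' q, c0, QuotientGroup.eq, mul_one, inv_mem_iff] at h
    have e : (((Quotient.out q)⁻¹ : Cfsg.Spor.Th) : Cosets) = c0 := by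
      rw [c0, QuotientGroup.eq, inv_inv, mul_one]
      exact h
    rw [e]
    exact InOrb.refl _

/-- the size of a class -/
noncomputable def size (i : ℕ) : ℕ := CoverData.sizes.getD i 0

theorem card_clsSet : ∀ i < 11, (clsSet i).card = size i := by
  have step : ∀ i j : ℕ, i < 11 → j < 11 → (clsSet i).card = size i → size i * cnt i j = size j * cnt j i →
      0 < cnt j i → (clsSet j).card = size j := by
    intro i j hi hj h he hpos
    have := card_edges hi hj
    rw [h, he] at this
    exact (Nat.eq_of_mul_eq_mul_right hpos this).symm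
  have h0 : (clsSet 0).card = size 0 := card_clsSet_zero
  have h1 := step 0 1 (by decide) (by decide) h0 (by decide +kernel) (by decide +kernel)
  intro i hi
  interval_cases i
  · exact h0
  · exact h1
  · exact step 1 2 (by decide) (by decide) h1 (by decide +kernel) (by decide +kernel)
  · exact step 1 3 (by decide) (by decide) h1 (by decide +kernel) (by decide +kernel)
  · exact step 1 4 (by decide) (by decide) h1 (by decide +kernel) (by decide +kernel)
  · exact step 1 5 (by decide) (by decide) h1 (by decide +kernel) (by decide +kernel)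
  · exact step 1 6 (by decide) (by decide) h1 (by decide +kernel) (by decide +kernel)
  · exact step 2 7 (by decide) (by decide)
      (step 1 2 (by decide) (by decide) h1 (by decide +kernel) (by decide +kernel)) (by decide +kernel)
      (by decide +kernel)
  · exact step 2 8 (by decide) (by decide)
      (step 1 2 (by decide) (by decide) h1 (by decide +kernel) (by decide +kernel)) (by decide +kernel)
      (by decide +kernel)
  · exact step 3 9 (by decide) (by decide)
      (step 1 3 (by decide) (by decide) h1 (by decide +kernel) (by decide +kernel)) (by decide +kernel)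
      (by decide +kernel)
  · exact step 4 10 (by decide) (by decide)
      (step 1 4 (by decide) (by decide) h1 (by decide +kernel) (by decide +kernel)) (by decide +kernel)
      (by decide +kernel)

/-- The index of the triality subgroup. -/
theorem index_range : (iota.range).index = 143127000 := by
  classical
  have := finite_cosets
  let : Fintype Cosets := Fintype.ofFinite Cosets
  show Hs.index = _
  rw [Subgroup.index_eq_card, Nat.card_eq_fintype_card, ← Finset.card_univ,
    Finset.card_eq_sum_card_fiberwise (f := cls) (t := Finset.range 11)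
      fun q _ => Finset.mem_range.2 (cls_lt q)]
  have e : ∀ i ∈ Finset.range 11, ((Finset.univ : Finset Cosets).filter fun q => cls q = i).card = size i := by
    intro i hi
    rw [← card_clsSet i (Finset.mem_range.1 hi)]
    congr 1
  exact (Finset.sum_congr rfl e).trans (by decide +kernel)

end CfsgLib.Th
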