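import Cfsg.Agent.Lib.Presented.MatPack
import Cfsg.Agent.Lib.Th.Cert.Mat248
import Cfsg.Agent.Lib.Th.Cert.Pack248

/-!
The packed matrices agree with the sparse matrices of the representation of dimension 248.
-/
set_option autoImplicit false
set_option maxRecDepth 20000
set_option maxHeartbeats 0
set_option Elab.async false

namespace CfsgLib.Th

open CfsgLib.Presented

theorem pack0 : MatPack.rowsOK 248 Mat248.m0 Pack248.p0 = true := by decide +kernel
theorem pack2 : MatPack.rowsOK 248 Mat248.m2 Pack248.p2 = true := by decide +kernel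
theorem pack4 : MatPack.rowsOK 248 Mat248.m4 Pack248.p4 = true := by decide +kernel
theorem pack6 : MatPack.rowsOK 248 Mat248.m6 Pack248.p6 = true := by decide +kernel
theorem pack8 : MatPack.rowsOK 248 Mat248.m8 Pack248.p8 = true := by decide +kernel
theorem pack10 : MatPack.rowsOK 248 Mat248.m10 Pack248.p10 = true := by decide +kernel
theorem pack11 : MatPack.rowsOK 248 Mat248.m11 Pack248.p11 = true := by decide +kernel
theorem pack12 : MatPack.rowsOK 248 Mat248.m12 Pack248.p12 = true := by decide +kernel
theorem pack13 : MatPack.rowsOK 248 Mat248.m13 Pack248.p13 = true := by decide +kernel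
theorem pack14 : MatPack.rowsOK 248 Mat248.m14 Pack248.p14 = true := by decide +kernel
theorem pack15 : MatPack.rowsOK 248 Mat248.m15 Pack248.p15 = true := by decide +kernel

theorem pack_ok {x : ℕ} (hx : x < 16) :
    MatPack.rowsOK 248 (MatCheck.rowsOf Mat248.gens x) (Pack248.gens.getD x []) = true := by
  match x, hx with
  | 0, _ => exact pack0
  | 1, _ => exact pack0
  | 2, _ => exact pack2
  | 3, _ => exact pack2
  | 4, _ => exact pack4
  | 5, _ => exact pack4
  | 6, _ => exact pack6
  | 7, _ => exact pack6
  | 8, _ => exact pack8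
  | 9, _ => exact pack8
  | 10, _ => exact pack10
  | 11, _ => exact pack11
  | 12, _ => exact pack12
  | 13, _ => exact pack13
  | 14, _ => exact pack14
  | 15, _ => exact pack15
  | n + 16, h => omega

/-- A checked word is the identity in the representation. -/
theorem isOne_mat {w : List ℕ} (hw : w.all (fun x => Nat.blt x 16) = true)
    (h : MatPack.isOne 248 Pack248.gens w = true) : (w.map (MatCheck.mat 248 3 Mat248.gens)).prod = 1 := by
  refine MatPack.isOne_spec (by norm_num) (by norm_num) (fun x hx => pack_ok ?_) h
  have := List.all_eq_true.1 hw x hx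
  rwa [Nat.blt_eq] at this

/-- A checked entry of the representation is not zero. -/
theorem entryNe_mat {w : List ℕ} (hw : w.all (fun x => Nat.blt x 16) = true) {i j : ℕ} (hi : i < 248) (hj : j < 248)
    (h : MatPack.entryNe 248 Pack248.gens w i j = true) :
    (w.map (MatCheck.mat 248 3 Mat248.gens)).prod ⟨i, hi⟩ ⟨j, hj⟩ ≠ 0 := by
  refine MatPack.entryNe_spec (by norm_num) (fun x hx => pack_ok ?_) hi hj h
  have := List.all_eq_true.1 hw x hx
  rwa [Nat.blt_eq] at this

end CfsgLib.Th
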