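import Cfsg.Agent.Lib.Th.Triality
import Cfsg.Agent.Lib.Th.MatData
import Cfsg.Agent.Lib.Th.Cert.MatOK0
import Cfsg.Agent.Lib.Th.Cert.MatOK1
import Cfsg.Agent.Lib.Th.Cert.MatOK2
import Cfsg.Agent.Lib.Th.Cert.Small
import Mathlib.LinearAlgebra.Matrix.GeneralLinearGroup.Defs
import Mathlib.Algebra.Field.ZMod

/-!
The representation of the presented Thompson group of dimension 248 modulo 3, and what it shows about
the triality subgroup.
-/
set_option autoImplicit false
set_option maxRecDepth 8000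

namespace CfsgLib.Th

open Cfsg.Spor CfsgLib.Presented CfsgLib.Presented.MatCheck

/-- the matrices of the letters -/
noncomputable abbrev thMat (x : ℕ) : Matrix (Fin 248) (Fin 248) (ZMod 3) := mat 248 3 Mat248.gens x

/-- the pairs of inverse letters -/
def invPairs : List (List ℕ) := [[0, 1], [1, 0], [2, 3], [3, 2], [4, 5], [5, 4], [6, 7], [7, 6], [8, 9], [9, 8], [10, 11],
    [11, 10], [12, 13], [13, 12], [14, 15], [15, 14]]

theorem mat_pairs_ok : ∀ w ∈ invPairs, MatPack.isOne 248 Pack248.gens w = true :=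
  (List.forall_mem_cons.2 ⟨MatOK.w39, (List.forall_mem_cons.2 ⟨MatOK.w40, (List.forall_mem_cons.2 ⟨MatOK.w41, (List.forall_mem_cons.2 ⟨MatOK.w42, (List.forall_mem_cons.2 ⟨MatOK.w43, (List.forall_mem_cons.2 ⟨MatOK.w44, (List.forall_mem_cons.2 ⟨MatOK.w45, (List.forall_mem_cons.2 ⟨MatOK.w46, (List.forall_mem_cons.2 ⟨MatOK.w47, (List.forall_mem_cons.2 ⟨MatOK.w48, (List.forall_mem_cons.2 ⟨MatOK.w49, (List.forall_mem_cons.2 ⟨MatOK.w50, (List.forall_mem_cons.2 ⟨MatOK.w51, (List.forall_mem_cons.2 ⟨MatOK.w52, (List.forall_mem_cons.2 ⟨MatOK.w53, (List.forall_mem_cons.2 ⟨MatOK.w54, (fun _ h => nomatch h)⟩)⟩)⟩)⟩)⟩)⟩)⟩)⟩)⟩)⟩)⟩)⟩)⟩)⟩)⟩)⟩)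

theorem mat_rels_ok : ∀ w ∈ relWords, MatPack.isOne 248 Pack248.gens w = true :=
  (List.forall_mem_cons.2 ⟨MatOK.w0, (List.forall_mem_cons.2 ⟨MatOK.w1, (List.forall_mem_cons.2 ⟨MatOK.w2, (List.forall_mem_cons.2 ⟨MatOK.w3, (List.forall_mem_cons.2 ⟨MatOK.w4, (List.forall_mem_cons.2 ⟨MatOK.w5, (List.forall_mem_cons.2 ⟨MatOK.w6, (List.forall_mem_cons.2 ⟨MatOK.w7, (List.forall_mem_cons.2 ⟨MatOK.w8, (List.forall_mem_cons.2 ⟨MatOK.w9, (List.forall_mem_cons.2 ⟨MatOK.w10, (List.forall_mem_cons.2 ⟨MatOK.w11, (List.forall_mem_cons.2 ⟨MatOK.w12, (List.forall_mem_cons.2 ⟨MatOK.w13, (List.forall_mem_cons.2 ⟨MatOK.w14, (List.forall_mem_cons.2 ⟨MatOK.w15, (List.forall_mem_cons.2 ⟨MatOK.w16, (List.forall_mem_cons.2 ⟨MatOK.w17, (List.forall_mem_cons.2 ⟨MatOK.w18, (List.forall_mem_cons.2 ⟨MatOK.w19, (List.forall_mem_cons.2 ⟨MatOK.w20, (List.forall_mem_cons.2 ⟨MatOK.w21, (List.forall_mem_cons.2 ⟨MatOK.w22, (List.forall_mem_cons.2 ⟨MatOK.w23, (List.forall_mem_cons.2 ⟨MatOK.w24, (List.forall_mem_cons.2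 ⟨MatOK.w25, (List.forall_mem_cons.2 ⟨MatOK.w26, (List.forall_mem_cons.2 ⟨MatOK.w27, (List.forall_mem_cons.2 ⟨MatOK.w28, (List.forall_mem_cons.2 ⟨MatOK.w29, (List.forall_mem_cons.2 ⟨MatOK.w30, (List.forall_mem_cons.2 ⟨MatOK.w31, (List.forall_mem_cons.2 ⟨MatOK.w32, (List.forall_mem_cons.2 ⟨MatOK.w33, (List.forall_mem_cons.2 ⟨MatOK.w34, (List.forall_mem_cons.2 ⟨MatOK.w35, (List.forall_mem_cons.2 ⟨MatOK.w36, (List.forall_mem_cons.2 ⟨MatOK.w37, (List.forall_mem_cons.2 ⟨MatOK.w38, (fun _ h => nomatch h)⟩)⟩)⟩)⟩)⟩)⟩)⟩)⟩)⟩)⟩)⟩)⟩)⟩)⟩)⟩)⟩)⟩)⟩)⟩)⟩)⟩)⟩)⟩)⟩)⟩)⟩)⟩)⟩)⟩)⟩)⟩)⟩)⟩)⟩)⟩)⟩)⟩)⟩)⟩)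

theorem relWords_lt : ∀ w ∈ relWords, w.all (fun x => Nat.blt x 16) = true :=
  List.all_eq_true.1 (show (relWords.all fun w => w.all fun x => Nat.blt x 16) = true by decide +kernel)

theorem invPairs_lt : ∀ w ∈ invPairs, w.all (fun x => Nat.blt x 16) = true :=
  List.all_eq_true.1 (show (invPairs.all fun w => w.all fun x => Nat.blt x 16) = true by decide +kernel)

theorem mat_pair {a b : ℕ} (h : [a, b] ∈ invPairs) : thMat a * thMat b = 1 := by
  simpa [thMat] using isOne_mat (invPairs_lt _ h) (mat_pairs_ok _ h)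

/-- the images of the generators -/
noncomputable def imgTh : Th.Gen → GL (Fin 248) (ZMod 3)
  | .a => ⟨thMat 0, thMat 1, mat_pair (by decide), mat_pair (by decide)⟩
  | .b => ⟨thMat 2, thMat 3, mat_pair (by decide), mat_pair (by decide)⟩
  | .c => ⟨thMat 4, thMat 5, mat_pair (by decide), mat_pair (by decide)⟩
  | .d => ⟨thMat 6, thMat 7, mat_pair (by decide), mat_pair (by decide)⟩
  | .e => ⟨thMat 8, thMat 9, mat_pair (by decide), mat_pair (by decide)⟩
  | .s => ⟨thMat 10, thMat 11, mat_pair (by decide), mat_pair (by decide)⟩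
  | .t => ⟨thMat 12, thMat 13, mat_pair (by decide), mat_pair (by decide)⟩
  | .u => ⟨thMat 14, thMat 15, mat_pair (by decide), mat_pair (by decide)⟩

theorem val_evW_imgTh {w : List ℕ} (hw : ∀ x ∈ w, x < 16) :
    ((evW (letters.ev imgTh) w : GL (Fin 248) (ZMod 3)) : Matrix (Fin 248) (Fin 248) (ZMod 3)) =
      (w.map thMat).prod := by
  rw [evW, ← Units.coeHom_apply, map_list_prod, List.map_map]
  refine congrArg List.prod (List.map_congr_left fun x hx => ?_)
  have hx16 : x < 16 := hw x hx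
  interval_cases x <;> rfl

theorem imgTh_rels : ∀ w ∈ letters.extraWords Th.extra, evW (letters.ev imgTh) w = 1 := by
  intro w hw
  have hw' : w ∈ relWords := by rw [relWords_eq]; exact List.mem_append.2 (Or.inr hw)
  have hall := relWords_lt w hw'
  have hlt : ∀ x ∈ w, x < 16 := fun x hx => by
    have := List.all_eq_true.1 hall x hx
    rwa [Nat.blt_eq] at this
  apply Units.ext
  rw [Units.val_one, val_evW_imgTh hlt]
  exact isOne_mat hall (mat_rels_ok w hw')

theorem imgTh_kills : ∀ r ∈ coxRelators Th.edges ∪ {r | r ∈ Th.extra}, FreeGroup.lift imgTh r = 1 :=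
  Letters.kills letters_valid nodes_valid full (fun g hg => absurd hg (by simp [letters]))
    (fun w hw => absurd hw (by simp [Letters.coxWords, letters])) imgTh_rels

/-- the representation -/
noncomputable def rho : Cfsg.Spor.Th →* GL (Fin 248) (ZMod 3) := PresentedGroup.toGroup imgTh_kills

theorem rho_evW (w : List ℕ) : rho (evW ev w) = evW (letters.ev imgTh) w := by
  rw [map_evW]
  simp [rho, PresentedGroup.toGroup.of]

/-- preserving the first 52 coordinates -/
def Block (M : Matrix (Fin 248) (Fin 248) (ZMod 3)) : Prop :=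
  ∀ i j : Fin 248, (i : ℕ) < 52 → 52 ≤ (j : ℕ) → M i j = 0

theorem Block.one : Block 1 := fun i j hi hj =>
  Matrix.one_apply_ne fun e => by rw [e] at hi; omega

theorem Block.mul {A B : Matrix (Fin 248) (Fin 248) (ZMod 3)} (hA : Block A) (hB : Block B) : Block (A * B) := by
  intro i j hi hj
  rw [Matrix.mul_apply]
  refine Finset.sum_eq_zero fun k _ => ?_
  rcases Nat.lt_or_ge (k : ℕ) 52 with hk | hk
  · rw [hB k j hk hj, mul_zero]
  · rw [hA i k hi hk, zero_mul]

theorem coeff_eq_zero {k : ℕ} : ∀ {row : List (ℕ × ℕ)}, (∀ p ∈ row, p.1 ≠ k) → coeff row k = 0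
  | [], _ => rfl
  | p :: row, h => by
    have ih := coeff_eq_zero (row := row) fun q hq => h q (List.mem_cons_of_mem _ hq)
    simp only [coeff] at ih ⊢
    simp [h p List.mem_cons_self, ih]

theorem block_letters_ok : ((List.range 14).all fun x => (List.range 52).all fun i =>
    ((rowsOf Mat248.gens x).get i).all fun p => Nat.blt p.1 52) = true := by decide +kernel

theorem block_thMat {x : ℕ} (hx : x < 14) : Block (thMat x) := by
  intro i j hi hj
  simp only [thMat, mat, RingHom.mapMatrix_apply, Matrix.map_apply, natMat]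
  rw [coeff_eq_zero fun p hp => ?_, map_zero]
  have h := List.all_eq_true.1 (List.all_eq_true.1
    (List.all_eq_true.1 block_letters_ok x (List.mem_range.2 hx)) i (List.mem_range.2 hi)) p hp
  rw [Nat.blt_eq] at h
  omega

theorem block_evW {w : List ℕ} (hw : ∀ x ∈ w, x < 14) : Block (w.map thMat).prod := by
  induction w with
  | nil => exact Block.one
  | cons x w ih =>
    rw [List.map_cons, List.prod_cons]
    exact (block_thMat (hw x List.mem_cons_self)).mul (ih fun y hy => hw y (List.mem_cons_of_mem _ hy))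

theorem iota_block (h : HT) : Block (rho (iota h) : GL (Fin 248) (ZMod 3)).val := by
  have hmem : h ∈ Subgroup.closure (hev '' Set.Iio alphabet.eps) := hgen_top ▸ Subgroup.mem_top h
  induction hmem using Subgroup.closure_induction'' with
  | one => simpa using Block.one
  | mem y hy =>
    obtain ⟨x, hx, rfl⟩ := hy
    have hx' : x < 16 := hx
    rcases Nat.lt_or_ge x 14 with h14 | h14
    · have : iota (hev x) = evW ev [x] := by
        rw [← iota_evW (w := [x]) (by simp [noU, h14])]
        simp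
      rw [this, rho_evW, val_evW_imgTh (by simpa using hx')]
      exact block_evW (by simpa using h14)
    · have hu : hev x = 1 := by
        obtain rfl | rfl : x = 14 ∨ x = 15 := by omega
        · exact hev_u
        · have := (letters_good (extra := hExtra)).inv 14 (by decide)
          rw [show alphabet.invl 14 = 15 by decide +kernel] at this
          have h14 : letters.ev (fun g => (PresentedGroup.of g : HT)) 14 = 1 := hev_u
          rwa [h14, mul_one] at this
      rw [hu, map_one, map_one]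
      exact Block.one
  | inv_mem y hy =>
    obtain ⟨x, hx, rfl⟩ := hy
    have hx' : x < 16 := hx
    rw [← eq_inv_of_mul_eq_one_left ((letters_good (extra := hExtra)).inv x hx'.le)]
    rcases Nat.lt_or_ge x 14 with h14 | h14
    · have hlt : alphabet.invl x < 14 := by
        have : ((List.range 14).all fun y => Nat.blt (alphabet.invl y) 14) = true := by decide +kernel
        have := List.all_eq_true.1 this x (List.mem_range.2 h14)
        rwa [Nat.blt_eq] at this
      have : iota (hev (alphabet.invl x)) = evW ev [alphabet.invl x] := by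
        rw [← iota_evW (w := [alphabet.invl x]) (by simp [noU, hlt])]
        simp
      rw [this, rho_evW, val_evW_imgTh (fun y hy => by simp at hy; omega)]
      exact block_evW (by simpa using hlt)
    · have hu : hev (alphabet.invl x) = 1 := by
        have h15 : hev 15 = 1 := by
          have := (letters_good (extra := hExtra)).inv 14 (by decide)
          rw [show alphabet.invl 14 = 15 by decide +kernel] at this
          have h14' : letters.ev (fun g => (PresentedGroup.of g : HT)) 14 = 1 := hev_u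
          rwa [h14', mul_one] at this
        obtain rfl | rfl : x = 14 ∨ x = 15 := by omega
        · rw [show alphabet.invl 14 = 15 by decide +kernel]; exact h15
        · rw [show alphabet.invl 15 = 14 by decide +kernel]; exact hev_u
      rw [show letters.ev (fun g => (PresentedGroup.of g : HT)) (alphabet.invl x) = 1 from hu, map_one, map_one]
      exact Block.one
  | mul y z _ _ ihy ihz =>
    rw [map_mul, map_mul, Units.val_mul]
    exact ihy.mul ihz

/-- An entry outside the block is not zero: the word is no element of the triality subgroup. -/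
noncomputable def offBlock (w : List ℕ) (i j : ℕ) : Bool :=
  w.all (fun x => Nat.blt x 16) && Nat.blt i 52 && Nat.ble 52 j && Nat.blt j 248 &&
    MatPack.entryNe 248 Pack248.gens w i j

theorem not_mem_of_offBlock {w : List ℕ} {i j : ℕ} (h : offBlock w i j = true) : evW ev w ∉ iota.range := by
  simp only [offBlock, Bool.and_eq_true, Nat.blt_eq, Nat.ble_eq] at h
  obtain ⟨⟨⟨⟨hall, hi⟩, hj⟩, hj'⟩, hne⟩ := h
  have hlt : ∀ x ∈ w, x < 16 := fun x hx => by
    have := List.all_eq_true.1 hall x hx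
    rwa [Nat.blt_eq] at this
  rintro ⟨x, hx⟩
  have hblock := iota_block x
  rw [hx, rho_evW, val_evW_imgTh hlt] at hblock
  exact entryNe_mat hall (i := i) (j := j) (by omega) hj' hne (hblock ⟨i, by omega⟩ ⟨j, hj'⟩ hi hj)

theorem orbWords_ok : (((Small.orbWords).drop 1).all fun e => offBlock e.1 e.2.1 e.2.2) = true := by decide +kernel

theorem lReps_ok : (Small.lReps.all fun e => offBlock ([14] ++ e.1 ++ [15]) e.2.1 e.2.2 && e.1.all noU) = true := by
  decide +kernel

end CfsgLib.Th
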