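import Cfsg.Agent.Lib.Th.Rows
import Cfsg.Agent.Lib.Th.Rho
import Cfsg.Agent.Lib.Th.Cert.CoverData
import Cfsg.Agent.Lib.Th.Cert.Row6
import Cfsg.Agent.Lib.Th.Cert.DceOK

/-!
The checked rows of the neighbour table, the separation of the eleven orbits and the subgroup of the labels.
-/
set_option autoImplicit false
set_option maxRecDepth 8000
set_option Elab.async false

namespace CfsgLib.Th

open CfsgLib.Presented CfsgLib.Presented.Vec

/-- number of records -/
abbrev nRec : ℕ := 4311

theorem hall : ∀ m < nRec, DceData.cert.Holds m := Cert.holds_of_ok DceOK.ok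

/-- the named cosets -/
noncomputable abbrev C (j : ℕ) : Cosets := DceData.cert.C j

/-- the check of one row -/
noncomputable def rowCheck (r : ℕ × List ℕ × List (ℕ × List ℕ × ℕ × ℕ)) : Bool :=
  DceData.cert.rowOK nRec r.1 (DceData.cert.stabWords nRec r.1 r.2.1) r.2.2 0

theorem row1_ok : rowCheck (1, CoverData.gens1, CoverData.cls1) = true := by decide +kernel

theorem row2_ok : rowCheck (2, CoverData.gens2, CoverData.cls2) = true := by decide +kernel

theorem row3_ok : rowCheck (3, CoverData.gens3, CoverData.cls3) = true := by decide +kernel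

theorem row4_ok : rowCheck (4, CoverData.gens4, CoverData.cls4) = true := by decide +kernel

theorem row5_ok : rowCheck (5, CoverData.gens5, CoverData.cls5) = true := by decide +kernel

theorem row6_ok : rowCheck (6, CoverData.gens6, CoverData.cls6) = true := Row6.ok

theorem row7_ok : rowCheck (7, CoverData.gens7, CoverData.cls7) = true := by decide +kernel

theorem row8_ok : rowCheck (8, CoverData.gens8, CoverData.cls8) = true := by decide +kernel

theorem row9_ok : rowCheck (9, CoverData.gens9, CoverData.cls9) = true := by decide +kernel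

theorem row10_ok : rowCheck (10, CoverData.gens10, CoverData.cls10) = true := by decide +kernel

theorem rows_ok : ∀ r ∈ CoverData.orbits, rowCheck r = true := by
  intro r hr
  simp only [CoverData.orbits, List.mem_cons, List.not_mem_nil, or_false] at hr
  rcases hr with rfl | rfl | rfl | rfl | rfl | rfl | rfl | rfl | rfl | rfl
  exacts [row1_ok, row2_ok, row3_ok, row4_ok, row5_ok, row6_ok, row7_ok, row8_ok, row9_ok, row10_ok]

/-- the row of an orbit -/
noncomputable def row (i : ℕ) : List ℕ × List (ℕ × List ℕ × ℕ × ℕ) := (CoverData.orbits.getD (i - 1) (0, [], [])).2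

theorem row_spec {i : ℕ} (h1 : 1 ≤ i) (h11 : i < 11) :
    DceData.cert.rowOK nRec i (DceData.cert.stabWords nRec i (row i).1) (row i).2 0 = true := by
  obtain ⟨i, rfl⟩ := Nat.exists_eq_add_of_le' h1
  have hl : i < CoverData.orbits.length := by
    show i < 10
    omega
  have h := rows_ok _ (List.getElem_mem hl)
  have e : (CoverData.orbits[i]).1 = i + 1 := by
    have : ∀ k < 10, (CoverData.orbits.getD k (0, [], [])).1 = k + 1 := by decide +kernel
    have := this i (by omega)
    rwa [List.getD_eq_getElem _ _ hl] at this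
  rw [rowCheck, e] at h
  simpa [row, hl] using h

/-- the number of labels at orbit `i` with neighbour in orbit `j` -/
noncomputable def cnt (i j : ℕ) : ℕ := (CoverData.counts.getD i []).getD j 0

theorem cnt_row : ∀ i < 11, ∀ j < 11, 1 ≤ i → cntOf (row i).2 j = cnt i j := by decide +kernel

theorem row_targets : ∀ i < 11, 1 ≤ i → ∀ c ∈ (row i).2, c.1 < 11 := by decide +kernel

theorem C_zero : C 0 = c0 := DceData.cert.C_zero

theorem C_step : ∀ j < 11, 1 ≤ j → (DceData.cert.defs.getD j (0, [])).1 < j := by decide +kernel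

theorem C_succ {j : ℕ} (h1 : 1 ≤ j) (h11 : j < 11) :
    C j = U⁻¹ • (hv (DceData.cert.defs.getD j (0, [])).2)⁻¹ • C (DceData.cert.defs.getD j (0, [])).1 := by
  show DceData.cert.C j = _
  rw [Cert.C, if_pos (C_step j h11 h1), rt, rt]

theorem iota_smul_c0 (x : HT) : iota x • c0 = c0 := by
  rw [c0, MulAction.Quotient.smul_coe, smul_eq_mul, mul_one, QuotientGroup.eq, mul_one]
  exact Subgroup.inv_mem _ ⟨x, rfl⟩

theorem nb_c0 (x : HT) : nb x c0 = C 1 := by
  rw [nb, ← map_inv, iota_smul_c0, C_succ (by decide) (by decide)]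
  have e : DceData.cert.defs.getD 1 (0, []) = (0, []) := by decide +kernel
  rw [e, hv_nil, inv_one, one_smul, C_zero]

/-- the words of the named cosets -/
def cWord (j : ℕ) : List ℕ := (Small.orbWords.getD j ([], 0, 0)).1

theorem C_word : ∀ {j : ℕ}, j < 11 → C j = (evW ev (cWord j))⁻¹ • c0 := by
  intro j
  induction j using Nat.strong_induction_on with
  | _ j ih =>
    intro hj
    rcases Nat.eq_zero_or_pos j with rfl | h
    · rw [C_zero, show cWord 0 = [] from rfl, evW_nil, inv_one, one_smul]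
    · have hlt := C_step j hj h
      have hw : ∀ k < 11, 1 ≤ k →
          (DceData.cert.defs.getD k (0, [])).2.all noU = true ∧
          cWord (DceData.cert.defs.getD k (0, [])).1 ++ (DceData.cert.defs.getD k (0, [])).2 ++ [14] = cWord k := by
        decide +kernel
      obtain ⟨h1, h2⟩ := hw j hj h
      rw [C_succ h hj, ih _ hlt (hlt.trans hj), hv_eq h1, ← h2, evW_append, evW_append, evW_cons, evW_nil,
        mul_one, mul_inv_rev, mul_inv_rev, mul_smul, mul_smul]
      rfl

theorem smul_c0_eq_iff {g : Cfsg.Spor.Th} : g • c0 = c0 ↔ g ∈ Hs := by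
  rw [c0, MulAction.Quotient.smul_coe, smul_eq_mul, mul_one, QuotientGroup.eq, mul_one, inv_mem_iff]

theorem sep_zero {j : ℕ} (hj : j < 11) (h1 : 1 ≤ j) : ¬ InOrb (C 0) (C j) := by
  rintro ⟨x, hx⟩
  rw [C_zero, iota_smul_c0, C_word hj, smul_c0_eq_iff, inv_mem_iff] at hx
  have hl : j < Small.orbWords.length := by
    show j < 11
    exact hj
  have h := List.all_eq_true.1 orbWords_ok (Small.orbWords[j]) (by
    obtain ⟨j, rfl⟩ := Nat.exists_eq_add_of_le' h1
    rw [List.mem_iff_getElem]
    exact ⟨j, by simp; omega, by simp⟩)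
  exact not_mem_of_offBlock h (by simpa [cWord, hl] using hx)

/-- `j` is separated from every other orbit -/
def Sep (j : ℕ) : Prop := ∀ k < 11, k ≠ j → ¬ InOrb (C j) (C k)

theorem sep0 : Sep 0 := fun _ hk hne => sep_zero hk (Nat.one_le_iff_ne_zero.2 hne)

/-- the labels at a coset whose neighbour is in an orbit -/
noncomputable def nbCount (q : Cosets) (j : ℕ) : ℕ :=
  Nat.card {p : Fin R17.N // InOrb (C j) (nb (rep p) q)}

theorem nbCount_inOrb {q q' : Cosets} (h : InOrb q q') (j : ℕ) : nbCount q j = nbCount q' j := by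
  obtain ⟨x, rfl⟩ := h
  refine Nat.card_congr (Equiv.subtypeEquiv (lact x) fun p => ?_)
  have e : InOrb (nb (rep p) q) (nb (rep (lact x p)) (iota x • q)) := by
    have e2 : nb (rep p) q = nb (x * rep p) (iota x • q) := by
      simp only [nb, map_mul, mul_inv_rev, ← mul_smul, mul_assoc, inv_mul_cancel, mul_one]
    rw [e2]
    refine nb_congr ?_ _
    rw [map_mul, Equiv.Perm.mul_apply, lact_rep, lact_rep]
  exact ⟨fun h => h.trans e, fun h => h.trans e.symm⟩

theorem nbCount_zero {j : ℕ} (hj : j < 11) (hs : Sep j) : nbCount (C 0) j = cnt 0 j := by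
  have e : ∀ k < 11, cnt 0 k = if k = 1 then 17199 else 0 := by decide +kernel
  rw [e j hj, nbCount, C_zero]
  simp only [nb_c0]
  split_ifs with h
  · subst h
    rw [Nat.card_congr (Equiv.subtypeUnivEquiv fun _ => InOrb.refl _), Nat.card_fin]
    rfl
  · rw [Nat.card_eq_zero]
    exact Or.inl ⟨fun p => hs 1 (by decide) (Ne.symm h) p.2⟩

theorem nbCount_eq {i j : ℕ} (hi : i < 11) (hj : j < 11) (hs : Sep j) : nbCount (C i) j = cnt i j := by
  rcases Nat.eq_zero_or_pos i with rfl | h1
  · exact nbCount_zero hj hs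
  rw [← cnt_row i hi j hj h1, ← Cert.rowOK_count hall
    (fun c hc hne => hs c.1 (row_targets i hi h1 c hc) hne) (row_spec h1 hi)]
  exact Nat.card_congr (Equiv.subtypeEquivRight fun p => by simp)

theorem sep_of_cols {j : ℕ} (hj : j < 11) (cols : List ℕ) (hcols : ∀ m ∈ cols, m < 11 ∧ Sep m)
    (h : ∀ k < 11, k ≠ j → ∃ m ∈ cols, cnt j m ≠ cnt k m) : Sep j := by
  intro k hk hne hin
  obtain ⟨m, hm, hd⟩ := h k hk hne
  obtain ⟨hm11, hms⟩ := hcols m hm
  exact hd (by rw [← nbCount_eq hj hm11 hms, ← nbCount_eq hk hm11 hms, nbCount_inOrb hin])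

theorem sep1 : Sep 1 :=
  sep_of_cols (by decide) [0] (by simp [sep0]) (by decide +kernel)

theorem sep2 : Sep 2 :=
  sep_of_cols (by decide) [0, 1] (by simp [sep0, sep1]) (by decide +kernel)

theorem sep_all : ∀ j < 11, Sep j := by
  have h3 : ∀ j ∈ ([3, 4, 5, 6, 7, 8] : List ℕ), ∀ k < 11, k ≠ j → ∃ m ∈ ([0, 1, 2] : List ℕ), cnt j m ≠ cnt k m := by decide +kernel
  have hsmall : ∀ j < 9, Sep j := by
    intro j hj
    rcases Nat.lt_or_ge j 3 with h | h
    · interval_cases j
      exacts [sep0, sep1, sep2]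
    · exact sep_of_cols (by omega) [0, 1, 2] (by simp [sep0, sep1, sep2]) (h3 j (by simp only [List.mem_cons, List.not_mem_nil, or_false]; omega))
  have h9 : ∀ j ∈ ([9, 10] : List ℕ), ∀ k < 11, k ≠ j → ∃ m ∈ ([0, 1, 2, 3] : List ℕ), cnt j m ≠ cnt k m := by decide +kernel
  intro j hj
  rcases Nat.lt_or_ge j 9 with h | h
  · exact hsmall j h
  · exact sep_of_cols hj [0, 1, 2, 3] (by
      simp [sep0, sep1, sep2, hsmall 3 (by decide)]) (h9 j (by simp only [List.mem_cons, List.not_mem_nil, or_false]; omega))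

/-- Orbits of different names are different. -/
theorem orb_unique {i j : ℕ} (hi : i < 11) (hj : j < 11) {q : Cosets} (h : InOrb (C i) q) (h' : InOrb (C j) q) :
    i = j := by
  by_contra hne
  exact sep_all i hi j hj (Ne.symm hne) (h.trans h'.symm)

theorem nb_covered {i : ℕ} (hi : i < 11) (x : HT) : ∃ j < 11, InOrb (C j) (nb x (C i)) := by
  rcases Nat.eq_zero_or_pos i with rfl | h1
  · exact ⟨1, by decide, by rw [C_zero, nb_c0]; exact InOrb.refl _⟩
  obtain ⟨c, hc, h⟩ := Cert.rowOK_orbit hall (lact x pt0) (row_spec h1 hi) (Nat.zero_testBit _)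
  exact ⟨c.1, row_targets i hi h1 c hc, h.trans (rep_congr _)⟩

/-- Every coset lies in one of the eleven orbits. -/
theorem covered (q : Cosets) : ∃ j < 11, InOrb (C j) q := by
  suffices h : ∀ g : Cfsg.Spor.Th, ∀ q : Cosets, (∃ j < 11, InOrb (C j) q) → ∃ j < 11, InOrb (C j) (g • q) by
    induction q using QuotientGroup.induction_on with
    | H g =>
      have := h g c0 ⟨0, by decide, by rw [C_zero]; exact InOrb.refl _⟩
      rwa [c0, MulAction.Quotient.smul_coe, smul_eq_mul, mul_one] at this
  have hH : ∀ (x : HT) (q : Cosets), (∃ j < 11, InOrb (C j) q) → ∃ j < 11, InOrb (C j) (iota x • q) :=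
    fun x q ⟨j, hj, h⟩ => ⟨j, hj, h.smul x⟩
  have hU' : ∀ q : Cosets, (∃ j < 11, InOrb (C j) q) → ∃ j < 11, InOrb (C j) (U⁻¹ • q) := by
    rintro q ⟨j, hj, x, rfl⟩
    have := nb_covered hj x⁻¹
    rwa [nb, map_inv, inv_inv] at this
  have hU : ∀ q : Cosets, (∃ j < 11, InOrb (C j) q) → ∃ j < 11, InOrb (C j) (U • q) := by
    intro q hq
    have := hU' _ (hH (evW hev [0, 4]) q hq)
    rwa [← hv, ← U_sq, ← mul_smul, inv_mul_cancel_left] at this
  intro g
  have hg : g ∈ Subgroup.closure (ev '' Set.Iio alphabet.eps) := gen_top ▸ Subgroup.mem_top g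
  have hboth : (∀ q : Cosets, (∃ j < 11, InOrb (C j) q) → ∃ j < 11, InOrb (C j) (g • q)) ∧
      ∀ q : Cosets, (∃ j < 11, InOrb (C j) q) → ∃ j < 11, InOrb (C j) (g⁻¹ • q) := by
    induction hg using Subgroup.closure_induction with
    | mem y hy =>
      obtain ⟨x, hx, rfl⟩ := hy
      have hx16 : x < 16 := hx
      rcases Nat.lt_or_ge x 14 with h14 | h14
      · have e : ev x = iota (evW hev [x]) := by
          rw [iota_evW (w := [x]) (by simp [noU, h14])]
          simp
        rw [e]
        exact ⟨hH _, by rw [← map_inv]; exact hH _⟩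
      · obtain rfl | rfl : x = 14 ∨ x = 15 := by omega
        · exact ⟨hU, hU'⟩
        · rw [ev15, inv_inv]
          exact ⟨hU', hU⟩
    | one => simp
    | mul y z _ _ ihy ihz =>
      exact ⟨fun q h => by rw [mul_smul]; exact ihy.1 _ (ihz.1 _ h),
        fun q h => by rw [mul_inv_rev, mul_smul]; exact ihz.2 _ (ihy.2 _ h)⟩
    | inv y _ ih => exact ⟨ih.2, by rw [inv_inv]; exact ih.1⟩
  exact hboth.1

/-! ### the labels -/

theorem lRep_orbits : Nat.beq (Nat.lor 1 (grow R17 (lGens ++ lGens.map (invWord alphabet)) Small.lRounds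
    (seedBits (Small.lReps.map Prod.fst)))) (ones R17.N) = true := by decide +kernel

theorem conj_mem {x : HT} (h : U⁻¹ * iota x * U ∈ Hs) : x ∈ Lsub := by
  by_contra hx
  have hp : lact x pt0 ≠ pt0 := fun e => hx (mem_Lsub_iff.2 e)
  have hbit : (grow R17 (lGens ++ lGens.map (invWord alphabet)) Small.lRounds
      (seedBits (Small.lReps.map Prod.fst))).testBit (lact x pt0 : ℕ) = true := by
    have h1 := congrArg (fun v => v.testBit (lact x pt0 : ℕ)) (Nat.eq_of_beq_eq_true lRep_orbits)
    simp only [testBit_ones, decide_eq_true (lact x pt0).2] at h1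
    change Nat.testBit (_ ||| _) _ = true at h1
    rw [Nat.testBit_or, Bool.or_eq_true] at h1
    exact h1.resolve_left fun h => hp (Fin.ext (VCert.one_bit h))
  have hsm : ∀ w ∈ Small.lReps.map Prod.fst, small w = true := by decide +kernel
  have hgens : ∀ w ∈ lGens ++ lGens.map (invWord alphabet), small w = true ∧ evW hev w ∈ Lsub := by
    intro w hw
    have hs : ∀ v ∈ lGens, small v = true := by decide +kernel
    rcases List.mem_append.1 hw with h | h
    · exact ⟨hs w h, Subgroup.subset_closure ⟨w, h, rfl⟩⟩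
    · obtain ⟨v, hv', rfl⟩ := List.mem_map.1 h
      refine ⟨small_invWord (hs v hv'), ?_⟩
      rw [evW_invWord (letters_good (extra := hExtra)) fun y hy => ?_]
      · exact Lsub.inv_mem (Subgroup.subset_closure ⟨v, hv', rfl⟩)
      · have := List.all_eq_true.1 (hs v hv') y hy
        rw [Nat.blt_eq] at this
        exact this.le
  have key := grow_sound (fun k => ∀ y : HT, lact y pt0 = k → U⁻¹ * iota y * U ∉ Hs)
    (ws := lGens ++ lGens.map (invWord alphabet)) (fun w hw => ?_) Small.lRounds
    (seedBits (Small.lReps.map Prod.fst)) (fun k hk y hy => ?_) _ hbit x rfl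
  · exact key h
  · obtain ⟨hs, hm⟩ := hgens w hw
    refine ⟨hs, fun k hk y hy hmem => hk (evW hev w * y) (by rw [map_mul, Equiv.Perm.mul_apply, hy]) ?_⟩
    obtain ⟨v, hv'⟩ := exists_comm hm
    rw [map_mul]
    have : U⁻¹ * (iota (evW hev w) * iota y) * U = iota v * (U⁻¹ * iota y * U) := by
      rw [show iota (evW hev w) = U * iota v * U⁻¹ by rw [← hv']; group]
      group
    rw [this]
    exact Hs.mul_mem ⟨v, rfl⟩ hmem
  · obtain ⟨w, hw, e⟩ := seedBits_spec hsm hk
    obtain ⟨r, hr, rfl⟩ := List.mem_map.1 hw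
    intro hmem
    have hl : (evW hev r.1)⁻¹ * y ∈ Lsub := by
      rw [mem_Lsub_iff, map_mul, Equiv.Perm.mul_apply, hy, ← e, ← Equiv.Perm.mul_apply, ← map_mul, inv_mul_cancel,
        map_one, Equiv.Perm.one_apply]
    obtain ⟨v, hv'⟩ := exists_comm hl
    have hok := List.all_eq_true.1 lReps_ok r hr
    rw [Bool.and_eq_true] at hok
    refine not_mem_of_offBlock hok.1 ?_
    rw [evW_append, evW_append, evW_cons, evW_nil, mul_one, evW_cons, evW_nil, mul_one, ev15,
      show ev 14 = U from rfl, ← hv_eq hok.2, hv]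
    have hU2 : U * U ∈ Hs := by rw [U_sq, hv]; exact ⟨_, rfl⟩
    have e1 : U⁻¹ * iota (evW hev r.1) * U = U⁻¹ * iota y * U * (iota v)⁻¹ := by
      have e2 : iota ((evW hev r.1)⁻¹ * y) = U * iota v * U⁻¹ := by rw [← hv']; group
      rw [map_mul, map_inv] at e2
      rw [← mul_inv_cancel_left (iota (evW hev r.1)) (iota y), e2]
      group
    have e3 : U * iota (evW hev r.1) * U⁻¹ = U * U * (U⁻¹ * iota (evW hev r.1) * U) * (U * U)⁻¹ := by group
    rw [e3, e1]
    exact Hs.mul_mem (Hs.mul_mem hU2 (Hs.mul_mem hmem (Hs.inv_mem ⟨v, rfl⟩))) (Hs.inv_mem hU2)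

end CfsgLib.Th
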