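import Cfsg.Agent.Lib.Th.RelU

/-!
Kernel-checkable double coset enumeration: the cosets of the triality subgroup fall into its orbits, each
orbit named by one coset, with a list of derived edges along `u` and of stabilising elements.
-/
set_option autoImplicit false

namespace CfsgLib.Th

open CfsgLib.Presented

/-- a step along a known edge: stabilising elements and an element of the subgroup normalised by `u` -/
structure Step where
  e : ℕ
  k : List ℕ
  l : List ℕ

/-- a relator scanned from a state -/
structure Scan where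
  b : ℕ
  k : ℕ
  a : ℕ
  i : ℕ
  h : List ℕ
  fs : List Step
  bs : List Step

/-- where an edge comes from -/
inductive ESrc
  | dfn (j : ℕ)
  | rev (e : ℕ)
  | recan (e : ℕ)
  | scan (s : Scan)

/-- where a stabilising element comes from -/
inductive KSrc
  | cmp (e1 e2 : ℕ) (k l : List ℕ)
  | scan (s : Scan)

/-- a record -/
inductive Rec
  | edge (i : ℕ) (h : List ℕ) (j : ℕ) (g : List ℕ) (src : ESrc) (k l : List ℕ)
  | stab (i : ℕ) (w : List ℕ) (src : KSrc)

/-- a certificate -/
structure Cert where
  recs : ATree Rec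
  defs : List (ℕ × List ℕ)

/-- the subgroup -/
noncomputable abbrev Hs : Subgroup Cfsg.Spor.Th := iota.range

/-- the cosets -/
abbrev Cosets : Type := Cfsg.Spor.Th ⧸ Hs

/-- right action on left cosets -/
noncomputable def rt (q : Cosets) (g : Cfsg.Spor.Th) : Cosets := g⁻¹ • q

theorem rt_mul (q : Cosets) (g g' : Cfsg.Spor.Th) : rt q (g * g') = rt (rt q g) g' := by
  simp [rt, mul_smul]

theorem rt_one (q : Cosets) : rt q 1 = q := by simp [rt]

theorem rt_inj {q q' : Cosets} {g : Cfsg.Spor.Th} (h : rt q g = rt q' g) : q = q' :=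
  MulAction.injective g⁻¹ h

/-- the base coset -/
noncomputable def c0 : Cosets := ((1 : Cfsg.Spor.Th) : Cosets)

theorem rt_c0 (x : HT) : rt c0 (iota x) = c0 := by
  rw [rt, c0, MulAction.Quotient.smul_coe, smul_eq_mul, mul_one, QuotientGroup.eq, inv_inv, mul_one]
  exact ⟨x, rfl⟩

theorem rt_c0_hv (w : List ℕ) : rt c0 (hv w) = c0 := rt_c0 _

theorem U_sq : U * U = hv [0, 4] := by
  rw [hv_eq (by decide)]
  have h := rels_hold [14, 14, 5, 1] (by decide +kernel)
  have h5 : ev 5 * ev 4 = 1 := by
    have := (letters_good (extra := Cfsg.Spor.Th.extra)).inv 4 (by decide)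
    rwa [show alphabet.invl 4 = 5 by decide +kernel] at this
  have h1 : ev 1 * ev 0 = 1 := by
    have := (letters_good (extra := Cfsg.Spor.Th.extra)).inv 0 (by decide)
    rwa [show alphabet.invl 0 = 1 by decide +kernel] at this
  simp only [evW_cons, evW_nil, mul_one] at h ⊢
  rw [eq_inv_of_mul_eq_one_left h5, eq_inv_of_mul_eq_one_left h1] at h
  show ev 14 * ev 14 = ev 0 * ev 4
  calc ev 14 * ev 14 = ev 14 * (ev 14 * ((ev 4)⁻¹ * (ev 0)⁻¹)) * (ev 0 * ev 4) := by group
    _ = ev 0 * ev 4 := by rw [h, one_mul]

theorem U_inv : U⁻¹ = U * hv [5, 1] := by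
  have h : hv [5, 1] = (hv [0, 4])⁻¹ := by
    rw [← hv_invWord (by decide)]
    exact congrArg hv (by decide +kernel)
  rw [h, ← U_sq]
  group

variable (d : Cert)

/-- the named coset of an orbit -/
noncomputable def Cert.C (j : ℕ) : Cosets :=
  if (d.defs.getD j (0, [])).1 < j then
    rt (rt (Cert.C (d.defs.getD j (0, [])).1) (hv (d.defs.getD j (0, [])).2)) U
  else c0
termination_by j

theorem Cert.C_zero : d.C 0 = c0 := by rw [Cert.C]; simp

/-- the coset of a state -/
noncomputable def Cert.pt (p : ℕ × List ℕ) : Cosets := rt (d.C p.1) (hv p.2)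

theorem Cert.pt_zero (h : List ℕ) : d.pt (0, h) = c0 := by rw [Cert.pt, d.C_zero, rt_c0_hv]

theorem Cert.pt_append (i : ℕ) (u v : List ℕ) : d.pt (i, u ++ v) = rt (d.pt (i, u)) (hv v) := by
  rw [Cert.pt, Cert.pt, hv_append, rt_mul]

theorem Cert.pt_congr {i : ℕ} {u v : List ℕ} (h : (Nat.beq i 0 || same u v) = true) :
    d.pt (i, u) = d.pt (i, v) := by
  rw [Bool.or_eq_true] at h
  rcases h with h | h
  · rw [Nat.eq_of_beq_eq_true h, d.pt_zero, d.pt_zero]
  · rw [Cert.pt, Cert.pt, hv_same h]

/-- a generator of the subgroup or its inverse -/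
noncomputable def lPiece (gens : List (List ℕ)) (id : ℕ) : List ℕ :=
  cond (Nat.beq (id % 2) 0) (gens.getD (id / 2) []) (invWord alphabet (gens.getD (id / 2) []))

/-- a product in the subgroup -/
noncomputable def lWord (gens : List (List ℕ)) (l : List ℕ) : List ℕ := l.flatMap (lPiece gens)

theorem lGens_small (m : ℕ) : small (lGens.getD m []) = true ∧ small (lImgs.getD m []) = true := by
  match m with
  | 0 | 1 | 2 | 3 | 4 | 5 | 6 => decide
  | _ + 7 => simp [lGens, lImgs, small]

theorem lWord_comm : ∀ l : List ℕ, hv (lWord lGens l) * U = U * hv (lWord lImgs l)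
  | [] => by simp [lWord, hv_nil]
  | id :: l => by
    simp only [lWord, List.flatMap_cons, hv_append]
    have h1 := lWord_comm l
    simp only [lWord] at h1
    rw [mul_assoc, h1, ← mul_assoc, ← mul_assoc]
    congr 1
    have h2 := lGens_comm (id / 2)
    simp only [lPiece]
    cases Nat.beq (id % 2) 0
    · simp only [cond_false, hv_invWord (lGens_small _).1, hv_invWord (lGens_small _).2]
      rw [eq_mul_inv_iff_mul_eq, mul_assoc, ← h2, ← mul_assoc, inv_mul_cancel, one_mul]
    · simpa only [cond_true] using h2

/-- a product of known stabilising elements of orbit `i` -/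
noncomputable def Cert.kWord (n i : ℕ) : List ℕ → Option (List ℕ)
  | [] => some []
  | id :: ks =>
    match d.recs.get (id / 2) with
    | .stab i' w _ =>
      cond (Nat.blt (id / 2) n && Nat.beq i' i && small w)
        (match Cert.kWord n i ks with
         | some r => some (cond (Nat.beq (id % 2) 0) w (invWord alphabet w) ++ r)
         | none => none) none
    | .edge .. => none

/-- a known edge -/
noncomputable def Cert.edgeAt (n e : ℕ) : Option (ℕ × List ℕ × ℕ × List ℕ) :=
  cond (Nat.blt e n)
    (match d.recs.get e with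
     | .edge i h j g _ _ _ => some (i, h, j, g)
     | .stab .. => none) none

/-- `σ = k h l` for the canonical start `(i, h)` -/
noncomputable def Cert.canon (n : ℕ) (σ : ℕ × List ℕ) (i : ℕ) (h k l : List ℕ) : Bool :=
  Nat.beq σ.1 i && (Nat.beq i 0 ||
    match d.kWord n i k with
    | some w => same σ.2 (w ++ h ++ lWord lGens l)
    | none => false)

/-- follow one edge -/
noncomputable def Cert.step (n : ℕ) (σ : ℕ × List ℕ) (st : Step) : Option (ℕ × List ℕ) :=
  match d.edgeAt n st.e with
  | some (i, h, j, g) => cond (d.canon n σ i h st.k st.l) (some (j, g ++ lWord lImgs st.l)) none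
  | none => none

/-- follow segments forwards -/
noncomputable def Cert.fRun (n : ℕ) (σ : ℕ × List ℕ) : List (List ℕ) → List Step → Option (ℕ × List ℕ)
  | [], [] => some σ
  | s :: ss, st :: sts =>
    match d.step n σ st with
    | some τ => Cert.fRun n (τ.1, τ.2 ++ s) ss sts
    | none => none
  | _, _ => none

/-- follow segments backwards -/
noncomputable def Cert.bRun (n : ℕ) (σ : ℕ × List ℕ) : List (List ℕ) → List Step → Option (ℕ × List ℕ)
  | [], [] => some σ
  | s :: ss, st :: sts =>
    match d.step n (σ.1, σ.2 ++ invWord alphabet s) st with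
    | some τ => Cert.bRun n (τ.1, τ.2 ++ [5, 1]) ss sts
    | none => none
  | _, _ => none

/-- both ends of an edge found by a scan -/
noncomputable def Cert.scanEdge (n : ℕ) (s : Scan) : Option ((ℕ × List ℕ) × (ℕ × List ℕ)) :=
  cond (Nat.blt s.a (rotSegs s.b s.k).length)
    (match d.fRun n (s.i, s.h) ((rotSegs s.b s.k).take s.a) s.fs,
        d.bRun n (s.i, s.h) ((rotSegs s.b s.k).drop (s.a + 1)).reverse s.bs with
     | some f, some b => some (f, (b.1, b.2 ++ invWord alphabet ((rotSegs s.b s.k).getD s.a [])))
     | _, _ => none) none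

/-- two names of one coset found by a scan -/
noncomputable def Cert.scanStab (n : ℕ) (s : Scan) : Option ((ℕ × List ℕ) × (ℕ × List ℕ)) :=
  match d.fRun n (s.i, s.h) ((rotSegs s.b s.k).take s.a) s.fs,
      d.bRun n (s.i, s.h) ((rotSegs s.b s.k).drop s.a).reverse s.bs with
  | some f, some b => some (f, b)
  | _, _ => none

/-- the equation behind an edge -/
noncomputable def Cert.source (n : ℕ) : ESrc → Option ((ℕ × List ℕ) × (ℕ × List ℕ))
  | .dfn j => cond (Nat.blt (d.defs.getD j (0, [])).1 j) (some (d.defs.getD j (0, []), (j, []))) none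
  | .rev e =>
    match d.edgeAt n e with
    | some (i, h, j, g) => some ((j, g), (i, h ++ [0, 4]))
    | none => none
  | .recan e =>
    match d.edgeAt n e with
    | some (i, h, j, g) => some ((i, h), (j, g))
    | none => none
  | .scan s => d.scanEdge n s

/-- check record `n` -/
noncomputable def Cert.chk (n : ℕ) : Bool :=
  match d.recs.get n with
  | .edge i h j g src k l =>
    match d.source n src with
    | some (f, p) =>
      d.canon n f i h k l && Nat.beq p.1 j && (Nat.beq j 0 || same (g ++ lWord lImgs l) p.2)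
    | none => false
  | .stab i w (.cmp e1 e2 k l) =>
    match d.edgeAt n e1, d.edgeAt n e2 with
    | some (i1, h1, j1, g1), some (i2, h2, j2, g2) =>
      d.canon n (i1, h1) i2 h2 k l && Nat.beq j1 i && Nat.beq j2 i &&
        (Nat.beq i 0 || same (w ++ g2 ++ lWord lImgs l) g1)
    | _, _ => false
  | .stab i w (.scan s) =>
    match d.scanStab n s with
    | some (f, b) => Nat.beq f.1 i && Nat.beq b.1 i && (Nat.beq i 0 || same (w ++ b.2) f.2)
    | none => false

/-- The meaning of record `n`. -/
def Cert.Holds (n : ℕ) : Prop :=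
  match d.recs.get n with
  | .edge i h j g _ _ _ => rt (d.pt (i, h)) U = d.pt (j, g)
  | .stab i w _ => rt (d.C i) (hv w) = d.C i

variable {d} {n : ℕ}

theorem Cert.kWord_sound (ih : ∀ m < n, d.Holds m) {i : ℕ} :
    ∀ {ks r : List ℕ}, d.kWord n i ks = some r → rt (d.C i) (hv r) = d.C i
  | [], r, h => by
    simp only [Cert.kWord, Option.some.injEq] at h
    subst h
    rw [hv_nil, rt_one]
  | id :: ks, r, h => by
    simp only [Cert.kWord] at h
    cases hr : d.recs.get (id / 2) with
    | edge i' h' j g src k l => simp [hr] at h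
    | stab i' w src =>
      simp only [hr] at h
      cases hc : (Nat.blt (id / 2) n && Nat.beq i' i && small w)
      · simp [hc] at h
      · rw [hc, cond_true] at h
        cases hk : d.kWord n i ks with
        | none => simp [hk] at h
        | some r' =>
          simp only [hk, Option.some.injEq] at h
          subst h
          simp only [Bool.and_eq_true, Nat.blt_eq] at hc
          have hw := ih _ hc.1.1
          rw [Cert.Holds, hr] at hw
          obtain rfl := Nat.eq_of_beq_eq_true hc.1.2
          rw [hv_append, rt_mul]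
          refine (congrArg (fun q => rt q (hv r')) ?_).trans (Cert.kWord_sound ih hk)
          cases Nat.beq (id % 2) 0
          · rw [cond_false, hv_invWord hc.2]
            conv_lhs => rw [← hw]
            rw [← rt_mul, mul_inv_cancel, rt_one]
          · exact hw

theorem Cert.edgeAt_sound (ih : ∀ m < n, d.Holds m) {e i j : ℕ} {h g : List ℕ}
    (he : d.edgeAt n e = some (i, h, j, g)) : rt (d.pt (i, h)) U = d.pt (j, g) := by
  unfold Cert.edgeAt at he
  cases hlt : Nat.blt e n
  · simp [hlt] at he
  · rw [hlt, cond_true] at he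
    rw [Nat.blt_eq] at hlt
    have hh := ih e hlt
    cases hr : d.recs.get e with
    | stab i' w src => simp [hr] at he
    | edge i' h' j' g' src k l =>
      simp only [hr, Option.some.injEq, Prod.mk.injEq] at he
      obtain ⟨rfl, rfl, rfl, rfl⟩ := he
      rwa [Cert.Holds, hr] at hh

theorem Cert.canon_sound (ih : ∀ m < n, d.Holds m) {σ : ℕ × List ℕ} {i : ℕ} {h k l : List ℕ}
    (hc : d.canon n σ i h k l = true) : d.pt σ = rt (d.pt (i, h)) (hv (lWord lGens l)) := by
  obtain ⟨s1, s2⟩ := σ
  simp only [Cert.canon, Bool.and_eq_true, Bool.or_eq_true] at hc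
  obtain ⟨h1, hc⟩ := hc
  obtain rfl := Nat.eq_of_beq_eq_true h1
  rcases hc with hc | hc
  · obtain rfl := Nat.eq_of_beq_eq_true hc
    rw [d.pt_zero, d.pt_zero, rt_c0_hv]
  · cases hk : d.kWord n s1 k with
    | none => simp [hk] at hc
    | some w =>
      simp only [hk] at hc
      rw [d.pt_congr (v := w ++ h ++ lWord lGens l) (by rw [hc, Bool.or_true]), d.pt_append]
      rw [Cert.pt, hv_append, rt_mul, Cert.kWord_sound ih hk]
      rfl

theorem Cert.step_sound (ih : ∀ m < n, d.Holds m) {σ τ : ℕ × List ℕ} {st : Step}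
    (h : d.step n σ st = some τ) : rt (d.pt σ) U = d.pt τ := by
  unfold Cert.step at h
  cases he : d.edgeAt n st.e with
  | none => simp [he] at h
  | some r =>
    obtain ⟨i, h', j, g⟩ := r
    simp only [he] at h
    cases hc : d.canon n σ i h' st.k st.l
    · simp [hc] at h
    · simp only [hc, cond_true, Option.some.injEq] at h
      subst h
      rw [Cert.canon_sound ih hc, ← rt_mul, lWord_comm, rt_mul, Cert.edgeAt_sound ih he, d.pt_append]

theorem Cert.fRun_sound (ih : ∀ m < n, d.Holds m) : ∀ {segs : List (List ℕ)} {sts : List Step}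
    {σ τ : ℕ × List ℕ}, d.fRun n σ segs sts = some τ → rt (d.pt σ) (segProd segs) = d.pt τ
  | [], [], σ, τ, h => by
    simp only [Cert.fRun, Option.some.injEq] at h
    subst h
    rw [segProd_nil, rt_one]
  | [], _ :: _, σ, τ, h => by simp [Cert.fRun] at h
  | _ :: _, [], σ, τ, h => by simp [Cert.fRun] at h
  | s :: ss, st :: sts, σ, τ, h => by
    simp only [Cert.fRun] at h
    cases hst : d.step n σ st with
    | none => simp [hst] at h
    | some ρ =>
      simp only [hst] at h
      rw [segProd_cons, rt_mul, rt_mul, Cert.step_sound ih hst, ← d.pt_append, Cert.fRun_sound ih h]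

theorem Cert.bRun_sound (ih : ∀ m < n, d.Holds m) : ∀ {segs : List (List ℕ)} {sts : List Step}
    {σ τ : ℕ × List ℕ}, (∀ s ∈ segs, small s = true) → d.bRun n σ segs sts = some τ →
      rt (d.pt τ) (segProd segs.reverse) = d.pt σ
  | [], [], σ, τ, _, h => by
    simp only [Cert.bRun, Option.some.injEq] at h
    subst h
    rw [List.reverse_nil, segProd_nil, rt_one]
  | [], _ :: _, σ, τ, _, h => by simp [Cert.bRun] at h
  | _ :: _, [], σ, τ, _, h => by simp [Cert.bRun] at h
  | s :: ss, st :: sts, σ, τ, hs, h => by
    simp only [Cert.bRun] at h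
    cases hst : d.step n (σ.1, σ.2 ++ invWord alphabet s) st with
    | none => simp [hst] at h
    | some ρ =>
      simp only [hst] at h
      rw [List.reverse_cons, segProd_append, rt_mul,
        Cert.bRun_sound ih (fun z hz => hs z (List.mem_cons_of_mem _ hz)) h, d.pt_append,
        ← Cert.step_sound ih hst, d.pt_append, hv_invWord (hs s List.mem_cons_self)]
      simp only [segProd_cons, segProd_nil, mul_one, ← rt_mul, mul_assoc]
      rw [show (hv s)⁻¹ * (U * (hv [5, 1] * (U * hv s))) = 1 by
        rw [← mul_assoc U (hv [5, 1]), ← U_inv]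
        group, rt_one]

theorem Cert.scanEdge_sound (ih : ∀ m < n, d.Holds m) {s : Scan} {f p : ℕ × List ℕ}
    (h : d.scanEdge n s = some (f, p)) : rt (d.pt f) U = d.pt p := by
  unfold Cert.scanEdge at h
  cases hlt : Nat.blt s.a (rotSegs s.b s.k).length
  · simp [hlt] at h
  · rw [hlt, cond_true] at h
    rw [Nat.blt_eq] at hlt
    cases hf : d.fRun n (s.i, s.h) ((rotSegs s.b s.k).take s.a) s.fs with
    | none => simp [hf] at h
    | some f' =>
      cases hb : d.bRun n (s.i, s.h) ((rotSegs s.b s.k).drop (s.a + 1)).reverse s.bs with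
      | none => simp [hf, hb] at h
      | some b =>
        simp only [hf, hb, Option.some.injEq, Prod.mk.injEq] at h
        obtain ⟨rfl, rfl⟩ := h
        have hmem : (rotSegs s.b s.k).getD s.a [] ∈ rotSegs s.b s.k := by
          rw [List.getD_eq_getElem _ _ hlt]
          exact List.getElem_mem hlt
        have e1 := Cert.fRun_sound ih hf
        have e2 := Cert.bRun_sound ih
          (fun z hz => rotSegs_small (List.mem_of_mem_drop (List.mem_reverse.1 hz))) hb
        rw [List.reverse_reverse] at e2
        have e3 : segProd ((rotSegs s.b s.k).take s.a) * (U * hv ((rotSegs s.b s.k).getD s.a [])) *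
            segProd ((rotSegs s.b s.k).drop (s.a + 1)) = 1 := by
          conv_rhs => rw [← segProd_rotSegs s.b s.k, ← List.take_append_drop s.a (rotSegs s.b s.k),
            List.drop_eq_getElem_cons hlt, segProd_append, segProd_cons, ← List.getD_eq_getElem _ [] hlt]
          group
        rw [d.pt_append, hv_invWord (rotSegs_small hmem)]
        apply rt_inj (g := hv ((rotSegs s.b s.k).getD s.a []) * segProd ((rotSegs s.b s.k).drop (s.a + 1)))
        rw [← rt_mul, ← rt_mul, inv_mul_cancel_left, e2, ← e1, ← rt_mul]
        simp only [mul_assoc] at e3 ⊢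
        rw [e3, rt_one]

theorem Cert.scanStab_sound (ih : ∀ m < n, d.Holds m) {s : Scan} {f p : ℕ × List ℕ}
    (h : d.scanStab n s = some (f, p)) : d.pt f = d.pt p := by
  unfold Cert.scanStab at h
  cases hf : d.fRun n (s.i, s.h) ((rotSegs s.b s.k).take s.a) s.fs with
  | none => simp [hf] at h
  | some f' =>
    cases hb : d.bRun n (s.i, s.h) ((rotSegs s.b s.k).drop s.a).reverse s.bs with
    | none => simp [hf, hb] at h
    | some b =>
      simp only [hf, hb, Option.some.injEq, Prod.mk.injEq] at h
      obtain ⟨rfl, rfl⟩ := h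
      have e1 := Cert.fRun_sound ih hf
      have e2 := Cert.bRun_sound ih
        (fun z hz => rotSegs_small (List.mem_of_mem_drop (List.mem_reverse.1 hz))) hb
      rw [List.reverse_reverse] at e2
      apply rt_inj (g := segProd ((rotSegs s.b s.k).drop s.a))
      rw [e2, ← e1, ← rt_mul, ← segProd_append, List.take_append_drop, segProd_rotSegs, rt_one]

theorem Cert.source_sound (ih : ∀ m < n, d.Holds m) : ∀ {src : ESrc} {f p : ℕ × List ℕ},
    d.source n src = some (f, p) → rt (d.pt f) U = d.pt p
  | .dfn j, f, p, h => by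
    simp only [Cert.source] at h
    cases hlt : Nat.blt (d.defs.getD j (0, [])).1 j
    · rw [hlt, cond_false] at h; simp at h
    · simp only [hlt, cond_true, Option.some.injEq, Prod.mk.injEq] at h

      obtain ⟨rfl, rfl⟩ := h
      rw [Nat.blt_eq] at hlt
      rw [Cert.pt, Cert.pt, hv_nil, rt_one]
      conv_rhs => rw [Cert.C, if_pos hlt]
  | .rev e, f, p, h => by
    simp only [Cert.source] at h
    cases he : d.edgeAt n e with
    | none => simp [he] at h
    | some r =>
      obtain ⟨i, h', j, g⟩ := r
      simp only [he, Option.some.injEq, Prod.mk.injEq] at h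
      obtain ⟨rfl, rfl⟩ := h
      rw [← Cert.edgeAt_sound ih he, ← rt_mul, U_sq, d.pt_append]
  | .recan e, f, p, h => by
    simp only [Cert.source] at h
    cases he : d.edgeAt n e with
    | none => simp [he] at h
    | some r =>
      obtain ⟨i, h', j, g⟩ := r
      simp only [he, Option.some.injEq, Prod.mk.injEq] at h
      obtain ⟨rfl, rfl⟩ := h
      exact Cert.edgeAt_sound ih he
  | .scan s, f, p, h => Cert.scanEdge_sound ih h

theorem Cert.chk_sound (ih : ∀ m < n, d.Holds m) (h : d.chk n = true) : d.Holds n := by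
  unfold Cert.chk at h
  rw [Cert.Holds]
  cases hr : d.recs.get n with
  | edge i h' j g src k l =>
    simp only [hr] at h ⊢
    cases hs : d.source n src with
    | none => simp [hs] at h
    | some r =>
      obtain ⟨f, p⟩ := r
      simp only [hs, Bool.and_eq_true] at h
      obtain ⟨⟨hc, hj⟩, hg⟩ := h
      obtain rfl := Nat.eq_of_beq_eq_true hj
      have e := Cert.source_sound ih hs
      rw [Cert.canon_sound ih hc, ← rt_mul, lWord_comm, rt_mul] at e
      apply rt_inj (g := hv (lWord lImgs l))
      rw [← d.pt_append, e]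
      exact (d.pt_congr hg).symm
  | stab i w src =>
    cases src with
    | cmp e1 e2 k l =>
      simp only [hr] at h ⊢
      cases h1 : d.edgeAt n e1 with
      | none => simp [h1] at h
      | some r1 =>
        cases h2 : d.edgeAt n e2 with
        | none => simp [h1, h2] at h
        | some r2 =>
          obtain ⟨i1, a1, j1, g1⟩ := r1
          obtain ⟨i2, a2, j2, g2⟩ := r2
          simp only [h1, h2, Bool.and_eq_true] at h
          obtain ⟨⟨⟨hc, hj1⟩, hj2⟩, hg⟩ := h
          obtain rfl := Nat.eq_of_beq_eq_true hj1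
          obtain rfl := Nat.eq_of_beq_eq_true hj2
          have e := Cert.edgeAt_sound ih h1
          rw [Cert.canon_sound ih hc, ← rt_mul, lWord_comm, rt_mul, Cert.edgeAt_sound ih h2,
            ← d.pt_append, ← d.pt_congr hg, List.append_assoc] at e
          rw [Cert.pt, Cert.pt, hv_append w, rt_mul (d.C _) (hv w)] at e
          exact (rt_inj e).symm
    | scan s =>
      simp only [hr] at h ⊢
      cases hs : d.scanStab n s with
      | none => simp [hs] at h
      | some r =>
        obtain ⟨f, b⟩ := r
        simp only [hs, Bool.and_eq_true] at h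
        obtain ⟨⟨hf, hb⟩, hg⟩ := h
        obtain ⟨f1, f2⟩ := f
        obtain ⟨b1, b2⟩ := b
        obtain rfl := Nat.eq_of_beq_eq_true hf
        obtain rfl := Nat.eq_of_beq_eq_true hb
        have e := Cert.scanStab_sound ih hs
        rw [← d.pt_congr hg, Cert.pt, Cert.pt, hv_append, rt_mul] at e
        exact rt_inj e

/-- check `m` records from `lo` on -/
noncomputable def Cert.chkRange (d : Cert) : ℕ → ℕ → Bool
  | 0, _ => true
  | m + 1, lo => d.chk lo && d.chkRange m (lo + 1)

/-- The records in `[lo, hi)` pass the check. -/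
def Cert.OKOn (d : Cert) (lo hi : ℕ) : Prop := ∀ k, lo ≤ k → k < hi → d.chk k = true

theorem Cert.okOn_of_chkRange (d : Cert) : ∀ m lo, d.chkRange m lo = true → d.OKOn lo (lo + m)
  | 0, lo, _ => fun k h1 h2 => absurd h2 (by omega)
  | m + 1, lo, h => by
    rw [Cert.chkRange, Bool.and_eq_true] at h
    intro k h1 h2
    rcases Nat.eq_or_lt_of_le h1 with e | e
    · exact e ▸ h.1
    · exact d.okOn_of_chkRange m (lo + 1) h.2 k e (by omega)

theorem Cert.OKOn.append {d : Cert} {a b c : ℕ} (h1 : d.OKOn a b) (h2 : d.OKOn b c) : d.OKOn a c :=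
  fun k ha hc => (Nat.lt_or_ge k b).elim (fun h => h1 k ha h) (fun h => h2 k h hc)

theorem Cert.holds_of_ok {d : Cert} {N : ℕ} (h : d.OKOn 0 N) : ∀ k, k < N → d.Holds k := by
  intro k
  induction k using Nat.strong_induction_on with
  | _ k IH =>
    intro hk
    exact Cert.chk_sound (fun m hm => IH m hm (hm.trans hk)) (h k (Nat.zero_le _) hk)

end CfsgLib.Th
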