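import Cfsg.Agent.Lib.ThMult.Normal
import Mathlib.Algebra.Group.TypeTags.Finite
import Mathlib.Data.ZMod.Basic
import Cfsg.Prelude.Def_Exceptional

/-!
The derived subgroup of index three of the presented triality group is simple of type ³D₄(2).
-/
set_option autoImplicit false
set_option maxRecDepth 8000
set_option Elab.async false

namespace CfsgLib.Th

open CfsgLib.Presented CfsgLib.Presented.Vec

/-- exponent of `t` -/
def tExp : Cfsg.Spor.Th.Gen → Multiplicative (ZMod 3)
  | .t => Multiplicative.ofAdd 1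
  | _ => 1

theorem tExp_rels : ∀ w ∈ hWords, evW (letters.ev tExp) w = 1 := by decide +kernel

theorem exists_tHom : ∃ f : HT →* Multiplicative (ZMod 3), ∀ g, f (PresentedGroup.of g) = tExp g := by
  have hk := Letters.kills (L := letters) (edges := Cfsg.Spor.Th.edges) (extra := hExtra) (f := tExp) letters_valid
    nodes_valid full (fun g hg => absurd hg (by simp [letters]))
    (fun w hw => absurd hw (by simp [Letters.coxWords, letters]))
    (fun w hw => tExp_rels w (by rw [hWords_eq]; exact List.mem_append.2 (Or.inr hw)))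
  exact ⟨PresentedGroup.toGroup hk, fun g => PresentedGroup.toGroup.of hk⟩

/-- the map to the group of order three -/
noncomputable def tHom : HT →* Multiplicative (ZMod 3) := exists_tHom.choose

theorem tHom_evW (w : List ℕ) : tHom (evW hev w) = evW (letters.ev tExp) w := by
  simp only [evW, map_list_prod, List.map_map]
  refine congrArg List.prod (List.map_congr_left fun x _ => ?_)
  simp only [Function.comp, hev, Letters.ev]
  split
  · cases (letters.gen x).2 <;> simp [exists_tHom.choose_spec, tHom]
  · simp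

theorem tHom_t : tHom (hev 12) ≠ 1 := by
  have h := tHom_evW [12]
  simp only [evW_cons, evW_nil, mul_one] at h
  rw [h]
  decide +kernel

/-- the derived subgroup -/
noncomputable def H0 : Subgroup HT := tHom.ker

theorem index_H0 : H0.index = 3 := by
  have : Fact (Nat.Prime 3) := ⟨Nat.prime_three⟩
  rw [H0, Subgroup.index_ker]
  rcases (Nat.dvd_prime Nat.prime_three).1 (show Nat.card tHom.range ∣ 3 from by
    have := tHom.range.card_subgroup_dvd_card
    rwa [show Nat.card (Multiplicative (ZMod 3)) = 3 by simp] at this) with h | h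
  · exfalso
    have hb := (Subgroup.card_eq_one).1 h
    exact tHom_t ((MonoidHom.range_eq_bot_iff.1 hb) ▸ rfl)
  · exact h

theorem card_H0 : Nat.card H0 = 211341312 := by
  have h := H0.card_mul_index
  rw [index_H0, card_HT] at h
  omega

theorem hev_mem_H0 {x : ℕ} (hx : x < 12) : hev x ∈ H0 := by
  have h := tHom_evW [x]
  simp only [evW_cons, evW_nil, mul_one] at h
  rw [H0, MonoidHom.mem_ker, h]
  have : ∀ y < 12, letters.ev tExp y = 1 := by decide +kernel
  exact this x hx

/-- letters of the derived subgroup -/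
noncomputable def ev0 (x : ℕ) : H0 := if hx : x < 12 then ⟨hev x, hev_mem_H0 hx⟩ else 1

theorem coe_evW0 : ∀ {w : List ℕ}, (∀ x ∈ w, x < 12) → ((evW ev0 w : H0) : HT) = evW hev w
  | [], _ => by simp
  | x :: w, h => by
    rw [evW_cons, evW_cons, Subgroup.coe_mul, coe_evW0 fun y hy => h y (List.mem_cons_of_mem _ hy), ev0,
      dif_pos (h x List.mem_cons_self)]

/-- the action with the letters outside the subgroup switched off -/
def R0 : Rep := ⟨P819.rep.A, P819.rep.m, P819.rep.N, P819.rep.nets.take 12 ++ [[], [], [], []]⟩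

theorem R0_valid : R0.valid = true := by decide +kernel

theorem phi0 (x : ℕ) (hx : x < R0.A.eps) :
    (phi.comp H0.subtype) (ev0 x) = R0.perm R0_valid x := by
  have hx' : x < 16 := hx
  refine Equiv.ext fun i => Fin.ext ?_
  show ((phi (ev0 x : HT) : Equiv.Perm (Fin P819.rep.N)) i : ℕ) = netPerm (R0.net x) (i : ℕ)
  unfold ev0
  split_ifs with h
  · rw [phi_ev x hx', Rep.perm_val]
    have e : ∀ y < 12, (R0.nets.getD y [] = P819.rep.nets.getD y []) := by
      intro y hy
      interval_cases y <;> rfl
    simp only [Rep.net, e x h]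
  · rw [Subgroup.coe_one, map_one]
    have e : R0.net x = [] := by
      obtain rfl | rfl | rfl | rfl : x = 12 ∨ x = 13 ∨ x = 14 ∨ x = 15 := by omega
      all_goals rfl
    rw [e]
    rfl

/-- generators of the point stabiliser in the derived subgroup -/
def stabWords0 : List (List ℕ) := [[0], [4], [6], [8], [10]]

theorem phi0_transitive (j : Fin R0.N) : ∃ g : H0, (phi.comp H0.subtype) g ⟨106, by decide⟩ = j := by
  have hok : orbitOK R0 ((List.range 12).map fun x => [x]) 106 20 (ones 819) = true := by decide +kernel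
  obtain ⟨g, -, hg⟩ := (orbit_eq_of_ok R0_valid hok _ phi0 (H := Subgroup.closure
    ((fun w => evW ev0 w) '' {w | w ∈ (List.range 12).map fun x => [x]})) rfl (by decide) j).2
    (by rw [testBit_ones]; exact decide_eq_true j.2)
  exact ⟨g, hg⟩

theorem stab_fix0 {g : H0} (hg : g ∈ Subgroup.closure ((fun w => evW ev0 w) '' {w | w ∈ stabWords0})) :
    (phi.comp H0.subtype) g ⟨106, by decide⟩ = (⟨106, by decide⟩ : Fin R0.N) := by
  refine ThMult.stab_fix (g := (g : HT)) ?_
  have := Subgroup.mem_map_of_mem H0.subtype hg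
  rw [MonoidHom.map_closure] at this
  refine Subgroup.closure_mono ?_ this
  rintro _ ⟨_, ⟨w, hw, rfl⟩, rfl⟩
  have hw' : w ∈ ThMult.stabWords ∧ ∀ x ∈ w, x < 12 := by
    have : ∀ w ∈ stabWords0, w ∈ ThMult.stabWords ∧ ∀ x ∈ w, x < 12 := by decide +kernel
    exact this w hw
  exact ⟨w, hw'.1, (coe_evW0 hw'.2).symm⟩

theorem a_mem_normal0 (N : Subgroup H0) (hN : N.Normal) (hne : N ≠ ⊥) : ev0 0 ∈ N := by
  have hu : evW ev0 ThMult.u13 ∈ N :=
    ThMult.mem_normal_of_cert R0_valid (p0 := 106) (by decide) _ phi0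
      (phi_injective.comp H0.subtype_injective) phi0_transitive rfl
      (fun h hh => stab_fix0 hh) ThMult.orbits (by decide +kernel) (by decide +kernel) (by decide +kernel) 13 1
      (by norm_num) (by decide) (by rw [card_H0]; norm_num) ThMult.u13 (by decide +kernel) N hN hne
  have h0 : ev0 0 = evW ev0 ThMult.aWord := by
    apply Subtype.ext
    rw [coe_evW0 (by decide +kernel), ev0, dif_pos (by decide)]
    have h1 := hev_eq_one ThMult.aWord_ok.1
    rw [evW_append, evW_cons, evW_nil, mul_one, show hev 1 = (hev 0)⁻¹ from rfl, mul_inv_eq_one] at h1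
    exact h1.symm
  rw [h0]
  have hgood : alphabet.Good (fun x => if x < 12 then ev0 x else 1) := by
    refine ⟨by rw [if_neg (by decide)], fun x hx => ?_⟩
    have hi : ∀ y ≤ 16, (alphabet.invl y < 12 ↔ y < 12) ∧ alphabet.invl y ≤ 16 := by decide +kernel
    by_cases h : x < 12
    · rw [if_pos ((hi x hx).1.2 h), if_pos h]
      apply Subtype.ext
      rw [Subgroup.coe_mul, ev0, dif_pos ((hi x hx).1.2 h), ev0, dif_pos h]
      exact (letters_good (extra := hExtra)).inv x hx
    · rw [if_neg fun h' => h ((hi x hx).1.1 h'), if_neg h, one_mul]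
  have hev0 : ∀ x, ev0 x = if x < 12 then ev0 x else 1 := fun x => by
    by_cases h : x < 12
    · rw [if_pos h]
    · rw [if_neg h, ev0, dif_neg h]
  rw [← funext hev0] at hgood
  have hwi : ∀ w : List ℕ, w.all (fun x => Nat.ble x 16) = true →
      evW ev0 (invWord alphabet w) = (evW ev0 w)⁻¹ := fun w hw => by
    simp only [List.all_eq_true, Nat.ble_eq] at hw
    exact evW_invWord hgood hw
  rw [show ThMult.aWord =
      ([5, 11, 2, 0, 4, 6, 3, 4] ++ wpow ThMult.u13 2 ++ invWord alphabet [5, 11, 2, 0, 4, 6, 3, 4]) ++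
      ([2, 9, 4, 2, 9, 7, 0, 10, 0, 5, 5, 9, 0, 2] ++ wpow ThMult.u13 2 ++
        invWord alphabet [2, 9, 4, 2, 9, 7, 0, 10, 0, 5, 5, 9, 0, 2]) by decide +kernel]
  rw [evW_append, evW_append, evW_append, evW_append, evW_append, hwi _ (by decide +kernel), hwi _ (by decide +kernel)]
  exact N.mul_mem (hN.conj_mem _ (by rw [evW_wpow]; exact N.pow_mem hu _) _)
    (hN.conj_mem _ (by rw [evW_wpow]; exact N.pow_mem hu _) _)

theorem gen_H0 : Subgroup.closure (ev0 '' Set.Iio 12) = ⊤ := by
  let K : Subgroup HT := Subgroup.closure (hev '' Set.Iio 12)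
  have hK0 : K ≤ H0 := by
    rw [Subgroup.closure_le]
    rintro _ ⟨x, hx, rfl⟩
    exact hev_mem_H0 hx
  have hge : H0 ≤ K := by
    let K' : Subgroup H0 := Subgroup.closure ((fun w => evW ev0 w) '' {w | w ∈ (List.range 12).map fun x => [x]})
    have hsub : K'.map H0.subtype ≤ K := by
      rw [MonoidHom.map_closure, Subgroup.closure_le]
      rintro _ ⟨_, ⟨w, hw, rfl⟩, rfl⟩
      obtain ⟨x, hx, rfl⟩ := List.mem_map.1 hw
      refine Subgroup.subset_closure ⟨x, List.mem_range.1 hx, ?_⟩
      simp [ev0, List.mem_range.1 hx]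
    intro g hg
    have hS : genBy hev [0, 4, 6, 8, 10, 12] ≤ Subgroup.closure (hev '' ({x | x < 12} ∪ {12})) := by
      refine Subgroup.closure_mono (Set.image_mono ?_)
      intro x hx
      simp only [List.mem_cons, List.not_mem_nil, or_false, Set.mem_ofPred_eq] at hx
      simp only [Set.mem_union, Set.mem_ofPred_eq, Set.mem_singleton_iff]
      omega
    let T : Subgroup HT := Subgroup.zpowers (hev 12)
    have hnorm : T ≤ Subgroup.normalizer (K : Set HT) := by
      rw [Subgroup.zpowers_le]
      refine Subgroup.mem_normalizer_iff.2 ?_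
      have key : ∀ x < 12, hev 12 * hev x * (hev 12)⁻¹ ∈ K ∧ (hev 12)⁻¹ * hev x * hev 12 ∈ K := by
        intro x hx
        have hmem : ∀ w : List ℕ, (∀ y ∈ w, y < 12) → evW hev w ∈ K := fun w hw => by
          refine K.list_prod_mem ?_
          simp only [List.mem_map]
          rintro _ ⟨y, hy, rfl⟩
          exact Subgroup.subset_closure ⟨y, hw y hy, rfl⟩
        let img : ℕ → List ℕ × List ℕ := fun x =>
          if x = 10 then ([10, 10, 10, 10], [10, 10]) else if x = 11 then ([11, 11, 11, 11], [11, 11]) else ([x], [x])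
        have hok : ∀ y < 12, P819.rep.relsOK [[12, y, 13] ++ invWord alphabet (img y).1] = true ∧
            P819.rep.relsOK [[13, y, 12] ++ invWord alphabet (img y).2] = true ∧
            (∀ z ∈ (img y).1, z < 12) ∧ (∀ z ∈ (img y).2, z < 12) := by decide +kernel
        obtain ⟨h1, h2, h3, h4⟩ := hok x hx
        have e13 : hev 13 = (hev 12)⁻¹ := rfl
        have a := hev_eq_one h1
        have b := hev_eq_one h2
        rw [evW_append, evW_invWord (letters_good (extra := hExtra)) (fun z hz => le_trans (h3 z hz).le (by decide)),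
          mul_inv_eq_one] at a
        rw [evW_append, evW_invWord (letters_good (extra := hExtra)) (fun z hz => le_trans (h4 z hz).le (by decide)),
          mul_inv_eq_one] at b
        simp only [evW_cons, evW_nil, mul_one, e13, ← mul_assoc] at a b
        exact ⟨a ▸ hmem _ h3, b ▸ hmem _ h4⟩
      intro n
      constructor
      · intro hn
        induction hn using Subgroup.closure_induction with
        | mem y hy => obtain ⟨x, hx, rfl⟩ := hy; exact (key x hx).1
        | one => simp
        | mul y z _ _ ihy ihz =>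
          have := K.mul_mem ihy ihz
          simpa [mul_assoc] using this
        | inv y _ ih =>
          have := K.inv_mem ih
          simpa [mul_assoc] using this
      · intro hn
        suffices h : ∀ m ∈ K, (hev 12)⁻¹ * m * hev 12 ∈ K by simpa [mul_assoc] using h _ hn
        intro m hm
        induction hm using Subgroup.closure_induction with
        | mem y hy => obtain ⟨x, hx, rfl⟩ := hy; exact (key x hx).2
        | one => simp
        | mul y z _ _ ihy ihz =>
          have := K.mul_mem ihy ihz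
          simpa [mul_assoc] using this
        | inv y _ ih =>
          have := K.inv_mem ih
          simpa [mul_assoc] using this
    have htop : K ⊔ T = ⊤ := by
      refine eq_top_iff.2 (top_le_of_evens fun x hx => ?_)
      simp only [List.mem_cons, List.not_mem_nil, or_false] at hx
      by_cases h12 : x < 12
      · exact Subgroup.mem_sup_left (Subgroup.subset_closure ⟨x, h12, rfl⟩)
      · obtain rfl | rfl : x = 12 ∨ x = 14 := by omega
        · exact Subgroup.mem_sup_right (Subgroup.mem_zpowers _)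
        · show hev 14 ∈ _
          rw [hev_u]
          exact one_mem _
    have hg' : g ∈ ((K ⊔ T : Subgroup HT) : Set HT) := htop ▸ Subgroup.mem_top g
    rw [Subgroup.coe_mul_of_right_le_normalizer_left K T hnorm] at hg'
    obtain ⟨k, hk, s, hs, rfl⟩ := Set.mem_mul.1 hg'
    obtain ⟨m, rfl⟩ := Subgroup.mem_zpowers_iff.1 hs
    have h3 : hev 12 ^ (3 : ℕ) = 1 := by
      have := hev_eq_one (w := [12, 12, 12]) (by decide +kernel)
      simpa [pow_succ, mul_assoc] using this
    have hk1 := MonoidHom.mem_ker.1 (hK0 hk)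
    rw [H0, MonoidHom.mem_ker, map_mul, hk1, one_mul, map_zpow] at hg
    have : Fact (Nat.Prime 3) := ⟨Nat.prime_three⟩
    have hord : orderOf (tHom (hev 12)) = 3 :=
      orderOf_eq_prime (by rw [← map_pow, h3, map_one]) tHom_t
    obtain ⟨j, rfl⟩ : (3 : ℤ) ∣ m := by
      have := orderOf_dvd_iff_zpow_eq_one.2 hg
      rwa [hord] at this
    rw [zpow_mul, zpow_ofNat, h3, one_zpow, mul_one]
    exact hk
  rw [eq_top_iff]
  intro g _
  have hmap : (g : HT) ∈ (Subgroup.closure (ev0 '' Set.Iio 12)).map H0.subtype := by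
    rw [MonoidHom.map_closure]
    refine Subgroup.closure_mono ?_ (hge g.2)
    rintro _ ⟨x, hx, rfl⟩
    exact ⟨ev0 x, ⟨x, hx, rfl⟩, by
      show ((ev0 x : H0) : HT) = _
      rw [ev0, dif_pos (show x < 12 from hx)]⟩
  obtain ⟨g', hg', e⟩ := Subgroup.mem_map.1 hmap
  rwa [Subtype.ext e] at hg'

/-- The derived subgroup is simple. -/
theorem isSimpleGroup_H0 : IsSimpleGroup H0 := by
  have : Finite H0 := Nat.finite_of_card_ne_zero (by rw [card_H0]; norm_num)
  have : Nontrivial H0 := Finite.one_lt_card_iff_nontrivial.1 (by rw [card_H0]; norm_num)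
  refine ⟨fun N hN => ?_⟩
  rcases eq_or_ne N ⊥ with h | hne
  · exact Or.inl h
  refine Or.inr ?_
  let f : ℕ → H0 ⧸ N := fun x => ((ev0 x : H0) : H0 ⧸ N)
  have a1 : f 0 = 1 := (QuotientGroup.eq_one_iff _).2 (a_mem_normal0 N hN hne)
  have inv : ∀ x, x < 6 → f (2 * x + 1) = (f (2 * x))⁻¹ := by
    intro x hx
    show ((ev0 (2 * x + 1) : H0) : H0 ⧸ N) = ((ev0 (2 * x) : H0) : H0 ⧸ N)⁻¹
    rw [← QuotientGroup.mk_inv]
    congr 1
    apply Subtype.ext
    rw [Subgroup.coe_inv, ev0, dif_pos (by omega), ev0, dif_pos (by omega)]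
    interval_cases x <;> rfl
  have o1 : f 1 = (f 0)⁻¹ := inv 0 (by decide)
  have o3 : f 3 = (f 2)⁻¹ := inv 1 (by decide)
  have o5 : f 5 = (f 4)⁻¹ := inv 2 (by decide)
  have o7 : f 7 = (f 6)⁻¹ := inv 3 (by decide)
  have o9 : f 9 = (f 8)⁻¹ := inv 4 (by decide)
  have o11 : f 11 = (f 10)⁻¹ := inv 5 (by decide)
  have get : ∀ w, hWords.contains w = true → (∀ x ∈ w, x < 12) → evW f w = 1 := by
    intro w hw hlt
    have h1 : evW ev0 w = 1 := Subtype.ext (by
      rw [coe_evW0 hlt, Subgroup.coe_one]
      exact hrels_hold w (List.contains_iff_mem.1 hw))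
    have := congrArg (QuotientGroup.mk' N) h1
    simp only [evW, map_list_prod, List.map_map, map_one] at this
    exact this
  have rb := get [2, 2] (by decide +kernel) (by decide +kernel)
  have rc := get [4, 4] (by decide +kernel) (by decide +kernel)
  have rab := get [0, 2, 0, 2, 0, 2] (by decide +kernel) (by decide +kernel)
  have rbc := get [2, 4, 2, 4, 2, 4] (by decide +kernel) (by decide +kernel)
  have rd := get [6, 6] (by decide +kernel) (by decide +kernel)
  have rde := get [6, 8, 6, 8, 6, 8] (by decide +kernel) (by decide +kernel)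
  have rbig := get (wpow [2, 4, 6, 8] 8) (by decide +kernel) (by decide +kernel)
  have rs := get [10, 10, 10, 10, 10, 10, 10] (by decide +kernel) (by decide +kernel)
  have rsd := get [10, 6, 10, 6] (by decide +kernel) (by decide +kernel)
  have res := get [9, 11, 8, 11, 11, 9, 10, 10, 10] (by decide +kernel) (by decide +kernel)
  simp only [evW_cons, evW_nil, evW_wpow, mul_one, o9, o11, a1, one_mul] at rb rc rab rbc rd rde rbig rs rsd res
  have three : ∀ x : H0 ⧸ N, x * x = 1 → x * (x * x) = 1 → x = 1 := fun x h2 h3 => by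
    rwa [h2, mul_one] at h3
  have b1 : f 2 = 1 := three _ rb rab
  simp only [b1, one_mul] at rbc rbig
  have c1 : f 4 = 1 := three _ rc rbc
  simp only [c1, one_mul] at rbig
  generalize hd : f 6 = d at rd rde rbig rsd res
  generalize he : f 8 = e at rde rbig res
  generalize hs : f 10 = s at rs rsd res
  have hde : d * e = 1 := by
    have h3 : (d * e) ^ 3 = 1 := by simpa [pow_succ, mul_assoc] using rde
    calc d * e = ((d * e) ^ 3) ^ 3 * ((d * e) ^ 8)⁻¹ := by group
      _ = 1 := by rw [h3, rbig, one_pow, inv_one, mul_one]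
  have hed : e = d := by
    rw [eq_comm, ← inv_eq_of_mul_eq_one_right rd, ← inv_eq_of_mul_eq_one_right hde]
  have hdinv : d⁻¹ = d := inv_eq_of_mul_eq_one_right rd
  rw [hed] at res
  have hds : s⁻¹ = d * s * d := by
    rw [eq_comm, eq_inv_iff_mul_eq_one]
    have h' : s * (d * (s * d)) = 1 := rsd
    calc d * s * d * s = s⁻¹ * (s * (d * (s * d))) * s := by group
      _ = 1 := by rw [h', mul_one, inv_mul_cancel]
  have hconj : d⁻¹ * (s⁻¹ * d) = s := by
    rw [hdinv, hds]
    calc d * (d * s * d * d) = (d * d) * s * (d * d) := by group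
      _ = s := by rw [rd, one_mul, mul_one]
  have hd2 : d = s ^ (-2 : ℤ) := by
    have h' : d⁻¹ * (s⁻¹ * d) * (s⁻¹ * (s⁻¹ * (d⁻¹ * (s * (s * s))))) = 1 := by
      simpa [mul_assoc] using res
    rw [hconj, hdinv] at h'
    have h'' : s⁻¹ * d * s ^ 3 = 1 := by
      simpa [pow_succ, mul_assoc] using h'
    calc d = s * (s⁻¹ * d * s ^ 3) * (s ^ 3)⁻¹ := by group
      _ = s ^ (-2 : ℤ) := by rw [h'']; group
  have hs7 : s ^ 7 = 1 := by simpa [pow_succ, mul_assoc] using rs
  have hs4 : s ^ 4 = 1 := by
    calc s ^ 4 = (d * d)⁻¹ := by rw [hd2]; group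
      _ = 1 := by rw [rd, inv_one]
  have s1 : s = 1 := by
    calc s = (s ^ 4) ^ 2 * (s ^ 7)⁻¹ := by group
      _ = 1 := by rw [hs4, hs7, one_pow, inv_one, mul_one]
  have d1 : d = 1 := by rw [hd2, s1, one_zpow]
  have e1 : e = 1 := hed.trans d1
  rw [eq_top_iff, ← gen_H0, Subgroup.closure_le]
  rintro _ ⟨x, hx, rfl⟩
  have hx' : x < 12 := hx
  refine (QuotientGroup.eq_one_iff _).1 ?_
  show f x = 1
  interval_cases x <;> simp [o1, o3, o5, o7, o9, o11, a1, b1, c1, hd, he, hs, s1, d1, e1]

theorem is3D4_H0 : Cfsg.Is3D4 H0 :=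
  ⟨isSimpleGroup_H0, 2, by norm_num [Nat.prime_two.isPrimePow], by rw [card_H0]; norm_num⟩

end CfsgLib.Th
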