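import Cfsg.Agent.Lib.Th.InvolQ
import Cfsg.Agent.Lib.LargeExtra.Transport

/-!
The seven letters centralising `a`: they normalise the extraspecial subgroup and act on its central factor as
the alternating group of degree nine.
-/
set_option autoImplicit false
set_option maxRecDepth 8000

namespace CfsgLib.Th.Invol

open CfsgLib.Presented CfsgLib.Presented.Vec CfsgLib.SymPresent
open scoped Classical

/-- the word of a mask -/
noncomputable def wordTo (m : ℕ) : ℕ → List ℕ
  | 0 => cond (bitAt m 8) [0] []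
  | k + 1 => wordTo m k ++ cond (bitAt m k) (qw k) []

/-- the vector of a mask -/
def vec (k m : ℕ) : Fin 8 → ZMod 2 := fun i => if (i : ℕ) < k ∧ m.testBit i = true then 1 else 0

theorem vec_succ {m k : ℕ} (hk : k < 8) :
    vec (k + 1) m = vec k m + (if m.testBit k = true then Pi.single ⟨k, hk⟩ 1 else 0) := by
  funext i
  simp only [vec, Pi.add_apply]
  rcases lt_trichotomy (i : ℕ) k with h | h | h
  · have : i ≠ ⟨k, hk⟩ := fun e => by rw [e] at h; exact lt_irrefl _ h
    split_ifs <;> simp_all <;> omega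
  · obtain rfl : i = ⟨k, hk⟩ := Fin.ext h
    split_ifs <;> simp_all
  · have : i ≠ ⟨k, hk⟩ := fun e => by rw [e] at h; exact lt_irrefl _ h
    split_ifs <;> simp_all <;> omega

theorem vec_zero (m : ℕ) : vec 0 m = 0 := by
  funext i
  simp [vec]

theorem vec_xor (a b : ℕ) : vec 8 (a ^^^ b) = vec 8 a + vec 8 b := by
  funext i
  simp only [vec, Pi.add_apply, i.2, true_and, Nat.testBit_xor]
  cases a.testBit i <;> cases b.testBit i <;> decide

theorem vec_mod (a : ℕ) : vec 8 (a % 256) = vec 8 a := by
  funext i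
  have hi : (i : ℕ) < 8 := i.2
  simp only [vec, hi, true_and]
  rw [show (256 : ℕ) = 2 ^ 8 from rfl, Nat.testBit_mod_two_pow]
  simp [hi]

theorem vec_single (i : Fin 8) : vec 8 (2 ^ (i : ℕ)) = Pi.single i 1 := by
  revert i; decide +kernel

/-- a linear map applied to a mask -/
noncomputable def appTo (tab : List ℕ) (m : ℕ) : ℕ → ℕ
  | 0 => 0
  | k + 1 => Nat.xor (appTo tab m k) (cond (bitAt m k) (tab.getD k 0) 0)

theorem app_spec (f : (Fin 8 → ZMod 2) →+ (Fin 8 → ZMod 2)) {tab : List ℕ}
    (h : ∀ i : Fin 8, f (Pi.single i 1) = vec 8 (tab.getD i 0)) (m : ℕ) :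
    f (vec 8 m) = vec 8 (appTo tab m 8) := by
  suffices ∀ k ≤ 8, f (vec k m) = vec 8 (appTo tab m k) from this 8 le_rfl
  intro k
  induction k with
  | zero =>
    intro _
    rw [vec_zero, map_zero, appTo]
    funext i
    simp [vec]
  | succ k ih =>
    intro hk
    show f (vec (k + 1) m) = vec 8 (appTo tab m k ^^^ _)
    rw [vec_succ hk, map_add, ih (Nat.le_of_succ_le hk), vec_xor, bitAt_eq]
    congr 1
    cases m.testBit k
    · rw [if_neg Bool.false_ne_true, map_zero, cond_false]
      funext i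
      simp [vec]
    · rw [if_pos rfl, cond_true]
      exact h ⟨k, hk⟩

theorem small_qw (k : ℕ) : small (qw k) = true := by
  by_cases hk : k < InvolData.qW.length
  · rw [qw, List.getD_eq_getElem _ _ hk]
    exact List.all_eq_true.1 qw_small _ (List.getElem_mem hk)
  · rw [qw, List.getD_eq_default _ _ (Nat.le_of_not_lt hk)]
    rfl

theorem small_wordTo (m : ℕ) : ∀ k, small (wordTo m k) = true
  | 0 => by rw [wordTo]; cases bitAt m 8 <;> rfl
  | k + 1 => by
    have h1 := small_wordTo m k
    have h2 := small_qw k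
    simp only [small, wordTo, List.all_append, Bool.and_eq_true] at h1 h2 ⊢
    refine ⟨h1, ?_⟩
    cases bitAt m k
    · rfl
    · exact h2

theorem wordTo_mem (m : ℕ) : ∀ k, k ≤ 8 → evW hev (wordTo m k) ∈ Q0
  | 0, _ => by
    rw [wordTo]
    cases bitAt m 8
    · simp
    · simpa using a0_mem
  | k + 1, hk => by
    rw [wordTo, evW_append]
    refine mul_mem (wordTo_mem m k (Nat.le_of_succ_le hk)) ?_
    cases bitAt m k
    · simp
    · exact qe_mem ⟨k, hk⟩

theorem pat_wordTo (m : ℕ) : ∀ k (hk : k ≤ 8),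
    pat ⟨evW hev (wordTo m k), wordTo_mem m k hk⟩ = Multiplicative.ofAdd (vec k m)
  | 0, hk => by
    rw [vec_zero, ofAdd_zero]
    refine (card_Q0.2 _).2 ?_
    show evW hev (wordTo m 0) = 1 ∨ evW hev (wordTo m 0) = a0
    rw [wordTo]
    cases bitAt m 8 <;> simp
  | k + 1, hk => by
    have e : (⟨evW hev (wordTo m (k + 1)), wordTo_mem m (k + 1) hk⟩ : Q0) =
        ⟨evW hev (wordTo m k), wordTo_mem m k (Nat.le_of_succ_le hk)⟩ *
          (if m.testBit k = true then ⟨qe k, qe_mem ⟨k, hk⟩⟩ else 1) := by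
      refine Subtype.ext ?_
      show evW hev (wordTo m k ++ _) = _
      rw [evW_append, bitAt_eq, Subgroup.coe_mul]
      congr 1
      cases m.testBit k <;> simp [qe]
    rw [e, map_mul, pat_wordTo m k (Nat.le_of_succ_le hk), vec_succ hk, ofAdd_add]
    congr 1
    split_ifs
    · exact pat_qe ⟨k, hk⟩
    · rw [map_one, ofAdd_zero]

/-- the table of a letter -/
noncomputable def tabOf (x : ℕ) : List ℕ :=
  InvolData.conjTab.foldr (fun p acc => cond (Nat.beq p.1 x) p.2 acc) []

/-- the six letters in the triality group -/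
def hLetters : List ℕ := [0, 4, 6, 8, 10, 12]

/-- the conjugation tables of the six letters and of `u`, checked -/
noncomputable def conjOK : Bool :=
  (hLetters.all fun g => (List.range 8).all fun i =>
    same ([alphabet.invl g] ++ qw i ++ [g]) (wordTo ((tabOf g).getD i 0) 8)) &&
  (List.range 8).all fun i => same (qw i) (lWord lGens (InvolData.qL.getD i [])) &&
    same (lWord lImgs (InvolData.qL.getD i [])) (wordTo ((tabOf 14).getD i 0) 8)

theorem conj_ok : conjOK = true := by decide +kernel

/-- the letters used -/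
def xLetters : List ℕ := [0, 4, 6, 8, 10, 11, 12, 13, 14, 15]

/-- the group they generate -/
noncomputable def X : Subgroup Cfsg.Spor.Th :=
  Subgroup.closure (ev '' {x | x ∈ [0, 4, 6, 8, 10, 12, 14]})

theorem ev_eq_iota {x : ℕ} (hx : x < 14) : ev x = iota (hev x) := by
  have := iota_evW (w := [x]) (by simp [noU, hx])
  simpa using this.symm

theorem invl_eq {x y : ℕ} (hx : x ≤ 16) (h : alphabet.invl x = y) : ev y = (ev x)⁻¹ := by
  have := (letters_good (extra := Cfsg.Spor.Th.extra)).inv x hx
  rw [h] at this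
  exact eq_inv_of_mul_eq_one_left this

theorem ev_mem_X {x : ℕ} (hx : x ∈ xLetters) : ev x ∈ X := by
  have h : ∀ y ∈ [0, 4, 6, 8, 10, 12, 14], ev y ∈ X := fun y hy => Subgroup.subset_closure ⟨y, hy, rfl⟩
  simp only [xLetters, List.mem_cons, List.not_mem_nil, or_false] at hx
  rcases hx with rfl | rfl | rfl | rfl | rfl | rfl | rfl | rfl | rfl | rfl
  all_goals first
    | exact h _ (by decide)
    | (rw [invl_eq (x := 10) (by decide) (by decide +kernel : alphabet.invl 10 = 11)]
       exact inv_mem (h _ (by decide)))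
    | (rw [invl_eq (x := 12) (by decide) (by decide +kernel : alphabet.invl 12 = 13)]
       exact inv_mem (h _ (by decide)))
    | (rw [invl_eq (x := 14) (by decide) (by decide +kernel : alphabet.invl 14 = 15)]
       exact inv_mem (h _ (by decide)))

/-- the central involution -/
noncomputable abbrev zT : Cfsg.Spor.Th := ev 0

theorem zT_eq : zT = iota a0 := ev_eq_iota (by norm_num)

theorem X_le_centralizer : X ≤ Subgroup.centralizer {zT} := by
  refine (Subgroup.closure_le _).2 ?_
  rintro _ ⟨x, hx, rfl⟩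
  rw [SetLike.mem_coe, Subgroup.mem_centralizer_singleton_iff]
  simp only [Set.mem_ofPred_eq, List.mem_cons, List.not_mem_nil, or_false] at hx
  have hU : ev 0 * ev 14 = ev 14 * ev 0 := by
    have h := lGens_comm 0
    rw [show lGens.getD 0 [] = [0] from rfl, show lImgs.getD 0 [] = [0] from rfl, hv_eq (by decide),
      show evW ev [0] = ev 0 by simp] at h
    exact h
  have hh : ∀ y ∈ [0, 4, 6, 8, 10, 12], ev y * zT = zT * ev y := by
    intro y hy
    have h14 : y < 14 := by
      simp only [List.mem_cons, List.not_mem_nil, or_false] at hy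
      omega
    have hm := St_comm (h := hev y) (by rw [St_eq]; exact mem_genBy hev hy)
    rw [zT_eq, ev_eq_iota h14, ← map_mul, ← map_mul, hm.eq]
  rcases hx with rfl | rfl | rfl | rfl | rfl | rfl | rfl
  all_goals first
    | exact hU.symm
    | exact hh _ (by decide)
    | exact (hh _ (by decide)).symm

/-- the extraspecial subgroup -/
noncomputable def QT : Subgroup Cfsg.Spor.Th := Q0.map iota

variable (hi : Function.Injective iota)

include hi in
theorem card_QT : Nat.card QT = 512 := by
  rw [QT, Subgroup.card_map_of_injective hi, card_Q0.1]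

include hi in
theorem extraspecial_QT : Cfsg.IsExtraspecial 2 QT :=
  have : Finite Q0 := Nat.finite_of_card_ne_zero (by rw [card_Q0.1]; norm_num)
  CfsgLib.LargeExtra.isExtraspecial_of_equiv (Q0.equivMapOfInjective iota hi) extraspecial_Q0

/-- conjugation of the generators by a letter -/
theorem conj_gen {g : ℕ} (hg : g ∈ [0, 4, 6, 8, 10, 12, 14]) (i : Fin 8) :
    (ev g)⁻¹ * iota (qe i) * ev g = iota (evW hev (wordTo ((tabOf g).getD i 0) 8)) := by
  have h := conj_ok
  simp only [conjOK, Bool.and_eq_true, List.all_eq_true, List.mem_range] at h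
  rcases eq_or_ne g 14 with rfl | hne
  · obtain ⟨h1, h2⟩ := h.2 i i.2
    have hc := lWord_comm (InvolData.qL.getD i [])
    show (ev 14)⁻¹ * hv (qw i) * ev 14 = hv _
    rw [hv_same h1, mul_assoc, show ev 14 = U from rfl, hc, inv_mul_cancel_left, hv_same h2]
  · have hg' : g ∈ hLetters := by
      simp only [hLetters, List.mem_cons, List.not_mem_nil, or_false] at hg ⊢
      omega
    have h14 : g < 14 := by
      simp only [List.mem_cons, List.not_mem_nil, or_false] at hg
      omega
    have e := same_spec (h.1 g hg' i i.2)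
    rw [evW_append, evW_append, evW_cons, evW_nil, mul_one, evW_cons, evW_nil, mul_one] at e
    rw [← e, map_mul, map_mul, ev_eq_iota h14, qe, ← map_inv]
    congr 3
    exact (eq_inv_of_mul_eq_one_left ((letters_good (extra := hExtra)).inv g (show g ≤ 16 by omega))).symm

include hi in
theorem X_le_normalizer : X ≤ Subgroup.normalizer (QT : Set Cfsg.Spor.Th) := by
  have : Finite HT := Nat.finite_of_card_ne_zero (by rw [card_HT]; norm_num)
  refine (Subgroup.closure_le _).2 ?_
  rintro _ ⟨g, hg, rfl⟩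
  have hfin : Finite QT := Finite.of_surjective _ (iota.subgroupMap_surjective Q0)
  have hle : QT.map (MulAut.conj (ev g)⁻¹).toMonoidHom ≤ QT := by
    rw [QT, Q0, MonoidHom.map_closure, MonoidHom.map_closure, Subgroup.closure_le]
    rintro _ ⟨_, ⟨x, hx, rfl⟩, rfl⟩
    rw [SetLike.mem_coe, ← MonoidHom.map_closure, MulEquiv.coe_toMonoidHom, MulAut.conj_apply, inv_inv]
    rcases hx with rfl | ⟨i, -, rfl⟩
    · have hc := X_le_centralizer (ev_mem_X (x := g) (by
        simp only [xLetters, Set.mem_ofPred_eq, List.mem_cons, List.not_mem_nil, or_false] at hg ⊢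
        omega))
      rw [Subgroup.mem_centralizer_singleton_iff, zT_eq] at hc
      rw [mul_assoc, ← hc, inv_mul_cancel_left]
      exact ⟨a0, a0_mem, rfl⟩
    · rw [conj_gen hg i]
      exact ⟨_, wordTo_mem _ _ le_rfl, rfl⟩
  have heq := Subgroup.eq_of_le_of_card_ge hle
    (Subgroup.card_map_of_injective (MulAut.conj (ev g)⁻¹).injective).ge
  rw [SetLike.mem_coe, ← inv_inv (ev g)]
  refine inv_mem ?_
  rw [Subgroup.mem_normalizer_iff]
  intro q
  constructor
  · intro hq
    rw [← heq]
    exact ⟨q, hq, rfl⟩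
  · intro hq
    rw [← heq] at hq
    obtain ⟨q', hq', e⟩ := hq
    rwa [← (MulAut.conj (ev g)⁻¹).injective e]

/-- the pattern of an element of the subgroup -/
noncomputable def piT : QT →* Multiplicative (Fin 8 → ZMod 2) :=
  pat.comp (Q0.equivMapOfInjective iota hi).symm.toMonoidHom

theorem piT_iota {q : HT} (hq : q ∈ Q0) :
    piT hi ⟨iota q, ⟨q, hq, rfl⟩⟩ = pat ⟨q, hq⟩ := by
  have : (Q0.equivMapOfInjective iota hi).symm ⟨iota q, ⟨q, hq, rfl⟩⟩ = ⟨q, hq⟩ :=
    (MulEquiv.symm_apply_eq _).2 rfl
  exact congrArg pat this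

theorem piT_surjective : Function.Surjective (piT hi) :=
  pat_surjective.comp (Q0.equivMapOfInjective iota hi).symm.surjective

theorem piT_ker {q : QT} (h : piT hi q = 1) : (q : Cfsg.Spor.Th) = 1 ∨ (q : Cfsg.Spor.Th) = zT := by
  obtain ⟨p, hp, e⟩ := q.2
  obtain rfl : q = ⟨iota p, ⟨p, hp, rfl⟩⟩ := Subtype.ext e.symm
  rw [piT_iota hi hp] at h
  rcases (card_Q0.2 _).1 h with h | h
  · left
    show iota p = 1
    rw [show p = 1 from h, map_one]
  · right
    show iota p = zT
    rw [zT_eq, show p = a0 from h]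

/-- conjugation inside the subgroup -/
noncomputable def conjQ (x : X) : QT →* QT where
  toFun q := ⟨(x : Cfsg.Spor.Th)⁻¹ * q * x, by
    have := (Subgroup.mem_normalizer_iff.1 (inv_mem (X_le_normalizer hi x.2)) (q : Cfsg.Spor.Th)).1 q.2
    rwa [inv_inv] at this⟩
  map_one' := Subtype.ext (by simp)
  map_mul' p q := Subtype.ext (by simp [mul_assoc])

theorem piT_conj_congr (x : X) {p q : QT} (hpq : piT hi p = piT hi q) :
    piT hi (conjQ hi x p) = piT hi (conjQ hi x q) := by
  have h := piT_ker hi (q := p * q⁻¹) (by rw [map_mul, map_inv, hpq, mul_inv_cancel])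
  have hfix : conjQ hi x (p * q⁻¹) = p * q⁻¹ := by
    refine Subtype.ext ?_
    show (x : Cfsg.Spor.Th)⁻¹ * (p * q⁻¹ : QT) * x = _
    rcases h with h | h <;> rw [h]
    · simp
    · have hc := X_le_centralizer x.2
      rw [Subgroup.mem_centralizer_singleton_iff] at hc
      rw [mul_assoc, ← hc, inv_mul_cancel_left]
  calc piT hi (conjQ hi x p) = piT hi (conjQ hi x (p * q⁻¹ * q)) := by rw [inv_mul_cancel_right]
    _ = piT hi (conjQ hi x q) := by
      rw [map_mul, map_mul, hfix, map_mul, map_inv, hpq, mul_inv_cancel, one_mul]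

/-- the action on the central factor, from the right -/
noncomputable def act (x : X) : (Fin 8 → ZMod 2) →+ (Fin 8 → ZMod 2) :=
  AddMonoidHom.mk'
    (fun v => Multiplicative.toAdd
      (piT hi (conjQ hi x (Function.surjInv (piT_surjective hi) (Multiplicative.ofAdd v)))))
    fun a b => by
      rw [← toAdd_mul, ← map_mul, ← map_mul]
      refine congrArg Multiplicative.toAdd (piT_conj_congr hi x ?_)
      rw [map_mul, Function.surjInv_eq (piT_surjective hi), Function.surjInv_eq (piT_surjective hi),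
        Function.surjInv_eq (piT_surjective hi), ofAdd_add]

theorem act_spec (x : X) {q : QT} {v : Fin 8 → ZMod 2} (h : piT hi q = Multiplicative.ofAdd v) :
    Multiplicative.ofAdd (act hi x v) = piT hi (conjQ hi x q) :=
  piT_conj_congr hi x ((Function.surjInv_eq (piT_surjective hi) _).trans h.symm)

theorem act_one (v : Fin 8 → ZMod 2) : act hi 1 v = v := by
  obtain ⟨q, hq⟩ := piT_surjective hi (Multiplicative.ofAdd v)
  refine Multiplicative.ofAdd.injective ?_
  rw [act_spec hi 1 hq, show conjQ hi 1 q = q from Subtype.ext (by show ((1 : X) : Cfsg.Spor.Th)⁻¹ * q * _ = _; simp)]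
  exact hq

theorem act_mul (x y : X) (v : Fin 8 → ZMod 2) : act hi (x * y) v = act hi y (act hi x v) := by
  obtain ⟨q, hq⟩ := piT_surjective hi (Multiplicative.ofAdd v)
  refine Multiplicative.ofAdd.injective ?_
  have h2 : piT hi (conjQ hi x q) = Multiplicative.ofAdd (act hi x v) := (act_spec hi x hq).symm
  rw [act_spec hi (x * y) hq, act_spec hi y h2]
  exact congrArg (piT hi) (Subtype.ext (show ((x * y : X) : Cfsg.Spor.Th)⁻¹ * q * _ = _ by
    show _ = (y : Cfsg.Spor.Th)⁻¹ * ((x : Cfsg.Spor.Th)⁻¹ * q * x) * y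
    simp [mul_assoc]))

/-- the action as permutations -/
noncomputable def psi9 : X →* Equiv.Perm (Fin 8 → ZMod 2) where
  toFun x :=
    { toFun := act hi x⁻¹
      invFun := act hi x
      left_inv := fun v => by rw [← act_mul, inv_mul_cancel, act_one]
      right_inv := fun v => by rw [← act_mul, mul_inv_cancel, act_one] }
  map_one' := Equiv.ext fun v => by show act hi (1 : X)⁻¹ v = v; rw [inv_one, act_one]
  map_mul' x y := Equiv.ext fun v => by
    show act hi (x * y)⁻¹ v = act hi x⁻¹ (act hi y⁻¹ v)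
    rw [mul_inv_rev, act_mul]

theorem QT_le_X : QT ≤ X := by
  have hQ : Q0 ≤ genBy hev [0, 4, 6, 8, 10, 12] := by
    rw [← St_eq]
    refine (Subgroup.closure_le _).2 ?_
    have hfix : (InvolData.qW.all fun w => Nat.beq (trace w 106) 106) = true := by decide +kernel
    rintro x (rfl | ⟨i, -, rfl⟩)
    · exact mem_St_of_comm (Commute.refl _)
    · rw [SetLike.mem_coe, mem_St]
      have hi' : (i : ℕ) < InvolData.qW.length := by rw [qW_length]; exact i.2
      have h2 := List.all_eq_true.1 hfix _ (List.getElem_mem hi')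
      have h1 := trace_spec (small_qw i) p106
      have h3 : (phi (qe i))⁻¹ p106 = p106 := Fin.ext (h1.trans (by
        rw [qw, List.getD_eq_getElem _ _ hi']
        exact Nat.eq_of_beq_eq_true h2))
      exact ((Equiv.Perm.inv_eq_iff_eq).1 h3).symm
  rw [QT, Subgroup.map_le_iff_le_comap]
  refine hQ.trans ((Subgroup.closure_le _).2 ?_)
  rintro _ ⟨x, hx, rfl⟩
  simp only [Set.mem_ofPred_eq, List.mem_cons, List.not_mem_nil, or_false] at hx
  rw [SetLike.mem_coe, Subgroup.mem_comap, ← ev_eq_iota (by omega)]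
  refine ev_mem_X ?_
  simp only [xLetters, List.mem_cons, List.not_mem_nil, or_false]
  omega

theorem QT_le_ker : QT.subgroupOf X ≤ (psi9 hi).ker := by
  intro x hx
  rw [MonoidHom.mem_ker]
  refine Equiv.ext fun v => ?_
  show act hi x⁻¹ v = v
  obtain ⟨q, hq⟩ := piT_surjective hi (Multiplicative.ofAdd v)
  refine Multiplicative.ofAdd.injective ?_
  rw [act_spec hi _ hq, show conjQ hi x⁻¹ q = ⟨_, hx⟩ * q * (⟨_, hx⟩ : QT)⁻¹ from Subtype.ext (by
    show ((x⁻¹ : X) : Cfsg.Spor.Th)⁻¹ * q * _ = _
    simp), map_mul, map_mul, map_inv, mul_comm (piT hi _) (piT hi q), mul_inv_cancel_right]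
  exact hq

/-- a letter in the group -/
noncomputable def xl (g : ℕ) : X := if h : g ∈ xLetters then ⟨ev g, ev_mem_X h⟩ else 1

/-- a word in the group -/
noncomputable def xw (w : List ℕ) : X := (w.map xl).prod

/-- follow a word on masks -/
noncomputable def foldT (w : List ℕ) (m : ℕ) : ℕ := w.foldl (fun m x => appTo (tabOf x) m 8) m

/-- inverse letters' tables checked -/
theorem invTab_ok : ([11, 13, 15].all fun g => (List.range 8).all fun i =>
    Nat.beq (appTo (tabOf (g - 1)) ((tabOf g).getD i 0) 8 % 256) (2 ^ i)) = true := by decide +kernel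

theorem piT_word (m : ℕ) : piT hi ⟨iota (evW hev (wordTo m 8)), ⟨_, wordTo_mem m 8 le_rfl, rfl⟩⟩ =
    Multiplicative.ofAdd (vec 8 m) := by
  exact (piT_iota hi (wordTo_mem m 8 le_rfl)).trans (pat_wordTo m 8 le_rfl)

theorem piT_qe (i : Fin 8) : piT hi ⟨iota (qe i), ⟨_, qe_mem i, rfl⟩⟩ = Multiplicative.ofAdd (Pi.single i 1) := by
  exact (piT_iota hi (qe_mem i)).trans (pat_qe i)

theorem act_letter {g : ℕ} (hg : g ∈ xLetters) (i : Fin 8) :
    act hi (xl g) (Pi.single i 1) = vec 8 ((tabOf g).getD i 0) := by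
  have base : ∀ g ∈ [0, 4, 6, 8, 10, 12, 14], ∀ i : Fin 8,
      act hi (xl g) (Pi.single i 1) = vec 8 ((tabOf g).getD i 0) := by
    intro g hg i
    have hx : g ∈ xLetters := by
      simp only [xLetters, List.mem_cons, List.not_mem_nil, or_false] at hg ⊢
      omega
    refine Multiplicative.ofAdd.injective ?_
    rw [act_spec hi _ (piT_qe hi i), ← piT_word hi]
    refine congrArg (piT hi) (Subtype.ext ?_)
    show ((xl g : X) : Cfsg.Spor.Th)⁻¹ * iota (qe i) * (xl g : X) = _
    rw [xl, dif_pos hx]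
    exact conj_gen hg i
  by_cases hb : g ∈ [0, 4, 6, 8, 10, 12, 14]
  · exact base g hb i
  have hg3 : g ∈ [11, 13, 15] := by
    simp only [xLetters, List.mem_cons, List.not_mem_nil, or_false] at hg hb ⊢
    omega
  have hg1 : g - 1 ∈ [0, 4, 6, 8, 10, 12, 14] := by
    simp only [List.mem_cons, List.not_mem_nil, or_false] at hg3 ⊢
    omega
  have h1 := app_spec (act hi (xl (g - 1))) (base _ hg1) ((tabOf g).getD i 0)
  have hc := List.all_eq_true.1 (List.all_eq_true.1 invTab_ok g hg3) i (List.mem_range.2 i.2)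
  rw [← vec_mod (appTo (tabOf (g - 1)) _ 8), Nat.eq_of_beq_eq_true hc, vec_single] at h1
  have hinv : xl g = (xl (g - 1))⁻¹ := by
    have hx1 : g - 1 ∈ xLetters := by
      simp only [xLetters, List.mem_cons, List.not_mem_nil, or_false] at hg1 ⊢
      omega
    have hk : ∀ y ∈ [11, 13, 15], alphabet.invl (y - 1) = y ∧ y - 1 ≤ 16 := by decide +kernel
    rw [xl, dif_pos hg, xl, dif_pos hx1]
    exact Subtype.ext (invl_eq (hk g hg3).2 (hk g hg3).1)
  rw [hinv, ← h1, ← act_mul, mul_inv_cancel, act_one]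

theorem act_word : ∀ {w : List ℕ}, w.all (fun x => decide (x ∈ xLetters)) = true → ∀ m : ℕ,
    act hi (xw w) (vec 8 m) = vec 8 (foldT w m)
  | [], _, m => act_one hi _
  | x :: w, h, m => by
    simp only [List.all_cons, Bool.and_eq_true, decide_eq_true_eq] at h
    rw [xw, List.map_cons, List.prod_cons, act_mul, app_spec (act hi (xl x)) (act_letter hi h.1) m]
    exact act_word h.2 _

/-- two words act alike -/
noncomputable def sameAct (v w : List ℕ) : Bool :=
  (v.all fun x => decide (x ∈ xLetters)) && (w.all fun x => decide (x ∈ xLetters)) &&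
    (List.range 8).all fun i => Nat.beq (foldT v (2 ^ i) % 256) (foldT w (2 ^ i) % 256)

theorem psi9_eq {v w : List ℕ} (h : sameAct v w = true) : psi9 hi (xw v) = psi9 hi (xw w) := by
  simp only [sameAct, Bool.and_eq_true] at h
  obtain ⟨⟨hv, hw⟩, he⟩ := h
  have hact : act hi (xw v) = act hi (xw w) := by
    refine AddMonoidHom.functions_ext _ _ _ fun i c => ?_
    have h01 : ∀ c : ZMod 2, c = 0 ∨ c = 1 := by decide
    rcases h01 c with rfl | rfl
    · rw [Pi.single_zero, map_zero, map_zero]
    · rw [← vec_single, act_word hi hv, act_word hi hw, ← vec_mod (foldT v _), ← vec_mod (foldT w _),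
        Nat.eq_of_beq_eq_true (List.all_eq_true.1 he i (List.mem_range.2 i.2))]
  refine inv_injective ?_
  rw [← map_inv, ← map_inv]
  refine Equiv.ext fun u => ?_
  show act hi (xw v)⁻¹⁻¹ u = act hi (xw w)⁻¹⁻¹ u
  rw [inv_inv, inv_inv, hact]

theorem xw_append (v w : List ℕ) : xw (v ++ w) = xw v * xw w := by simp [xw]

/-- a Carmichael generator -/
noncomputable def xCarm (i : Fin 7) : List ℕ := InvolData.xW.getD i []

theorem carm_ok : ((List.finRange 7).all fun i => sameAct (xCarm i ++ (xCarm i ++ xCarm i)) [] &&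
    (List.finRange 7).all fun j => decide (i = j) ||
      sameAct ((xCarm i ++ xCarm j) ++ (xCarm i ++ xCarm j)) []) = true := by decide +kernel

/-- the letters as products of the generators -/
noncomputable def exWord (g : ℕ) : List ℕ :=
  (InvolData.exW.foldr (fun p acc => cond (Nat.beq p.1 g) p.2 acc) []).flatMap fun i => InvolData.xW.getD i []

theorem ex_ok : ([0, 4, 6, 8, 10, 12, 14].all fun g => sameAct [g] (exWord g) &&
    (InvolData.exW.foldr (fun p acc => cond (Nat.beq p.1 g) p.2 acc) []).all fun i => Nat.blt i 7) = true := by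
  decide +kernel

theorem xCarm_nontrivial : vec 8 (foldT (xCarm 0) 1) ≠ vec 8 1 ∧
    (xCarm 0).all (fun x => decide (x ∈ xLetters)) = true := by decide +kernel

theorem range_psi9 : Nonempty ((psi9 hi).range ≃* alternatingGroup (Fin 9)) := by
  let y : Fin 7 → Equiv.Perm (Fin 8 → ZMod 2) := fun i => psi9 hi (xw (xCarm i))
  let e : Fin 7 → Fin 9 := fun i => ⟨i, by omega⟩
  let yy : Fin 7 → Equiv.Perm (Fin 8 → ZMod 2) × Equiv.Perm (Fin 9) := fun i => (y i, tri 7 8 (e i))
  have hp : ∀ w, sameAct w [] = true → psi9 hi (xw w) = 1 := fun w hw => by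
    rw [psi9_eq hi hw, show xw [] = 1 from rfl, map_one]
  have hcarm : Carm yy := by
    have h := carm_ok
    simp only [List.all_eq_true, Bool.and_eq_true, Bool.or_eq_true, decide_eq_true_eq] at h
    have ht : (∀ i : Fin 7, (tri (7 : Fin 9) 8 ⟨i, by omega⟩) ^ 3 = 1) ∧
        ∀ i j : Fin 7, i ≠ j → (tri (7 : Fin 9) 8 ⟨i, by omega⟩ * tri (7 : Fin 9) 8 ⟨j, by omega⟩) ^ 2 = 1 := by
      decide +kernel
    refine ⟨fun i => Prod.ext ?_ (ht.1 i), fun i j hij => Prod.ext ?_ (ht.2 i j hij)⟩
    · show y i ^ 3 = 1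
      rw [pow_three, ← hp _ (h i (List.mem_finRange _)).1, xw_append, xw_append, map_mul, map_mul]
    · show (y i * y j) ^ 2 = 1
      rw [pow_two, ← hp _ (((h i (List.mem_finRange _)).2 j (List.mem_finRange _)).resolve_left hij),
        xw_append, xw_append, map_mul, map_mul]
  obtain ⟨hinj, hmap, -⟩ := injOn_of_carm hcarm (MonoidHom.snd _ _) (MonoidHom.id (Equiv.Perm (Fin 9)))
    Function.injective_id (a := (7 : Fin 9)) (b := 8) (by decide) e (by decide) (by decide)
    (fun a b h => Fin.ext (congrArg Fin.val h :)) (by decide) (fun i => rfl)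
  set H := Subgroup.closure (Set.range yy)
  let f : H →* Equiv.Perm (Fin 9) := (MonoidHom.snd _ _).comp H.subtype
  have hf : Function.Injective f := fun a b h => Subtype.ext (hinj a.2 b.2 h)
  have hrange : f.range = alternatingGroup (Fin 9) := by
    rw [MonoidHom.range_comp, H.range_subtype, hmap, Subgroup.map_id]
  let eH : H ≃* alternatingGroup (Fin 9) :=
    (MonoidHom.ofInjective hf).trans (MulEquiv.subgroupCongr hrange)
  have hs : IsSimpleGroup (alternatingGroup (Fin 9)) := alternatingGroup.isSimpleGroup (by simp)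
  have : Nontrivial H := eH.toEquiv.nontrivial
  have : IsSimpleGroup H := IsSimpleGroup.isSimpleGroup_of_surjective eH.symm.toMonoidHom eH.symm.surjective
  let g : H →* Equiv.Perm (Fin 8 → ZMod 2) := (MonoidHom.fst _ _).comp H.subtype
  have hg : g.range = (psi9 hi).range := by
    rw [MonoidHom.range_comp, H.range_subtype, MonoidHom.map_closure]
    refine le_antisymm ((Subgroup.closure_le _).2 ?_) ?_
    · rintro _ ⟨_, ⟨i, rfl⟩, rfl⟩
      exact ⟨_, rfl⟩
    · rintro _ ⟨⟨x, hx⟩, rfl⟩
      induction hx using Subgroup.closure_induction with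
      | mem u hu =>
        obtain ⟨k, hk, rfl⟩ := hu
        have hk' : k ∈ xLetters := by
          simp only [Set.mem_ofPred_eq, xLetters, List.mem_cons, List.not_mem_nil, or_false] at hk ⊢
          omega
        obtain ⟨he, hlt⟩ := Bool.and_eq_true_iff.1 (List.all_eq_true.1 ex_ok k hk)
        have e1 : (⟨ev k, Subgroup.subset_closure ⟨k, hk, rfl⟩⟩ : X) = xw [k] := by
          simp [xw, xl, hk']
        rw [show psi9 hi ⟨ev k, _⟩ = psi9 hi (xw (exWord k)) from
          (congrArg (psi9 hi) e1).trans (psi9_eq hi he), exWord]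
        generalize InvolData.exW.foldr (fun p acc => cond (Nat.beq p.1 k) p.2 acc) [] = l at hlt
        induction l with
        | nil =>
          rw [show xw (List.flatMap (fun i => InvolData.xW.getD i []) []) = 1 from rfl, map_one]
          exact one_mem _
        | cons a l ih =>
          simp only [List.all_cons, Bool.and_eq_true, Nat.blt_eq] at hlt
          rw [List.flatMap_cons, xw_append, map_mul]
          exact mul_mem (Subgroup.subset_closure ⟨yy ⟨a, hlt.1⟩, ⟨_, rfl⟩, rfl⟩) (ih hlt.2)
      | one => rw [show (⟨1, _⟩ : X) = 1 from rfl, map_one]; exact one_mem _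
      | mul u v hu hv ihu ihv =>
        rw [show (⟨u * v, _⟩ : X) = ⟨u, hu⟩ * ⟨v, hv⟩ from rfl, map_mul]
        exact mul_mem ihu ihv
      | inv u hu ih =>
        rw [show (⟨u⁻¹, _⟩ : X) = (⟨u, hu⟩ : X)⁻¹ from rfl, map_inv]
        exact inv_mem ih
  have hne : g.ker ≠ ⊤ := by
    intro h
    have h1 : g ⟨yy 0, Subgroup.subset_closure ⟨0, rfl⟩⟩ = 1 := MonoidHom.mem_ker.1 (h ▸ Subgroup.mem_top _)
    change psi9 hi (xw (xCarm 0)) = 1 at h1
    refine xCarm_nontrivial.1 ?_
    rw [← act_word hi xCarm_nontrivial.2]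
    have h2 := congrArg (fun p : Equiv.Perm (Fin 8 → ZMod 2) => p.symm (vec 8 1)) h1
    exact h2
  have hk : g.ker = ⊥ := (Subgroup.Normal.eq_bot_or_eq_top (MonoidHom.normal_ker g)).resolve_right hne
  exact ⟨((MulEquiv.subgroupCongr hg.symm).trans (MonoidHom.ofInjective ((MonoidHom.ker_eq_bot_iff g).1 hk)).symm).trans eH⟩

end CfsgLib.Th.Invol
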