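import Cfsg.Agent.Lib.Th.Dce
import Cfsg.Agent.Lib.Presented.HalfCount
import Mathlib.Data.Fintype.Card

/-!
Neighbours of the named cosets: the 17199 labels at a named coset are the cosets of the subgroup normalised
by `u`, and a checked row assigns to each of them the orbit of the neighbour.
-/
set_option autoImplicit false

namespace CfsgLib.Th

open CfsgLib.Presented CfsgLib.Presented.Vec

/-- the permutations of 17199 points -/
noncomputable abbrev R17 : Rep := P17199.rep

/-- `q` lies in the orbit of `q₀` under the triality subgroup -/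
def InOrb (q₀ q : Cosets) : Prop := ∃ x : HT, q = iota x • q₀

theorem InOrb.refl (q : Cosets) : InOrb q q := ⟨1, by simp⟩

theorem InOrb.symm {p q : Cosets} (h : InOrb p q) : InOrb q p := by
  obtain ⟨x, rfl⟩ := h
  exact ⟨x⁻¹, by simp⟩

theorem InOrb.trans {p q r : Cosets} (h : InOrb p q) (h' : InOrb q r) : InOrb p r := by
  obtain ⟨x, rfl⟩ := h
  obtain ⟨y, rfl⟩ := h'
  exact ⟨y * x, by rw [map_mul, mul_smul]⟩

theorem InOrb.smul (x : HT) {p q : Cosets} (h : InOrb p q) : InOrb p (iota x • q) :=
  h.trans ⟨x, rfl⟩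

/-- the neighbour at a label -/
noncomputable def nb (x : HT) (q : Cosets) : Cosets := U⁻¹ • (iota x)⁻¹ • q

theorem nb_mul_mem {l : HT} (hl : l ∈ Lsub) (x : HT) (q : Cosets) : InOrb (nb x q) (nb (x * l) q) := by
  obtain ⟨v, hv⟩ := exists_comm hl
  refine ⟨v⁻¹, ?_⟩
  have e : U⁻¹ * (iota l)⁻¹ = (iota v)⁻¹ * U⁻¹ := by rw [← mul_inv_rev, hv, mul_inv_rev]
  simp only [nb, map_mul, mul_inv_rev, map_inv, ← mul_smul]
  rw [← mul_assoc, e, mul_assoc]

theorem nb_congr {x y : HT} (h : lact x pt0 = lact y pt0) (q : Cosets) : InOrb (nb x q) (nb y q) := by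
  have hl : x⁻¹ * y ∈ Lsub := by
    rw [mem_Lsub_iff, map_mul, Equiv.Perm.mul_apply, ← h, ← Equiv.Perm.mul_apply, ← map_mul, inv_mul_cancel,
      map_one, Equiv.Perm.one_apply]
  simpa using nb_mul_mem hl x q

/-- a representative of a label -/
noncomputable def rep (p : Fin R17.N) : HT := (lact_transitive p).choose

theorem lact_rep (p : Fin R17.N) : lact (rep p) pt0 = p := (lact_transitive p).choose_spec

theorem rep_congr {x : HT} (q : Cosets) : InOrb (nb (rep (lact x pt0)) q) (nb x q) :=
  nb_congr (lact_rep _) q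

/-- the labels named by words -/
noncomputable def seedBits : List (List ℕ) → ℕ
  | [] => 0
  | w :: ws => Nat.lor (applyNet (R17.netW (invWord alphabet w)) 1) (seedBits ws)

theorem small_invWord {w : List ℕ} (h : small w = true) : small (invWord alphabet w) = true := by
  have hinv : ∀ y < 16, Nat.blt (alphabet.invl y) 16 = true := by decide +kernel
  simp only [small, List.all_eq_true, Nat.blt_eq] at h ⊢
  intro y hy
  simp only [invWord, List.mem_reverse, List.mem_map] at hy
  obtain ⟨a, ha, rfl⟩ := hy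
  have := hinv a (h a ha)
  rwa [Nat.blt_eq] at this

theorem testBit_applyNetW {w : List ℕ} (h : small w = true) (S : ℕ) (k : Fin R17.N) :
    (applyNet (R17.netW w) S).testBit (k : ℕ) = S.testBit (lact (evW hev w) k : ℕ) := by
  rw [testBit_applyNet (Rep.netOk_netW P17199.rep_valid w), map_lact h, Rep.netW_perm P17199.rep_valid w k]

theorem seedBits_spec : ∀ {ws : List (List ℕ)}, (∀ w ∈ ws, small w = true) → ∀ {k : Fin R17.N},
    (seedBits ws).testBit (k : ℕ) = true → ∃ w ∈ ws, lact (evW hev w) pt0 = k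
  | [], _, k, h => by simp [seedBits] at h
  | w :: ws, hs, k, h => by
    change Nat.testBit (_ ||| _) _ = true at h
    rw [Nat.testBit_or, Bool.or_eq_true] at h
    rcases h with h | h
    · refine ⟨w, List.mem_cons_self, ?_⟩
      have hw := hs w List.mem_cons_self
      rw [testBit_applyNetW (small_invWord hw)] at h
      have h0 : lact (evW hev (invWord alphabet w)) k = pt0 := Fin.ext (VCert.one_bit h)
      rw [evW_invWord (letters_good (extra := hExtra)), map_inv] at h0
      · rw [← h0, ← Equiv.Perm.mul_apply, mul_inv_cancel, Equiv.Perm.one_apply]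
      · simp only [small, List.all_eq_true, Nat.blt_eq] at hw
        exact fun y hy => (hw y hy).le
    · obtain ⟨v, hv, e⟩ := seedBits_spec (fun v hv => hs v (List.mem_cons_of_mem _ hv)) h
      exact ⟨v, List.mem_cons_of_mem _ hv, e⟩

theorem growStep_sound (P : Fin R17.N → Prop) : ∀ {ws : List (List ℕ)},
    (∀ w ∈ ws, small w = true ∧ ∀ k, P (lact (evW hev w) k) → P k) → ∀ S : ℕ,
      (∀ k : Fin R17.N, S.testBit (k : ℕ) = true → P k) →
      ∀ k : Fin R17.N, (growStep R17 ws S).testBit (k : ℕ) = true → P k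
  | [], _, S, hS => hS
  | w :: ws, hw, S, hS => by
    apply growStep_sound P (fun v hv => hw v (List.mem_cons_of_mem _ hv))
    intro k hk
    change Nat.testBit (S ||| _) _ = true at hk
    rw [Nat.testBit_or, Bool.or_eq_true] at hk
    refine hk.elim (hS k) fun hk => ?_
    obtain ⟨h1, h2⟩ := hw w List.mem_cons_self
    rw [testBit_applyNetW h1] at hk
    exact h2 k (hS _ hk)

theorem grow_sound (P : Fin R17.N → Prop) {ws : List (List ℕ)}
    (hw : ∀ w ∈ ws, small w = true ∧ ∀ k, P (lact (evW hev w) k) → P k) : ∀ (n S : ℕ),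
      (∀ k : Fin R17.N, S.testBit (k : ℕ) = true → P k) →
      ∀ k : Fin R17.N, (grow R17 ws n S).testBit (k : ℕ) = true → P k
  | 0, _, hS => hS
  | n + 1, S, hS => by
    rw [grow, force_eq]
    exact grow_sound P hw n _ (growStep_sound P hw S hS)

variable (d : Cert) (n : ℕ)

/-- the word of an edge record from orbit `i` to orbit `j` -/
noncomputable def Cert.edgeWord (i j e : ℕ) : Option (List ℕ) :=
  match d.edgeAt n e with
  | some (i', h, j', _) => cond (Nat.beq i' i && Nat.beq j' j && small h) (some h) none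
  | none => none

/-- the words of stabilising records -/
noncomputable def Cert.stabWords (i : ℕ) (gens : List ℕ) : List (List ℕ) :=
  (gens.filterMap fun g => d.kWord n i [2 * g]).filter small

/-- the labels leading from orbit `i` to orbit `c.1` -/
noncomputable def Cert.classBits (i : ℕ) (ws : List (List ℕ)) (c : ℕ × List ℕ × ℕ × ℕ) : ℕ :=
  grow R17 ws c.2.2.1 (seedBits (c.2.1.filterMap (d.edgeWord n i c.1)))

/-- the classes are disjoint, of the stated sizes, and cover the labels -/
noncomputable def Cert.rowOK (i : ℕ) (ws : List (List ℕ)) : List (ℕ × List ℕ × ℕ × ℕ) → ℕ → Bool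
  | [], acc => Nat.beq acc (ones R17.N)
  | c :: cs, acc => force (d.classBits n i ws c) fun O =>
      Nat.beq (Nat.land O acc) 0 && Nat.beq (bitCountHalf 24 O R17.N) c.2.2.2 &&
        force (Nat.lor acc O) (Cert.rowOK i ws cs)

/-- labels into one orbit -/
def cntOf (cls : List (ℕ × List ℕ × ℕ × ℕ)) (j : ℕ) : ℕ :=
  (cls.map fun c => if c.1 = j then c.2.2.2 else 0).sum

/-- `rowOK` with the seeds already evaluated -/
noncomputable def Cert.rowLit (ws : List (List ℕ)) : List (ℕ × ℕ × ℕ × ℕ) → ℕ → Bool
  | [], acc => Nat.beq acc (ones R17.N)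
  | c :: cs, acc => force (grow R17 ws c.2.2.1 c.2.1) fun O =>
      Nat.beq (Nat.land O acc) 0 && Nat.beq (bitCountHalf 24 O R17.N) c.2.2.2 &&
        force (Nat.lor acc O) (Cert.rowLit ws cs)

variable {d n}

theorem seedBits_append : ∀ a b : List (List ℕ), seedBits (a ++ b) = seedBits a ||| seedBits b
  | [], b => (Nat.zero_or _).symm
  | w :: a, b => by
    rw [List.cons_append]
    show _ ||| seedBits (a ++ b) = (_ ||| seedBits a) ||| seedBits b
    rw [seedBits_append a b, Nat.or_assoc]

theorem Cert.rowOK_of_lit {i : ℕ} {ws : List (List ℕ)} : ∀ (cls : List (ℕ × List ℕ × ℕ × ℕ))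
    (lits : List (ℕ × ℕ × ℕ × ℕ)) {acc : ℕ}, Cert.rowLit ws lits acc = true →
      cls.map (fun c => (c.1, seedBits (c.2.1.filterMap (d.edgeWord n i c.1)), c.2.2.1, c.2.2.2)) = lits →
      d.rowOK n i ws cls acc = true
  | [], lits, acc, h, e => by
    subst e
    exact h
  | c :: cs, lits, acc, h, e => by
    subst e
    simp only [List.map_cons, Cert.rowLit, force_eq, Bool.and_eq_true] at h
    simp only [Cert.rowOK, Cert.classBits, force_eq, Bool.and_eq_true]
    exact ⟨h.1, Cert.rowOK_of_lit cs _ h.2 rfl⟩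

theorem Cert.classBits_sound (hall : ∀ m < n, d.Holds m) {i : ℕ} {gens : List ℕ}
    {c : ℕ × List ℕ × ℕ × ℕ} {k : Fin R17.N}
    (h : (d.classBits n i (d.stabWords n i gens) c).testBit (k : ℕ) = true) :
    InOrb (d.C c.1) (nb (rep k) (d.C i)) := by
  suffices ∀ x : HT, lact x pt0 = k → InOrb (d.C c.1) (nb x (d.C i)) from this _ (lact_rep k)
  refine grow_sound (fun k => ∀ x : HT, lact x pt0 = k → InOrb (d.C c.1) (nb x (d.C i))) ?_ _ _ ?_ k h
  · intro w hw
    simp only [Cert.stabWords, List.mem_filter, List.mem_filterMap] at hw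
    obtain ⟨⟨g, -, hg⟩, hsm⟩ := hw
    refine ⟨hsm, fun k hk x hx => ?_⟩
    have h1 := hk (evW hev w * x) (by rw [map_mul, Equiv.Perm.mul_apply, hx])
    have hfix := Cert.kWord_sound hall hg
    rw [rt, hv] at hfix
    rwa [nb, map_mul, mul_inv_rev, mul_smul, hfix] at h1
  · intro k hk x hx
    have hedge : ∀ w ∈ c.2.1.filterMap (d.edgeWord n i c.1),
        small w = true ∧ InOrb (d.C c.1) (nb (evW hev w) (d.C i)) := by
      intro w hw
      obtain ⟨e, -, he⟩ := List.mem_filterMap.1 hw
      unfold Cert.edgeWord at he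
      cases hr : d.edgeAt n e with
      | none => simp [hr] at he
      | some r =>
        obtain ⟨i', h', j', g⟩ := r
        simp only [hr] at he
        cases hc : (Nat.beq i' i && Nat.beq j' c.1 && small h')
        · simp [hc] at he
        · simp only [hc, cond_true, Option.some.injEq] at he
          subst he
          simp only [Bool.and_eq_true] at hc
          obtain ⟨⟨e1, e2⟩, e3⟩ := hc
          obtain rfl := Nat.eq_of_beq_eq_true e1
          obtain rfl := Nat.eq_of_beq_eq_true e2
          refine ⟨e3, ?_⟩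
          have := Cert.edgeAt_sound hall hr
          rw [Cert.pt, Cert.pt, rt, rt, rt] at this
          rw [nb, ← hv, this, hv, ← map_inv]
          exact ⟨_, rfl⟩
    obtain ⟨w, hw, e⟩ := seedBits_spec (fun w hw => (hedge w hw).1) hk
    exact (hedge w hw).2.trans (nb_congr (e.trans hx.symm) _)

theorem card_bits {N : ℕ} (O : ℕ) :
    ((Finset.univ : Finset (Fin N)).filter fun p : Fin N => O.testBit (p : ℕ) = true).card = bitCount O N := by
  rw [bitCount_eq]
  refine Finset.card_bij (fun p _ => (p : ℕ)) (fun p hp => ?_) (fun p _ q _ e => Fin.ext e) (fun k hk => ?_)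
  · simp only [Finset.mem_filter, Finset.mem_univ, true_and] at hp
    simp [p.2, hp]
  · simp only [Finset.mem_filter, Finset.mem_range] at hk
    exact ⟨⟨k, hk.1⟩, by simp [hk.2], rfl⟩

theorem card_bits_split {N acc O : ℕ} (hd : Nat.beq (Nat.land O acc) 0 = true) {P : Fin N → Prop}
    [DecidablePred P] :
    (Finset.univ.filter fun p : Fin N => acc.testBit (p : ℕ) = false ∧ P p).card =
      (Finset.univ.filter fun p : Fin N => O.testBit (p : ℕ) = true ∧ P p).card +
        (Finset.univ.filter fun p : Fin N => (Nat.lor acc O).testBit (p : ℕ) = false ∧ P p).card := by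
  classical
  have hdis : ∀ k, O.testBit k = true → acc.testBit k = false := by
    intro k hk
    have h0 : O &&& acc = 0 := Nat.eq_of_beq_eq_true hd
    have := congrArg (fun x => x.testBit k) h0
    simpa [Nat.testBit_and, hk] using this
  have e : ∀ k, (Nat.lor acc O).testBit k = (acc.testBit k || O.testBit k) := fun k => Nat.testBit_or acc O k
  rw [← Finset.card_union_of_disjoint]
  · congr 1
    ext p
    simp only [Finset.mem_union, Finset.mem_filter, Finset.mem_univ, true_and, e]
    cases hb : O.testBit (p : ℕ)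
    · simp
    · simp [hdis _ hb]
  · rw [Finset.disjoint_filter]
    intro p _ h1 h2
    rw [e, h1.1, Bool.or_true] at h2
    exact absurd h2.1 (by simp)

/-- Number of labels at orbit `i` whose neighbour is in a separated orbit `j`. -/
theorem Cert.rowOK_count (hall : ∀ m < n, d.Holds m) {i j : ℕ} {gens : List ℕ} :
    ∀ {cls : List (ℕ × List ℕ × ℕ × ℕ)} {acc : ℕ},
      (∀ c ∈ cls, c.1 ≠ j → ¬ InOrb (d.C j) (d.C c.1)) →
      d.rowOK n i (d.stabWords n i gens) cls acc = true →
      Nat.card {p : Fin R17.N // acc.testBit (p : ℕ) = false ∧ InOrb (d.C j) (nb (rep p) (d.C i))} = cntOf cls j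
  | [], acc, _, h => by
    simp only [cntOf, List.map_nil, List.sum_nil, Nat.card_eq_zero]
    refine Or.inl ⟨fun ⟨p, hp, _⟩ => ?_⟩
    rw [Nat.eq_of_beq_eq_true h, testBit_ones, decide_eq_false_iff_not] at hp
    exact hp p.2
  | c :: cs, acc, hsep, h => by
    classical
    simp only [Cert.rowOK, force_eq, Bool.and_eq_true] at h
    obtain ⟨⟨hd, hs⟩, hrest⟩ := h
    have ih := Cert.rowOK_count hall (fun e he => hsep e (List.mem_cons_of_mem _ he)) hrest
    generalize hO : d.classBits n i (d.stabWords n i gens) c = O at hd hs ih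
    have hOcard : ((Finset.univ : Finset (Fin R17.N)).filter fun p : Fin R17.N => O.testBit (p : ℕ) = true).card = c.2.2.2 := by
      rw [card_bits, ← bitCountHalf_eq 24]
      exact Nat.eq_of_beq_eq_true hs
    rw [Nat.card_eq_fintype_card, Fintype.card_subtype] at ih ⊢
    rw [card_bits_split hd, ih, cntOf, cntOf, List.map_cons, List.sum_cons]
    rw [Nat.add_right_cancel_iff]
    have hgood : ∀ p : Fin R17.N, O.testBit (p : ℕ) = true → InOrb (d.C c.1) (nb (rep p) (d.C i)) :=
      fun p hp => Cert.classBits_sound hall (gens := gens) (by rw [hO]; exact hp)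
    split_ifs with hcj
    · rw [← hOcard]
      refine congrArg Finset.card (Finset.filter_congr fun p _ => ?_)
      exact ⟨fun h => h.1, fun h => ⟨h, hcj ▸ hgood p h⟩⟩
    · rw [Finset.card_eq_zero, Finset.filter_eq_empty_iff]
      rintro p - ⟨h1, h2⟩
      exact hsep c List.mem_cons_self hcj (h2.trans (hgood p h1).symm)

theorem Cert.rowOK_orbit (hall : ∀ m < n, d.Holds m) {i : ℕ} {gens : List ℕ} (p : Fin R17.N) :
    ∀ {cls : List (ℕ × List ℕ × ℕ × ℕ)} {acc : ℕ}, d.rowOK n i (d.stabWords n i gens) cls acc = true →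
      acc.testBit (p : ℕ) = false → ∃ c ∈ cls, InOrb (d.C c.1) (nb (rep p) (d.C i))
  | [], acc, h, hp => by
    rw [Nat.eq_of_beq_eq_true h, testBit_ones, decide_eq_false_iff_not] at hp
    exact absurd p.2 hp
  | c :: cs, acc, h, hp => by
    simp only [Cert.rowOK, force_eq, Bool.and_eq_true] at h
    cases hb : (d.classBits n i (d.stabWords n i gens) c).testBit (p : ℕ)
    · obtain ⟨c', hc', h'⟩ := Cert.rowOK_orbit hall p h.2
        ((Nat.testBit_or _ _ _).trans (by rw [hp, hb]; rfl))
      exact ⟨c', List.mem_cons_of_mem _ hc', h'⟩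
    · exact ⟨c, List.mem_cons_self, Cert.classBits_sound hall (gens := gens) hb⟩

end CfsgLib.Th
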