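import Cfsg.Agent.Lib.Th.InvolOrb
import Cfsg.Agent.Lib.Th.InvolX
import Cfsg.Agent.Lib.Th.Cert.DceData
import Cfsg.Agent.Lib.Th.Rows
import Cfsg.Agent.Lib.Th.Cert.CoverData

/-!
The order of the centraliser of `a` in the presented Thompson group, from the orbits of the triality subgroup
on its cosets.
-/
set_option autoImplicit false
set_option maxRecDepth 100000

namespace CfsgLib.Th.Invol

open CfsgLib.Presented CfsgLib.Presented.Vec
open scoped Classical

/-- the named cosets -/
noncomputable abbrev Cc (j : ℕ) : Cosets := DceData.cert.C j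

/-- What is used about the presented group. -/
structure Facts : Prop where
  inj : Function.Injective iota
  card : Nat.card Cfsg.Spor.Th = 90745943887872000
  holds : ∀ m < 4311, DceData.cert.Holds m
  covered : ∀ q : Cosets, ∃ j < 11, InOrb (Cc j) q
  unique : ∀ {i j : ℕ}, i < 11 → j < 11 → ∀ {q : Cosets}, InOrb (Cc i) q → InOrb (Cc j) q → i = j
  size : ∀ j < 11, Nat.card {q : Cosets // InOrb (Cc j) q} = CoverData.sizes.getD j 0

variable (F : Facts)

include F

theorem finite_Th' : Finite Cfsg.Spor.Th := Nat.finite_of_card_ne_zero (by rw [F.card]; norm_num)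

omit F in
theorem iota_smul_c0' (x : HT) : iota x • c0 = c0 := by
  rw [c0, MulAction.Quotient.smul_coe, smul_eq_mul, mul_one, QuotientGroup.eq, mul_one]
  exact Subgroup.inv_mem _ ⟨x, rfl⟩

/-- the stabiliser of a named coset -/
noncomputable def Stab (j : ℕ) : Subgroup HT := (MulAction.stabilizer Cfsg.Spor.Th (Cc j)).comap iota

omit F in
theorem mem_Stab {j : ℕ} {x : HT} : x ∈ Stab j ↔ iota x • Cc j = Cc j := Iff.rfl

theorem card_Stab {j : ℕ} (hj : j < 11) :
    CoverData.sizes.getD j 0 * Nat.card (Stab j) = 634023936 := by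
  have : Finite HT := Nat.finite_of_card_ne_zero (by rw [card_HT]; norm_num)
  let : MulAction HT Cosets := MulAction.compHom _ iota
  have e : Stab j = MulAction.stabilizer HT (Cc j) := rfl
  have ho : MulAction.orbit HT (Cc j) = {q | InOrb (Cc j) q} := by
    ext q
    exact ⟨fun ⟨x, hx⟩ => ⟨x, hx.symm⟩, fun ⟨x, hx⟩ => ⟨x, hx.symm⟩⟩
  have h1 := MulAction.index_stabilizer HT (Cc j)
  rw [ho, ← Nat.card_coe_set_eq] at h1
  have h2 := (MulAction.stabilizer HT (Cc j)).card_mul_index
  rw [h1, card_HT] at h2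
  rw [← F.size j hj, e, mul_comm]
  exact h2

/-- the records of stabilising words -/
noncomputable def stabIs (j id : ℕ) (w : List ℕ) : Bool :=
  match DceData.cert.recs.get id with
  | .stab i w' _ => Nat.beq i j && listEq w' w && Nat.blt id 4311
  | .edge .. => false

theorem gW_le_Stab {j : ℕ} {ids : List ℕ} {ws : List (List ℕ)}
    (h : ((ids.zip ws).all fun e => stabIs j e.1 e.2) = true) (hl : ids.length = ws.length) :
    gW ws ≤ Stab j := by
  refine (Subgroup.closure_le _).2 ?_
  rintro _ ⟨w, hw, rfl⟩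
  obtain ⟨k, hk, rfl⟩ := List.mem_iff_getElem.1 hw
  have he := List.all_eq_true.1 h (ids[k]'(hl ▸ hk), ws[k])
    (List.mem_iff_getElem.2 ⟨k, by simp [hl, hk], by simp⟩)
  unfold stabIs at he
  dsimp only at he
  cases hr : DceData.cert.recs.get (ids[k]'(hl ▸ hk)) with
  | edge i h' j' g src k' l => simp [hr] at he
  | stab i w' src =>
    simp only [hr, Bool.and_eq_true, Nat.blt_eq] at he
    obtain ⟨⟨h1, h2⟩, h3⟩ := he
    have hh := F.holds _ h3
    rw [Cert.Holds, hr] at hh
    rw [Nat.eq_of_beq_eq_true h1, listEq_eq h2] at hh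
    change (iota (evW hev (ws[k])))⁻¹ • Cc j = Cc j at hh
    rw [inv_smul_eq_iff] at hh
    exact hh.symm

/-- the centraliser of the involution -/
noncomputable abbrev Cz : Subgroup Cfsg.Spor.Th := Subgroup.centralizer {zT}

/-- the cosets reached from the base coset by the centraliser -/
noncomputable def O : Set Cosets := MulAction.orbit Cz c0

theorem card_Cz : Nat.card Cz = O.ncard * 774144 := by
  have e : Nat.card (MulAction.stabilizer Cz c0) = 774144 := by
    rw [← card_St]
    refine (Nat.card_congr (Equiv.ofBijective (fun s : St => (⟨⟨iota s, ?_⟩, ?_⟩ : MulAction.stabilizer Cz c0)) ⟨?_, ?_⟩)).symm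
    · rw [Subgroup.mem_centralizer_singleton_iff, zT_eq, ← map_mul, ← map_mul, (St_comm s.2).eq]
    · exact iota_smul_c0' (s : HT)
    · intro s t h
      exact Subtype.ext (F.inj (congrArg (fun g : MulAction.stabilizer Cz c0 => ((g : Cz) : Cfsg.Spor.Th)) h))
    · rintro ⟨⟨g, hg⟩, hfix⟩
      have hfix' : g • c0 = c0 := hfix
      rw [c0, MulAction.Quotient.smul_coe, smul_eq_mul, mul_one, QuotientGroup.eq, mul_one, inv_mem_iff] at hfix'
      obtain ⟨x, rfl⟩ := hfix'
      rw [Subgroup.mem_centralizer_singleton_iff, zT_eq, ← map_mul, ← map_mul] at hg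
      exact ⟨⟨x, mem_St_of_comm (F.inj hg)⟩, rfl⟩
  have h1 := MulAction.index_stabilizer Cz c0
  have h2 := (MulAction.stabilizer Cz c0).card_mul_index
  rw [h1, e] at h2
  rw [O, ← h2, mul_comm]

/-- the cosets of the orbit `j` reached -/
noncomputable def Oj (j : ℕ) : Set Cosets := {q | q ∈ O ∧ InOrb (Cc j) q}

/-- the points occurring for orbit `j` -/
noncomputable def Pj (j : ℕ) : Finset (Fin P819.rep.N) :=
  Finset.univ.filter fun p => ∃ h : HT, iota h • Cc j ∈ O ∧ phi h⁻¹ p106 = p

omit F in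
theorem card_preimage {α β : Type*} [Finite α] [Finite β] (f : α → β) (s : Set β) (n : ℕ)
    (h : ∀ b ∈ s, Nat.card {a // f a = b} = n) : Nat.card {a // f a ∈ s} = n * s.ncard := by
  have := Fintype.ofFinite α
  have := Fintype.ofFinite β
  rw [Nat.card_eq_fintype_card, Fintype.card_subtype, Set.ncard_eq_toFinset_card',
    Finset.card_eq_sum_card_fiberwise (f := f) (t := s.toFinset) fun a ha => by simpa using ha,
    mul_comm, ← smul_eq_mul, ← Finset.sum_const]
  refine Finset.sum_congr rfl fun b hb => ?_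
  rw [← h b (Set.mem_toFinset.1 hb), Nat.card_eq_fintype_card, Fintype.card_subtype]
  congr 1
  ext a
  simp only [Finset.mem_filter, Finset.mem_univ, true_and]
  exact ⟨fun h => h.2, fun h' => ⟨h' ▸ Set.mem_toFinset.1 hb, h'⟩⟩

theorem left_mem_O {h : HT} {q : Cosets} (hh : h ∈ St) : iota h • q ∈ O ↔ q ∈ O := by
  have hc : iota h ∈ Cz := by
    rw [Subgroup.mem_centralizer_singleton_iff, zT_eq, ← map_mul, ← map_mul, (St_comm hh).eq]
  show (⟨iota h, hc⟩ : Cz) • q ∈ MulAction.orbit Cz c0 ↔ q ∈ MulAction.orbit Cz c0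
  rw [← MulAction.orbit_eq_iff, MulAction.orbit_smul, MulAction.orbit_eq_iff]

theorem card_Oj (j : ℕ) : (Oj j).ncard * Nat.card (Stab j) = (Pj j).card * 774144 := by
  have : Finite HT := Nat.finite_of_card_ne_zero (by rw [card_HT]; norm_num)
  have : Finite Cfsg.Spor.Th := finite_Th' F
  let g : HT → Cosets := fun h => iota h • Cc j
  let f : HT → Fin P819.rep.N := fun h => phi h⁻¹ p106
  have hg : Nat.card {h // g h ∈ Oj j} = Nat.card (Stab j) * (Oj j).ncard := by
    refine card_preimage g (Oj j) _ fun q hq => ?_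
    obtain ⟨h0, rfl⟩ := hq.2
    refine (Nat.card_congr (Equiv.ofBijective (fun x : Stab j => (⟨h0 * x, ?_⟩ : {h // g h = iota h0 • Cc j}))
      ⟨?_, ?_⟩)).symm
    · show iota (h0 * x) • Cc j = _
      rw [map_mul, mul_smul, mem_Stab.1 x.2]
    · intro x y e
      exact Subtype.ext (mul_left_cancel (congrArg Subtype.val e))
    · rintro ⟨h, hh⟩
      refine ⟨⟨h0⁻¹ * h, ?_⟩, Subtype.ext (mul_inv_cancel_left h0 h)⟩
      rw [mem_Stab, map_mul, mul_smul, map_inv, inv_smul_eq_iff]
      exact hh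
  have hf : Nat.card {h // f h ∈ (↑(Pj j) : Set (Fin P819.rep.N))} = 774144 * (↑(Pj j) : Set (Fin P819.rep.N)).ncard := by
    refine card_preimage f _ _ fun p hp => ?_
    obtain ⟨h0, -, rfl⟩ := (Finset.mem_filter.1 hp).2
    rw [← card_St]
    refine (Nat.card_congr (Equiv.ofBijective (fun x : St => (⟨x * h0, ?_⟩ : {h // f h = phi h0⁻¹ p106}))
      ⟨?_, ?_⟩)).symm
    · show phi (x * h0)⁻¹ p106 = _
      rw [mul_inv_rev, map_mul, Equiv.Perm.mul_apply, mem_St.1 (inv_mem x.2)]
    · intro x y e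
      exact Subtype.ext (mul_right_cancel (congrArg Subtype.val e))
    · rintro ⟨h, hh⟩
      refine ⟨⟨h * h0⁻¹, ?_⟩, Subtype.ext (inv_mul_cancel_right h h0)⟩
      rw [mem_St, map_mul, Equiv.Perm.mul_apply, ← hh]
      show phi h (phi h⁻¹ p106) = p106
      rw [← Equiv.Perm.mul_apply, ← map_mul, mul_inv_cancel, map_one, Equiv.Perm.one_apply]
  have e : ∀ h, g h ∈ Oj j ↔ f h ∈ (↑(Pj j) : Set (Fin P819.rep.N)) := by
    intro h
    simp only [Pj, Finset.coe_filter, Finset.mem_univ, true_and, Set.mem_ofPred_eq]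
    constructor
    · exact fun hh => ⟨h, hh.1, rfl⟩
    · rintro ⟨h', hh', e⟩
      have hs : h * h'⁻¹ ∈ St := by
        rw [mem_St, map_mul, Equiv.Perm.mul_apply, e]
        show phi h (phi h⁻¹ p106) = p106
        rw [← Equiv.Perm.mul_apply, ← map_mul, mul_inv_cancel, map_one, Equiv.Perm.one_apply]
      refine ⟨?_, h, rfl⟩
      show iota h • Cc j ∈ O
      rw [show h = h * h'⁻¹ * h' by group, map_mul, mul_smul, left_mem_O F hs]
      exact hh'
  rw [Set.ncard_coe_finset] at hf
  rw [mul_comm, ← hg, mul_comm, ← hf]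
  exact Nat.card_congr (Equiv.subtypeEquivRight e)

theorem Pj_fixed {j : ℕ} {p : Fin P819.rep.N} (hp : p ∈ Pj j) :
    evW hev (conjWord (wp p)) ∈ Stab j := by
  obtain ⟨h, hO, rfl⟩ := (Finset.mem_filter.1 hp).2
  rw [← conj_eq, inv_inv, mem_Stab, map_mul, map_mul, map_inv, mul_smul, mul_smul, inv_smul_eq_iff, ← zT_eq]
  obtain ⟨c, hc⟩ := hO
  have hc' : (c : Cfsg.Spor.Th) • c0 = iota h • Cc j := hc
  have hz := Subgroup.mem_centralizer_singleton_iff.1 c.2
  rw [← hc', ← mul_smul, ← hz, mul_smul, show zT • c0 = c0 by rw [zT_eq]; exact iota_smul_c0' _]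

theorem Pj_invariant {j : ℕ} {p : Fin P819.rep.N} (hp : p ∈ Pj j) {x : HT} (hx : x ∈ Stab j) :
    phi x p ∈ Pj j := by
  obtain ⟨h, hO, rfl⟩ := (Finset.mem_filter.1 hp).2
  refine Finset.mem_filter.2 ⟨Finset.mem_univ _, h * x⁻¹, ?_, ?_⟩
  · rw [map_mul, mul_smul, mem_Stab.1 (inv_mem hx)]
    exact hO
  · rw [mul_inv_rev, inv_inv, map_mul, Equiv.Perm.mul_apply]

/-- possible numbers of points -/
noncomputable def options (pts : List (List ℕ)) : List ℕ :=
  pts.sublists.map fun sel => (sel.flatten.map ptOf).dedup.length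

theorem card_Pj {j n : ℕ} (hj : j < 11) {ids : List ℕ} {ws pts : List (List ℕ)} {c wit : ℕ}
    {chain : List (ℕ × List ℕ × List (List ℕ))}
    (hrec : ((ids.zip ws).all fun e => stabIs j e.1 e.2) = true) (hl : ids.length = ws.length)
    (hf : orbitFacts ws c wit pts chain n = true) (hn : CoverData.sizes.getD j 0 * n = 634023936) :
    (Pj j).card ∈ options pts ∧ Nat.card (Stab j) = n := by
  have : Finite HT := Nat.finite_of_card_ne_zero (by rw [card_HT]; norm_num)
  obtain ⟨hcard, hex, horb⟩ := orbitFacts_spec hf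
  have hle := gW_le_Stab F hrec hl
  have hS : Nat.card (Stab j) = n := by
    have := card_Stab F hj
    rw [← hn] at this
    refine Nat.eq_of_mul_eq_mul_left (Nat.pos_of_ne_zero fun h => ?_) this
    rw [h, zero_mul] at hn
    omega
  have heq : gW ws = Stab j := Subgroup.eq_of_le_of_card_ge hle (hS ▸ hcard)
  refine ⟨?_, hS⟩
  let sel := pts.filter fun t => decide (∃ p ∈ Pj j, (p : ℕ) ∈ t.map ptOf)
  refine List.mem_map.2 ⟨sel, List.mem_sublists.2 List.filter_sublist, ?_⟩
  have hset : (Pj j).image Fin.val = (sel.flatten.map ptOf).toFinset := by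
    ext k
    simp only [Finset.mem_image, List.mem_toFinset, List.mem_map, List.mem_flatten]
    constructor
    · rintro ⟨p, hp, rfl⟩
      obtain ⟨t, ht, hpt⟩ := hex p (heq ▸ Pj_fixed F hp)
      obtain ⟨v, hv, hv'⟩ := List.mem_map.1 hpt
      exact ⟨v, ⟨t, List.mem_filter.2 ⟨ht, decide_eq_true ⟨p, hp, hpt⟩⟩, hv⟩, hv'⟩
    · rintro ⟨v, ⟨t, ht, hv⟩, rfl⟩
      obtain ⟨ht, hsel⟩ := List.mem_filter.1 ht
      obtain ⟨p, hp, hpt⟩ := of_decide_eq_true hsel
      obtain ⟨v', hv', e⟩ := List.mem_map.1 hpt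
      obtain ⟨x, hx, hxv⟩ := (horb t ht).2 v' hv' v hv p e.symm
      exact ⟨phi x p, Pj_invariant F hp (hle hx), hxv⟩
  rw [← List.card_toFinset, ← hset, Finset.card_image_of_injective _ Fin.val_injective]

theorem O_zero : Oj 0 = {c0} := by
  have h0 : Cc 0 = c0 := DceData.cert.C_zero
  ext q
  constructor
  · rintro ⟨-, x, rfl⟩
    rw [h0, iota_smul_c0']
    rfl
  · rintro rfl
    exact ⟨MulAction.mem_orbit_self _, h0 ▸ InOrb.refl _⟩

theorem card_O : O.ncard = ∑ j ∈ Finset.range 11, (Oj j).ncard := by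
  have : Finite Cfsg.Spor.Th := finite_Th' F
  let _ : Fintype Cosets := Fintype.ofFinite Cosets
  let ind : Cosets → ℕ := fun q => (F.covered q).choose
  rw [Set.ncard_eq_toFinset_card', Finset.card_eq_sum_card_fiberwise (f := ind) (t := Finset.range 11)
    fun q _ => Finset.mem_range.2 (F.covered q).choose_spec.1]
  refine Finset.sum_congr rfl fun j hj => ?_
  rw [Set.ncard_eq_toFinset_card']
  congr 1
  ext q
  rw [Finset.mem_filter, Set.mem_toFinset, Set.mem_toFinset]
  show q ∈ O ∧ _ ↔ q ∈ O ∧ InOrb (Cc j) q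
  refine and_congr_right fun _ => ⟨fun h => ?_, fun h => ?_⟩
  · exact h ▸ (F.covered q).choose_spec.2
  · exact F.unique (F.covered q).choose_spec.1 (Finset.mem_range.1 hj) (F.covered q).choose_spec.2 h

theorem card_Oj_of {j n : ℕ} (hj : j < 11) {ids : List ℕ} {ws pts : List (List ℕ)} {c wit : ℕ}
    {chain : List (ℕ × List ℕ × List (List ℕ))}
    (hrec : ((ids.zip ws).all fun e => stabIs j e.1 e.2) = true) (hl : ids.length = ws.length)
    (hf : orbitFacts ws c wit pts chain n = true) (hn : CoverData.sizes.getD j 0 * n = 634023936) :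
    ∃ t ∈ options pts, (Oj j).ncard * n = t * 774144 := by
  obtain ⟨h1, h2⟩ := card_Pj F hj hrec hl hf hn
  exact ⟨_, h1, h2 ▸ card_Oj F j⟩

/-- The order of the centraliser, given that it is a multiple of the order of the group of the seven letters. -/
theorem card_Cz_eq (hdvd : 92897280 ∣ Nat.card Cz) : Nat.card Cz = 92897280 := by
  obtain ⟨t1, m1, e1⟩ := card_Oj_of F (j := 1) (by decide) (ids := CoverData.gens1) (by decide +kernel) rfl facts1
    (by decide +kernel)
  obtain ⟨t2, m2, e2⟩ := card_Oj_of F (j := 2) (by decide) (ids := CoverData.gens2) (by decide +kernel) rfl facts2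
    (by decide +kernel)
  obtain ⟨t3, m3, e3⟩ := card_Oj_of F (j := 3) (by decide) (ids := CoverData.gens3) (by decide +kernel) rfl facts3
    (by decide +kernel)
  obtain ⟨t4, m4, e4⟩ := card_Oj_of F (j := 4) (by decide) (ids := CoverData.gens4) (by decide +kernel) rfl facts4
    (by decide +kernel)
  obtain ⟨t5, m5, e5⟩ := card_Oj_of F (j := 5) (by decide) (ids := CoverData.gens5) (by decide +kernel) rfl facts5
    (by decide +kernel)
  obtain ⟨t6, m6, e6⟩ := card_Oj_of F (j := 6) (by decide) (ids := CoverData.gens6) (by decide +kernel) rfl facts6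
    (by decide +kernel)
  obtain ⟨t7, m7, e7⟩ := card_Oj_of F (j := 7) (by decide) (ids := CoverData.gens7) (by decide +kernel) rfl facts7
    (by decide +kernel)
  obtain ⟨t8, m8, e8⟩ := card_Oj_of F (j := 8) (by decide) (ids := CoverData.gens8) (by decide +kernel) rfl facts8
    (by decide +kernel)
  obtain ⟨t9, m9, e9⟩ := card_Oj_of F (j := 9) (by decide) (ids := CoverData.gens9) (by decide +kernel) rfl facts9
    (by decide +kernel)
  obtain ⟨t10, m10, e10⟩ := card_Oj_of F (j := 10) (by decide) (ids := CoverData.gens10) (by decide +kernel) rfl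
    facts10 (by decide +kernel)
  have z : ∀ pts : List (List ℕ), pts = [] → options pts = [0] := by rintro _ rfl; decide +kernel
  rw [z _ (by decide +kernel), List.mem_singleton] at m3 m5 m6 m7 m8 m9 m10
  subst m3 m5 m6 m7 m8 m9 m10
  have hO := card_O F
  simp only [Finset.sum_range_succ, Finset.sum_range_zero, O_zero F, Set.ncard_singleton] at hO
  have hn : O.ncard = 1 + 21 * t1 + 56 * t2 + 2688 * t4 := by omega
  have hcard := card_Cz F
  have : Finite Cfsg.Spor.Th := finite_Th' F
  have hTh : Nat.card Cz ∣ 90745943887872000 := F.card ▸ Cz.card_subgroup_dvd_card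
  rw [hcard, hn] at hdvd hTh
  have key : ((options InvolData.pts1).all fun a => (options InvolData.pts2).all fun b =>
      (options InvolData.pts4).all fun c =>
        !(Nat.beq ((1 + 21 * a + 56 * b + 2688 * c) * 774144 % 92897280) 0 &&
          Nat.beq (90745943887872000 % ((1 + 21 * a + 56 * b + 2688 * c) * 774144)) 0) ||
        Nat.beq (1 + 21 * a + 56 * b + 2688 * c) 120) = true := by
    decide +kernel
  have h := List.all_eq_true.1 (List.all_eq_true.1 (List.all_eq_true.1 key t1 m1) t2 m2) t4 m4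
  rw [Nat.mod_eq_zero_of_dvd hdvd, Nat.mod_eq_zero_of_dvd hTh, Nat.beq_refl, Bool.and_self, Bool.not_true,
    Bool.false_or] at h
  rw [hcard, hn, Nat.eq_of_beq_eq_true h]

end CfsgLib.Th.Invol
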