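import Cfsg.Agent.Lib.Th.Order
import Cfsg.Agent.Lib.Th.HTSimple
import Cfsg.Prelude.Def_Sporadic

/-!
Simplicity of the presented Thompson group and faithfulness of its representation.
-/
set_option autoImplicit false
set_option maxRecDepth 8000
set_option Elab.async false

namespace CfsgLib.Th

open CfsgLib.Presented

theorem range_not_normal (h : iota.range.Normal) : False := by
  have hU : U ∈ iota.range := by
    by_contra hU
    have hx : ∀ x : HT, x ∈ Lsub := fun x => conj_mem (by
      have := h.conj_mem (iota x) ⟨x, rfl⟩ U⁻¹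
      rwa [inv_inv] at this)
    have hi := index_Lsub
    rw [(Subgroup.eq_top_iff' _).2 hx, Subgroup.index_top] at hi
    omega
  have := eq_top_iff.2 (le_of_eq gen_top.symm |>.trans (show Subgroup.closure (ev '' Set.Iio alphabet.eps) ≤
      iota.range from (Subgroup.closure_le _).2 (by
    rintro _ ⟨x, hx, rfl⟩
    have hx' : x < 16 := hx
    rcases Nat.lt_or_ge x 14 with h14 | h14
    · refine ⟨evW hev [x], ?_⟩
      rw [iota_evW (by simp [noU, h14])]
      simp
    · obtain rfl | rfl : x = 14 ∨ x = 15 := by omega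
      · exact hU
      · rw [ev15]
        exact inv_mem hU)))
  have hi := index_range
  rw [this, Subgroup.index_top] at hi
  omega

/-- The presented Thompson group is simple. -/
theorem isSimpleGroup_Th : IsSimpleGroup Cfsg.Spor.Th := by
  have : Finite Cfsg.Spor.Th := finite_Th
  have : Nontrivial Cfsg.Spor.Th := Finite.one_lt_card_iff_nontrivial.1 (by rw [card_Th]; norm_num)
  refine ⟨fun N hN => ?_⟩
  by_cases hle : N ≤ iota.range
  · left
    by_contra hne
    have hc : N.comap iota ≠ ⊥ := by
      intro hb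
      apply hne
      rw [Subgroup.eq_bot_iff_forall]
      intro n hn
      obtain ⟨x, rfl⟩ := hle hn
      have : x ∈ N.comap iota := hn
      rw [hb, Subgroup.mem_bot] at this
      rw [this, map_one]
    have ha := ThMult.a_mem_normal _ (Subgroup.Normal.comap hN iota) hc
    have h0 : ev 0 ∈ N := by
      rw [show ev 0 = evW ev [0] by simp, ← iota_evW (by decide)]
      simpa using ha
    have ht := eq_top_of_mem N h0
    have hr : iota.range = ⊤ := eq_top_iff.2 (ht ▸ hle)
    exact range_not_normal (hr ▸ inferInstance)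
  · right
    obtain ⟨g, hg, hng⟩ := SetLike.not_le_iff_exists.1 hle
    have htop : iota.range ⊔ N = ⊤ :=
      eq_top_of_range_lt le_sup_left (Subgroup.mem_sup_right hg) hng
    by_cases hc : N.comap iota = ⊥
    · exfalso
      let π : HT →* Cfsg.Spor.Th ⧸ N := (QuotientGroup.mk' N).comp iota
      have hπ : Function.Bijective π := by
        refine ⟨(MonoidHom.ker_eq_bot_iff π).1 ?_, fun q => ?_⟩
        · rw [← MonoidHom.comap_ker, QuotientGroup.ker_mk']
          exact hc
        · obtain ⟨g, rfl⟩ := QuotientGroup.mk'_surjective N q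
          have hg' : g ∈ ((iota.range ⊔ N : Subgroup Cfsg.Spor.Th) : Set Cfsg.Spor.Th) := htop ▸ Subgroup.mem_top g
          rw [Subgroup.mul_normal] at hg'
          obtain ⟨_, ⟨x, rfl⟩, n, hn, rfl⟩ := Set.mem_mul.1 hg'
          refine ⟨x, ?_⟩
          show QuotientGroup.mk' N (iota x) = _
          rw [map_mul, show QuotientGroup.mk' N n = 1 from (QuotientGroup.eq_one_iff n).2 hn, mul_one]
      let e := MulEquiv.ofBijective π hπ
      let χ : Cfsg.Spor.Th →* Multiplicative (ZMod 3) := tHom.comp (e.symm.toMonoidHom.comp (QuotientGroup.mk' N))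
      have hχ : χ.ker = ⊤ := eq_top_iff.2 (commutator_eq_top ▸ Abelianization.commutator_subset_ker χ)
      apply tHom_t
      have h2 := MonoidHom.mem_ker.1 (hχ ▸ Subgroup.mem_top (iota (hev 12)) : iota (hev 12) ∈ χ.ker)
      rw [← h2]
      show tHom (hev 12) = tHom (e.symm (π (hev 12)))
      congr 1
      exact (e.symm_apply_apply (hev 12)).symm
    · have ha := ThMult.a_mem_normal _ (Subgroup.Normal.comap hN iota) hc
      refine eq_top_of_mem N ?_
      rw [show ev 0 = evW ev [0] by simp, ← iota_evW (by decide)]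
      simpa using ha

/-- The presented Thompson group is of type Th. -/
theorem isTh : Cfsg.IsTh Cfsg.Spor.Th := ⟨isSimpleGroup_Th, card_Th⟩

theorem rho_entry : (MatCheck.coeff ((MatCheck.rowsOf Mat248.gens 14).get 0) 52) % 3 ≠ 0 := by decide +kernel

theorem rho_injective : Function.Injective rho := by
  have := isSimpleGroup_Th
  refine (MonoidHom.ker_eq_bot_iff rho).1 ((MonoidHom.normal_ker rho).eq_bot_or_eq_top.resolve_right fun h => ?_)
  have h1 : rho (evW ev [14]) = 1 := MonoidHom.mem_ker.1 (h ▸ Subgroup.mem_top _)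
  have h2 := congrArg (fun g : GL (Fin 248) (ZMod 3) => g.val ⟨0, by decide⟩ ⟨52, by decide⟩) h1
  rw [rho_evW, val_evW_imgTh (by decide), Units.val_one, Matrix.one_apply_ne (by decide)] at h2
  simp only [List.map_cons, List.map_nil, List.prod_cons, List.prod_nil, mul_one, thMat, MatCheck.mat,
    RingHom.mapMatrix_apply, Matrix.map_apply, MatCheck.natMat] at h2
  have h3 : ((MatCheck.coeff ((MatCheck.rowsOf Mat248.gens 14).get 0) 52 : ℕ) : ZMod 3) = 0 := h2
  rw [ZMod.natCast_eq_zero_iff] at h3
  exact rho_entry (Nat.mod_eq_zero_of_dvd h3)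

theorem isSimpleGroup_congr {A B : Type*} [Group A] [Group B] (e : A ≃* B) [IsSimpleGroup A] : IsSimpleGroup B := by
  have : Nontrivial B := e.symm.toEquiv.nontrivial
  exact IsSimpleGroup.isSimpleGroup_of_surjective e.toMonoidHom e.surjective

/-- The image of a group of type Th with a subgroup pair, inside any group receiving it faithfully. -/
theorem exists_image {G M : Type*} [Group G] [Group M] (f : G →* M) (hf : Function.Injective f)
    (hG : Cfsg.IsTh G) (K L : Subgroup G) (n : ℕ) (hK : K.index = n) (hLK : L ≤ K) (hL : Cfsg.Is3D4 L) :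
    ∃ H : Subgroup M, Cfsg.IsTh H ∧ ∃ K : Subgroup H, K.index = n ∧ ∃ L : Subgroup H, L ≤ K ∧ Cfsg.Is3D4 L := by
  let e : G ≃* f.range := MonoidHom.ofInjective hf
  obtain ⟨h1, h2⟩ := hG
  obtain ⟨h3, q, h4, h5⟩ := hL
  refine ⟨f.range, ⟨isSimpleGroup_congr e, (Nat.card_congr e.toEquiv).symm.trans h2⟩,
    K.map e.toMonoidHom, (Subgroup.index_map_equiv K e).trans hK, L.map e.toMonoidHom, Subgroup.map_mono hLK, ?_⟩
  let e' : L ≃* L.map e.toMonoidHom := Subgroup.equivMapOfInjective L _ e.injective
  exact ⟨isSimpleGroup_congr e', q, h4, (Nat.card_congr e'.toEquiv).symm.trans h5⟩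

theorem is3D4_map_H0 : Cfsg.Is3D4 (H0.map iota) := by
  obtain ⟨h1, q, h2, h3⟩ := is3D4_H0
  let e' : H0 ≃* H0.map iota := H0.equivMapOfInjective iota iota_injective
  exact ⟨isSimpleGroup_congr e', q, h2, (Nat.card_congr e'.toEquiv).symm.trans h3⟩

end CfsgLib.Th
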