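import Cfsg.Agent.Lib.Th.InvolFinal
import Cfsg.Agent.Lib.Th.Simple

/-!
The inputs of the centraliser computation, from the coset enumeration.
-/
set_option autoImplicit false
set_option maxRecDepth 8000

namespace CfsgLib.Th.Invol

open CfsgLib.Th

theorem facts : Facts where
  inj := iota_injective
  card := card_Th
  holds := hall
  covered := covered
  unique := fun hi hj _ => orb_unique hi hj
  size := fun j hj => by
    have := finite_Th
    rw [card_orbit_of_inv j (clsSet j) fun g => mem_clsSet.trans (cls_eq rfl hj)]
    exact card_clsSet j hj

end CfsgLib.Th.Invol
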