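import Cfsg.Agent.Lib.Th.InvolCount

/-!
The centraliser of `a` in the presented Thompson group is an extension of an extraspecial group of order 512 by
the alternating group of degree nine.
-/
set_option autoImplicit false
set_option maxRecDepth 8000

namespace CfsgLib.Th.Invol

open CfsgLib.Presented
open scoped Classical

/-- An orbit of the triality subgroup on the cosets has as many cosets as the set of inverse cosets. -/
theorem card_orbit_of_inv [Finite Cfsg.Spor.Th] (j : ℕ) (S : Finset Cosets)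
    (hS : ∀ g : Cfsg.Spor.Th, (g : Cosets) ∈ S ↔ InOrb (Cc j) ((g⁻¹ : Cfsg.Spor.Th) : Cosets)) :
    Nat.card {q : Cosets // InOrb (Cc j) q} = S.card := by
  have hfib : ∀ s : Set Cosets, Nat.card {g : Cfsg.Spor.Th // (g : Cosets) ∈ s} = Nat.card Hs * s.ncard := by
    intro s
    refine card_preimage _ s _ fun q _ => ?_
    obtain ⟨g0, rfl⟩ := QuotientGroup.mk_surjective q
    refine (Nat.card_congr (Equiv.ofBijective (fun h : Hs => (⟨g0 * h, ?_⟩ : {g : Cfsg.Spor.Th // (g : Cosets) = g0}))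
      ⟨?_, ?_⟩)).symm
    · rw [QuotientGroup.eq, mul_inv_rev, inv_mul_cancel_right]
      exact inv_mem h.2
    · intro x y e
      exact Subtype.ext (mul_left_cancel (congrArg Subtype.val e))
    · rintro ⟨g, hg⟩
      exact ⟨⟨g0⁻¹ * g, QuotientGroup.eq.1 hg.symm⟩, Subtype.ext (mul_inv_cancel_left g0 g)⟩
  have h1 := hfib {q | InOrb (Cc j) q}
  have h2 := hfib ↑S
  rw [Set.ncard_coe_finset] at h2
  rw [← Nat.card_coe_set_eq] at h1
  have e : Nat.card {g : Cfsg.Spor.Th // (g : Cosets) ∈ {q | InOrb (Cc j) q}} =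
      Nat.card {g : Cfsg.Spor.Th // (g : Cosets) ∈ (↑S : Set Cosets)} := by
    refine Nat.card_congr (Equiv.subtypeEquiv (Equiv.inv _) fun g => ?_)
    show InOrb (Cc j) (g : Cosets) ↔ ((g⁻¹ : Cfsg.Spor.Th) : Cosets) ∈ S
    rw [hS, inv_inv]
  rw [h1, h2] at e
  exact Nat.eq_of_mul_eq_mul_left Nat.card_pos e

/-- The structure of the centraliser. -/
theorem centralizer_structure (F : Facts) :
    orderOf zT = 2 ∧ ∃ (Q : Subgroup (Subgroup.centralizer ({zT} : Set Cfsg.Spor.Th))) (_ : Q.Normal),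
      Nat.card Q = 2 ^ 9 ∧ Cfsg.IsExtraspecial 2 Q ∧
      Nonempty ((Subgroup.centralizer ({zT} : Set Cfsg.Spor.Th)) ⧸ Q ≃* alternatingGroup (Fin 9)) := by
  have : Finite Cfsg.Spor.Th := finite_Th' F
  have hz : orderOf zT = 2 := by
    rw [zT_eq]
    refine orderOf_eq_prime ?_ fun h => a0_ne_one (F.inj (h.trans (map_one iota).symm))
    rw [pow_two, ← map_mul, (qRels 0 0).2.2.2.2, map_one]
  refine ⟨hz, ?_⟩
  obtain ⟨e9⟩ := range_psi9 F.inj
  have hA : Nat.card (alternatingGroup (Fin 9)) = 181440 := by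
    rw [nat_card_alternatingGroup, Nat.card_fin]
    decide
  have hker := (psi9 F.inj).ker.card_mul_index
  rw [Subgroup.index_ker, Nat.card_congr e9.toEquiv, hA] at hker
  have hQX : Nat.card (QT.subgroupOf X) = 512 := by
    rw [Nat.card_congr (Subgroup.subgroupOfEquivOfLe QT_le_X).toEquiv, card_QT F.inj]
  have h512 : 512 ∣ Nat.card (psi9 F.inj).ker := hQX ▸ Subgroup.card_dvd_of_le (QT_le_ker F.inj)
  have hX : 92897280 ∣ Nat.card X := by
    rw [← hker]
    obtain ⟨m, hm⟩ := h512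
    exact ⟨m, by rw [hm]; ring⟩
  have hC := card_Cz_eq F (hX.trans (Subgroup.card_dvd_of_le X_le_centralizer))
  have hXC : X = Subgroup.centralizer {zT} := by
    refine Subgroup.eq_of_le_of_card_ge X_le_centralizer ?_
    rw [hC]
    exact Nat.le_of_dvd Nat.card_pos hX
  have hk : (psi9 F.inj).ker = QT.subgroupOf X := by
    refine (Subgroup.eq_of_le_of_card_ge (QT_le_ker F.inj) ?_).symm
    have h3 : Nat.card X = 92897280 := by rw [hXC, hC]
    rw [h3] at hker
    omega
  have key : ∃ (Q : Subgroup X) (_ : Q.Normal), Nat.card Q = 2 ^ 9 ∧ Cfsg.IsExtraspecial 2 Q ∧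
      Nonempty (X ⧸ Q ≃* alternatingGroup (Fin 9)) := by
    have hn : (QT.subgroupOf X).Normal := hk ▸ MonoidHom.normal_ker (psi9 F.inj)
    have : Finite QT := Nat.finite_of_card_ne_zero (by rw [card_QT F.inj]; norm_num)
    refine ⟨QT.subgroupOf X, hn, by rw [hQX]; norm_num,
      CfsgLib.LargeExtra.isExtraspecial_of_equiv (Subgroup.subgroupOfEquivOfLe QT_le_X).symm (extraspecial_QT F.inj),
      ⟨((QuotientGroup.quotientMulEquivOfEq hk.symm).trans (QuotientGroup.quotientKerEquivRange _)).trans e9⟩⟩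
  rw [hXC] at key
  exact key

end CfsgLib.Th.Invol
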