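import Cfsg.Agent.Lib.Th.InvolStab

/-!
Colourings and chains of orbit stabilisers, checked.
-/
set_option autoImplicit false
set_option maxRecDepth 20000
set_option Elab.async false

namespace CfsgLib.Th.Invol

theorem facts3 : orbitFacts InvolData.words3 InvolData.col3 InvolData.wit3 InvolData.pts3
    InvolData.chain3 486 = true := by decide +kernel

theorem facts4 : orbitFacts InvolData.words4 InvolData.col4 InvolData.wit4 InvolData.pts4
    InvolData.chain4 288 = true := by decide +kernel

end CfsgLib.Th.Invol
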