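import Cfsg.Agent.Lib.Th.InvolStab

/-!
Colourings and chains of orbit stabilisers, checked.
-/
set_option autoImplicit false
set_option maxRecDepth 20000
set_option Elab.async false

namespace CfsgLib.Th.Invol

theorem facts5 : orbitFacts InvolData.words5 InvolData.col5 InvolData.wit5 InvolData.pts5
    InvolData.chain5 54 = true := by decide +kernel

theorem facts6 : orbitFacts InvolData.words6 InvolData.col6 InvolData.wit6 InvolData.pts6
    InvolData.chain6 6 = true := by decide +kernel

theorem facts7 : orbitFacts InvolData.words7 InvolData.col7 InvolData.wit7 InvolData.pts7
    InvolData.chain7 126 = true := by decide +kernel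

end CfsgLib.Th.Invol
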