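import Cfsg.Agent.Lib.Th.InvolStab

/-!
Colourings and chains of orbit stabilisers, checked.
-/
set_option autoImplicit false
set_option maxRecDepth 20000
set_option Elab.async false

namespace CfsgLib.Th.Invol

theorem facts8 : orbitFacts InvolData.words8 InvolData.col8 InvolData.wit8 InvolData.pts8
    InvolData.chain8 78 = true := by decide +kernel

theorem facts9 : orbitFacts InvolData.words9 InvolData.col9 InvolData.wit9 InvolData.pts9
    InvolData.chain9 72 = true := by decide +kernel

end CfsgLib.Th.Invol
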