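import Cfsg.Agent.Lib.Th.InvolOrbA
import Cfsg.Agent.Lib.Th.InvolOrbB
import Cfsg.Agent.Lib.Th.InvolOrbC
import Cfsg.Agent.Lib.Th.InvolOrbD
import Cfsg.Agent.Lib.Th.InvolOrbE
import Cfsg.Agent.Lib.Th.InvolOrbF

/-! All orbit checks. -/
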