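import Cfsg.Agent.Lib.Th.InvolStab

/-!
Colourings and chains of orbit stabilisers, checked.
-/
set_option autoImplicit false
set_option maxRecDepth 20000
set_option Elab.async false

namespace CfsgLib.Th.Invol

theorem facts1 : orbitFacts InvolData.words1 InvolData.col1 InvolData.wit1 InvolData.pts1
    InvolData.chain1 36864 = true := by decide +kernel

end CfsgLib.Th.Invol
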