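import Cfsg.Agent.Lib.Th.InvolStab
import Cfsg.Agent.Lib.Icosian.Extraspecial
import Cfsg.Agent.Lib.SymPresent.Carmichael
import Cfsg.Agent.Lib.SymPresent.Perms
import Mathlib.GroupTheory.SpecificGroups.Alternating.Simple

/-!
The extraspecial subgroup of order 512 of the centraliser of `a` and the action on it of the group generated
by seven letters: the action modulo the centre is that of the alternating group of degree nine.
-/
set_option autoImplicit false
set_option maxRecDepth 8000

namespace CfsgLib.Th.Invol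

open CfsgLib.Presented CfsgLib.Presented.Vec
open scoped Classical

/-! ### inside the triality group -/

/-- the `i`-th generator -/
noncomputable def qw (i : ℕ) : List ℕ := InvolData.qW.getD i []

/-- its value -/
noncomputable def qe (i : ℕ) : HT := evW hev (qw i)

/-- the partner of a generator -/
def mate (i : Fin 8) : Fin 8 := ![1, 0, 3, 2, 5, 4, 7, 6] i

theorem qW_length : InvolData.qW.length = 8 := by decide +kernel

theorem qw_small : InvolData.qW.all small = true := by decide +kernel

/-- the checked products of the generators -/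
noncomputable def qRelOK : Bool :=
  ((List.finRange 8).all fun i =>
    (same (qw i ++ qw i) [] || same (qw i ++ qw i) [0]) && same ([0] ++ qw i) (qw i ++ [0]) &&
      ((List.finRange 8).all fun j =>
        cond (decide (j = mate i)) (same (qw i ++ qw j) ([0] ++ (qw j ++ qw i))) (same (qw i ++ qw j) (qw j ++ qw i)))) &&
    same [0, 0] []

theorem qRel_ok : qRelOK = true := by decide +kernel

theorem qRels (i j : Fin 8) : (qe i * qe i = 1 ∨ qe i * qe i = a0) ∧ Commute a0 (qe i) ∧
    (j ≠ mate i → qe i * qe j = qe j * qe i) ∧ (j = mate i → qe i * qe j = a0 * (qe j * qe i)) ∧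
    a0 * a0 = 1 := by
  have h := qRel_ok
  simp only [qRelOK, Bool.and_eq_true, List.all_eq_true, Bool.or_eq_true] at h
  obtain ⟨h, h00⟩ := h
  obtain ⟨⟨hsq, hc⟩, hj⟩ := h i (List.mem_finRange _)
  have hj := hj j (List.mem_finRange _)
  refine ⟨?_, ?_, ?_, ?_, ?_⟩
  · rcases hsq with h | h
    · exact Or.inl (by simpa [qe, evW_append] using same_spec h)
    · exact Or.inr (by simpa [qe, evW_append] using same_spec h)
  · simpa [qe, evW_append, Commute, SemiconjBy] using same_spec hc
  · intro hne
    rw [decide_eq_false hne, cond_false] at hj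
    simpa [qe, evW_append] using same_spec hj
  · intro he
    rw [decide_eq_true he, cond_true] at hj
    simpa [qe, evW_append] using same_spec hj
  · simpa using same_spec h00

theorem a0_ne_one : a0 ≠ 1 := by
  intro h
  have h1 := trace_spec (w := [0]) rfl ⟨137, by decide⟩
  rw [show evW hev [0] = a0 by simp, h, map_one, inv_one, Equiv.Perm.one_apply] at h1
  have h2 : Nat.beq (trace [0] 137) 137 = false := by decide +kernel
  rw [← h1] at h2
  simp at h2

/-- the generators up to `k` -/
def qSet (k : ℕ) : Set HT := insert a0 {x | ∃ i : Fin 8, (i : ℕ) < k ∧ x = qe i}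

/-- the subgroup -/
noncomputable def Q0 : Subgroup HT := Subgroup.closure (qSet 8)

theorem qSet_subset {k : ℕ} : qSet k ⊆ qSet 8 := by
  rintro x (rfl | ⟨i, -, rfl⟩)
  exacts [Or.inl rfl, Or.inr ⟨i, i.2, rfl⟩]

theorem qe_mem (i : Fin 8) : qe i ∈ Q0 := Subgroup.subset_closure (Or.inr ⟨i, i.2, rfl⟩)

theorem a0_mem : a0 ∈ Q0 := Subgroup.subset_closure (Or.inl rfl)

theorem a0_central {q : HT} (hq : q ∈ Q0) : Commute a0 q := by
  refine Subgroup.closure_induction (p := fun q _ => Commute a0 q) ?_ (Commute.one_right _)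
    (fun x y _ _ hx hy => hx.mul_right hy) (fun x _ hx => hx.inv_right) hq
  rintro x (rfl | ⟨i, -, rfl⟩)
  exacts [Commute.refl _, (qRels i i).2.1]

theorem comm_cases {q : HT} (hq : q ∈ Q0) (i : Fin 8) :
    q * qe i = qe i * q ∨ q * qe i = a0 * (qe i * q) := by
  have ha := fun j : Fin 8 => (qRels j j).2.1.eq
  have haa : a0 * a0 = 1 := (qRels 0 0).2.2.2.2
  induction hq using Subgroup.closure_induction with
  | mem x hx =>
    rcases hx with rfl | ⟨j, -, rfl⟩
    · exact Or.inl (ha i)
    · by_cases h : i = mate j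
      · exact Or.inr ((qRels j i).2.2.2.1 h)
      · exact Or.inl ((qRels j i).2.2.1 h)
  | one => simp
  | mul x y hx hy ihx ihy =>
    have hca := (a0_central hx).eq
    rcases ihx with h1 | h1 <;> rcases ihy with h2 | h2
    · exact Or.inl (by rw [mul_assoc, h2, ← mul_assoc, h1, mul_assoc])
    · exact Or.inr (by rw [mul_assoc, h2, ← mul_assoc x a0, ← hca, mul_assoc a0, ← mul_assoc x, h1, mul_assoc (qe i)])
    · exact Or.inr (by rw [mul_assoc, h2, ← mul_assoc, h1, mul_assoc a0, mul_assoc (qe i)])
    · refine Or.inl ?_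
      rw [mul_assoc, h2, ← mul_assoc x a0, ← hca, mul_assoc a0, ← mul_assoc x, h1, mul_assoc a0, ← mul_assoc a0 a0,
        haa, one_mul, mul_assoc (qe i)]
  | inv x hx ih =>
    have hca := (a0_central hx).eq
    rcases ih with h | h
    · exact Or.inl ((Commute.inv_left h).eq)
    · refine Or.inr ?_
      have h' : qe i = x⁻¹ * (a0 * (qe i * x)) := by rw [← h, inv_mul_cancel_left]
      calc x⁻¹ * qe i = x⁻¹ * (a0 * (a0 * (qe i * x))) * x⁻¹ := by rw [← mul_assoc a0 a0, haa, one_mul]; group
        _ = a0 * (x⁻¹ * (a0 * (qe i * x))) * x⁻¹ := by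
          rw [← mul_assoc x⁻¹ a0, ← ((a0_central hx).inv_right).eq, mul_assoc a0]
        _ = a0 * (qe i * x⁻¹) := by rw [← h', mul_assoc]

theorem mul_self_cases (i : Fin 8) : qe i * qe i ∈ Subgroup.closure (qSet i) := by
  rcases (qRels i i).1 with h | h <;> rw [h]
  exacts [one_mem _, Subgroup.subset_closure (Or.inl rfl)]

theorem card_qSet : ∀ k ≤ 8, Nat.card (Subgroup.closure (qSet k)) ≤ 2 ^ (k + 1) := by
  classical
  have : Finite HT := Nat.finite_of_card_ne_zero (by rw [card_HT]; norm_num)
  intro k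
  induction k with
  | zero =>
    intro _
    have h0 : qSet 0 = {a0} := by
      ext x
      simp [qSet]
    rw [h0, ← Subgroup.zpowers_eq_closure, Nat.card_zpowers]
    exact Nat.le_of_dvd (by norm_num) (orderOf_dvd_of_pow_eq_one (by rw [show (2 : ℕ) ^ (0 + 1) = 2 from rfl, pow_two]; exact (qRels 0 0).2.2.2.2))
  | succ k ih =>
    intro hk
    set K := Subgroup.closure (qSet k) with hK
    set i : Fin 8 := ⟨k, hk⟩
    set x := qe i with hx
    have hnorm : ∀ v ∈ K, ∃ v' ∈ K, x * v = v' * x := by
      intro v hv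
      rcases comm_cases (Subgroup.closure_mono qSet_subset hv) i with h | h
      · exact ⟨v, hv, h.symm⟩
      · refine ⟨a0 * v, mul_mem (Subgroup.subset_closure (Or.inl rfl)) hv, ?_⟩
        rw [mul_assoc, h, ← mul_assoc a0 a0, (qRels i i).2.2.2.2, one_mul]
    have hsub : ((Subgroup.closure (qSet (k + 1)) : Subgroup HT) : Set HT) ⊆ (K : Set HT) ∪ (· * x) '' K := by
      intro y hy
      induction hy using Subgroup.closure_induction_right with
      | one => exact Or.inl (one_mem K)
      | mul_right g _ z hz ihg =>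
        have key : ∀ z ∈ K, ∀ g ∈ (K : Set HT) ∪ (· * x) '' K, g * z ∈ (K : Set HT) ∪ (· * x) '' K := by
          rintro z hz g (hg | ⟨u, hu, rfl⟩)
          · exact Or.inl (mul_mem hg hz)
          · obtain ⟨v', hv', e⟩ := hnorm z hz
            exact Or.inr ⟨u * v', mul_mem hu hv', by show u * v' * x = u * x * z; rw [mul_assoc, ← e, mul_assoc]⟩
        rcases hz with rfl | ⟨j, hj, rfl⟩
        · exact key a0 (Subgroup.subset_closure (Or.inl rfl)) _ ihg
        · rcases Nat.lt_succ_iff_lt_or_eq.1 hj with hj | hj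
          · exact key _ (Subgroup.subset_closure (Or.inr ⟨j, hj, rfl⟩)) _ ihg
          · obtain rfl : j = i := Fin.ext hj
            rcases ihg with hg | ⟨u, hu, rfl⟩
            · exact Or.inr ⟨g, hg, rfl⟩
            · exact Or.inl (by show u * x * x ∈ K; rw [mul_assoc]; exact mul_mem hu (mul_self_cases i))
      | mul_inv_cancel g _ z hz ihg =>
        have key : ∀ z ∈ K, ∀ g ∈ (K : Set HT) ∪ (· * x) '' K, g * z ∈ (K : Set HT) ∪ (· * x) '' K := by
          rintro z hz g (hg | ⟨u, hu, rfl⟩)
          · exact Or.inl (mul_mem hg hz)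
          · obtain ⟨v', hv', e⟩ := hnorm z hz
            exact Or.inr ⟨u * v', mul_mem hu hv', by show u * v' * x = u * x * z; rw [mul_assoc, ← e, mul_assoc]⟩
        rcases hz with rfl | ⟨j, hj, rfl⟩
        · exact key _ (inv_mem (Subgroup.subset_closure (Or.inl rfl))) _ ihg
        · rcases Nat.lt_succ_iff_lt_or_eq.1 hj with hj | hj
          · exact key _ (inv_mem (Subgroup.subset_closure (Or.inr ⟨j, hj, rfl⟩))) _ ihg
          · obtain rfl : j = i := Fin.ext hj
            rcases ihg with hg | ⟨u, hu, rfl⟩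
            · refine Or.inr ⟨g * (qe i * qe i)⁻¹, mul_mem hg (inv_mem (mul_self_cases i)), ?_⟩
              show g * (x * x)⁻¹ * x = g * x⁻¹
              group
            · exact Or.inl (by show u * x * x⁻¹ ∈ K; rwa [mul_inv_cancel_right])
    have h1 := Set.ncard_le_ncard hsub (Set.toFinite _)
    have h2 := Set.ncard_union_le (K : Set HT) ((· * x) '' K)
    have h3 := Set.ncard_image_le (f := (· * x)) (s := (K : Set HT)) (Set.toFinite _)
    have e : ∀ L : Subgroup HT, (L : Set HT).ncard = Nat.card L := fun L => (Nat.card_coe_set_eq _).symm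
    simp only [e] at *
    have := ih (Nat.le_of_succ_le hk)
    rw [pow_succ]
    omega

/-- the commutation pattern -/
noncomputable def pat : Q0 →* Multiplicative (Fin 8 → ZMod 2) where
  toFun q := Multiplicative.ofAdd fun i => if (q : HT) * qe (mate i) = qe (mate i) * q then 0 else 1
  map_one' := by
    refine congrArg Multiplicative.ofAdd (funext fun i => ?_)
    simp
  map_mul' x y := by
    rw [← ofAdd_add]
    refine congrArg Multiplicative.ofAdd (funext fun i => ?_)
    have hx := comm_cases x.2 (mate i)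
    have hy := comm_cases y.2 (mate i)
    have hca := (a0_central x.2).eq
    have hne : ∀ g : HT, a0 * g ≠ g := fun g h => a0_ne_one (mul_eq_right.1 h)
    show _ = (if (x : HT) * qe (mate i) = qe (mate i) * x then (0 : ZMod 2) else 1) +
      if (y : HT) * qe (mate i) = qe (mate i) * y then (0 : ZMod 2) else 1
    rcases hx with h1 | h1 <;> rcases hy with h2 | h2
    · rw [if_pos h1, if_pos h2, add_zero, if_pos]
      rw [Subgroup.coe_mul, mul_assoc, h2, ← mul_assoc, h1, mul_assoc]
    · rw [if_pos h1, if_neg (fun h => hne _ (h2.symm.trans h)), zero_add, if_neg]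
      rw [Subgroup.coe_mul, mul_assoc, h2, ← mul_assoc (x : HT) a0, ← hca, mul_assoc a0, ← mul_assoc (x : HT), h1,
        mul_assoc (qe (mate i))]
      exact hne _
    · rw [if_neg (fun h => hne _ (h1.symm.trans h)), if_pos h2, add_zero, if_neg]
      rw [Subgroup.coe_mul, mul_assoc, h2, ← mul_assoc, h1, mul_assoc a0, mul_assoc (qe (mate i))]
      exact hne _
    · rw [if_neg (fun h => hne _ (h1.symm.trans h)), if_neg (fun h => hne _ (h2.symm.trans h)),
        if_pos, show (1 : ZMod 2) + 1 = 0 from rfl]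
      rw [Subgroup.coe_mul, mul_assoc, h2, ← mul_assoc (x : HT) a0, ← hca, mul_assoc a0, ← mul_assoc (x : HT), h1,
        mul_assoc a0, ← mul_assoc a0 a0, (qRels 0 0).2.2.2.2, one_mul, mul_assoc (qe (mate i))]

theorem pat_apply (q : Q0) (i : Fin 8) : Multiplicative.toAdd (pat q) i =
    if (q : HT) * qe (mate i) = qe (mate i) * q then 0 else 1 := rfl

theorem pat_qe (j : Fin 8) : pat ⟨qe j, qe_mem j⟩ = Multiplicative.ofAdd (Pi.single j 1) := by
  refine Multiplicative.toAdd.injective (funext fun i => ?_)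
  rw [pat_apply, toAdd_ofAdd]
  show (if qe j * qe (mate i) = qe (mate i) * qe j then (0 : ZMod 2) else 1) = _
  have hm : ∀ a b : Fin 8, mate a = mate b → a = b := by decide
  by_cases h : i = j
  · subst h
    rw [Pi.single_eq_same, if_neg]
    rw [(qRels i (mate i)).2.2.2.1 rfl]
    exact fun h => a0_ne_one (mul_eq_right.1 h)
  · rw [Pi.single_eq_of_ne h, if_pos]
    exact (qRels j (mate i)).2.2.1 fun e => h (hm _ _ e)

theorem pat_surjective : Function.Surjective pat := by
  intro v
  have hv : Multiplicative.toAdd v ∈ (Subgroup.toAddSubgroup' (pat.range)) := by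
    rw [← Finset.univ_sum_single (Multiplicative.toAdd v)]
    refine sum_mem fun j _ => ?_
    have h01 : ∀ c : ZMod 2, c = 0 ∨ c = 1 := by decide
    rcases h01 (Multiplicative.toAdd v j) with h | h <;> rw [h]
    · rw [Pi.single_zero]
      exact zero_mem _
    · exact ⟨⟨qe j, qe_mem j⟩, pat_qe j⟩
  exact hv

theorem card_Q0 : Nat.card Q0 = 512 ∧ ∀ q : Q0, pat q = 1 ↔ (q : HT) = 1 ∨ (q : HT) = a0 := by
  classical
  have : Finite HT := Nat.finite_of_card_ne_zero (by rw [card_HT]; norm_num)
  have hle : Nat.card Q0 ≤ 512 := card_qSet 8 le_rfl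
  have hmul := pat.ker.card_mul_index
  rw [Subgroup.index_ker, MonoidHom.range_eq_top.2 pat_surjective, Subgroup.card_top,
    show Nat.card (Multiplicative (Fin 8 → ZMod 2)) = 256 by
      rw [Nat.card_congr Multiplicative.toAdd, Nat.card_fun, Nat.card_zmod, Nat.card_fin]; norm_num] at hmul
  let ia : Q0 := ⟨a0, a0_mem⟩
  have hia : ia ∈ pat.ker := by
    rw [MonoidHom.mem_ker]
    refine Multiplicative.toAdd.injective (funext fun i => ?_)
    rw [pat_apply, toAdd_one, if_pos ((qRels (mate i) (mate i)).2.1.eq)]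
    rfl
  have hne : (⟨ia, hia⟩ : pat.ker) ≠ 1 := fun h =>
    a0_ne_one (congrArg Subtype.val (congrArg Subtype.val h : ia = 1))
  have h2 : 2 ≤ Nat.card pat.ker := Finite.one_lt_card_iff_nontrivial.2 ⟨⟨_, _, hne⟩⟩
  have hk : Nat.card pat.ker = 2 := by omega
  refine ⟨by omega, fun q => ⟨fun h => ?_, fun h => ?_⟩⟩
  · by_contra hq
    push Not at hq
    let _ : Fintype pat.ker := Fintype.ofFinite _
    have h3 : ({1, ⟨ia, hia⟩, ⟨q, h⟩} : Finset pat.ker).card = 3 := by
      rw [Finset.card_eq_three]
      refine ⟨1, ⟨ia, hia⟩, ⟨q, h⟩, hne.symm, fun e => hq.1 ?_, fun e => hq.2 ?_, rfl⟩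
      · exact (congrArg (fun x : pat.ker => ((x : Q0) : HT)) e).symm
      · exact (congrArg (fun x : pat.ker => ((x : Q0) : HT)) e).symm
    have := Finset.card_le_univ ({1, ⟨ia, hia⟩, ⟨q, h⟩} : Finset pat.ker)
    rw [h3, ← Nat.card_eq_fintype_card, hk] at this
    omega
  · rcases h with h | h
    · rw [show q = 1 from Subtype.ext h, map_one]
    · rw [show q = ia from Subtype.ext h]
      exact hia

theorem extraspecial_Q0 : Cfsg.IsExtraspecial 2 Q0 := by
  have : Finite HT := Nat.finite_of_card_ne_zero (by rw [card_HT]; norm_num)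
  have hker : ∀ q : Q0, q ∈ pat.ker → q = 1 ∨ q = ⟨a0, a0_mem⟩ := fun q hq =>
    ((card_Q0.2 q).1 hq).imp Subtype.ext Subtype.ext
  have h2 : ∀ v : Multiplicative (Fin 8 → ZMod 2), v * v = 1 := fun v =>
    Multiplicative.toAdd.injective (funext fun i => CharTwo.add_self_eq_zero _)
  refine CfsgLib.Icosian.isExtraspecial_of_table (z := (⟨a0, a0_mem⟩ : Q0))
    (IsPGroup.of_card (n := 9) (by rw [card_Q0.1]; norm_num))
    (fun h => a0_ne_one (congrArg Subtype.val h)) (Subtype.ext (qRels 0 0).2.2.2.2)
    (fun x => Subtype.ext (a0_central x.2).eq) (fun x => hker _ ?_) (fun x y => ?_) (fun x hx => hker _ ?_) ?_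
  · rw [MonoidHom.mem_ker, map_mul, h2]
  · rcases hker (x * y * (y * x)⁻¹) (by rw [MonoidHom.mem_ker, map_mul, map_inv, map_mul, map_mul,
        mul_comm (pat y), mul_inv_cancel]) with h | h
    · exact Or.inl (mul_inv_eq_one.1 h)
    · exact Or.inr (mul_inv_eq_iff_eq_mul.1 h)
  · refine Multiplicative.toAdd.injective (funext fun i => ?_)
    rw [pat_apply, toAdd_one, if_pos (show (x : HT) * qe (mate i) = qe (mate i) * x from congrArg Subtype.val (hx ⟨_, qe_mem _⟩))]
    rfl
  · refine ⟨⟨qe 0, qe_mem 0⟩, ⟨qe 1, qe_mem 1⟩, fun h => ?_⟩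
    have := congrArg (fun v : Multiplicative (Fin 8 → ZMod 2) => Multiplicative.toAdd v 0) (pat_qe 0)
    simp only [pat_apply, toAdd_ofAdd, Pi.single_eq_same] at this
    rw [if_pos] at this
    · exact zero_ne_one this
    · exact congrArg Subtype.val h

end CfsgLib.Th.Invol
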