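import Cfsg.Agent.Lib.Th.Dce
import Cfsg.Agent.Lib.Th.InvolData

/-!
The centraliser of the involution `a` in the triality group, orbit colourings and orbit chains of subgroups
given by words, all checked on 819 points.
-/
set_option autoImplicit false
set_option maxRecDepth 8000

namespace CfsgLib.Th.Invol

open CfsgLib.Presented CfsgLib.Presented.Vec

/-- The point fixed by the centraliser of `a`. -/
def p106 : Fin P819.rep.N := ⟨106, by decide⟩

/-- The stabiliser of this point. -/
noncomputable def St : Subgroup HT := (MulAction.stabilizer (Equiv.Perm (Fin P819.rep.N)) p106).comap phi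

theorem mem_St {h : HT} : h ∈ St ↔ phi h p106 = p106 := Iff.rfl

theorem card_St : Nat.card St = 774144 := by
  let : MulAction HT (Fin P819.rep.N) := MulAction.compHom _ phi
  have hSt : St = MulAction.stabilizer HT p106 := rfl
  have hidx : (MulAction.stabilizer HT p106).index = 819 := by
    rw [MulAction.index_stabilizer]
    have horb : MulAction.orbit HT p106 = Set.univ := by
      refine Set.eq_univ_of_forall fun p => ?_
      have hok : orbitOK P819.rep ((List.range 16).map fun x => [x]) 106 12 (ones 819) = true := by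
        decide +kernel
      have hH : (⊤ : Subgroup HT) =
          Subgroup.closure ((fun w => evW hev w) '' {w | w ∈ (List.range 16).map fun x => [x]}) := by
        rw [← hgen_top]
        refine congrArg Subgroup.closure ?_
        ext y
        simp only [Set.mem_image, Set.mem_Iio, Set.mem_ofPred_eq, List.mem_map, List.mem_range]
        constructor
        · rintro ⟨x, hx, rfl⟩
          exact ⟨[x], ⟨x, hx, rfl⟩, by simp⟩
        · rintro ⟨_, ⟨x, hx, rfl⟩, rfl⟩
          exact ⟨x, hx, by simp⟩
      obtain ⟨g, -, hg⟩ := (orbit_eq_of_ok P819.rep_valid hok phi phi_ev hH (by decide) p).2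
        (by rw [testBit_ones]; exact decide_eq_true p.2)
      exact ⟨g, hg⟩
    rw [horb, Set.ncard_univ, Nat.card_fin]
    rfl
  have hmul := (MulAction.stabilizer HT p106).card_mul_index
  rw [hidx, card_HT, ← hSt] at hmul
  omega

theorem St_eq : St = genBy hev [0, 4, 6, 8, 10, 12] := by
  have : Finite HT := Nat.finite_of_card_ne_zero (by rw [card_HT]; norm_num)
  have hfix : ([0, 4, 6, 8, 10, 12].all fun x => Nat.beq (trace [x] 106) 106) = true := by decide +kernel
  have hle : genBy hev [0, 4, 6, 8, 10, 12] ≤ St := by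
    refine (Subgroup.closure_le _).2 ?_
    rintro _ ⟨x, hx, rfl⟩
    have hx' : x < 16 := by
      simp only [Set.mem_ofPred_eq, List.mem_cons, List.not_mem_nil, or_false] at hx
      omega
    rw [SetLike.mem_coe, mem_St]
    have h1 := trace_spec (w := [x]) (by simp [small, hx']) p106
    have h2 : (phi (evW hev [x]))⁻¹ p106 = p106 :=
      Fin.ext (h1.trans (Nat.eq_of_beq_eq_true (List.all_eq_true.1 hfix x hx)))
    rw [evW_cons, evW_nil, mul_one] at h2
    exact ((Equiv.Perm.inv_eq_iff_eq).1 h2).symm
  have h1 := indexS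
  have h2 := (genBy hev [0, 4, 6, 8, 10, 12]).card_mul_index
  rw [Subgroup.relIndex_top_right] at h1
  rw [card_HT] at h2
  refine (Subgroup.eq_of_le_of_card_ge hle ?_).symm
  rw [card_St]
  nlinarith [h1.2, h2]

/-- the involution -/
noncomputable abbrev a0 : HT := hev 0

theorem St_comm {h : HT} (hh : h ∈ St) : Commute h a0 := by
  rw [St_eq] at hh
  have hc : ([0, 4, 6, 8, 10, 12].all fun x => same [x, 0] [0, x]) = true := by decide +kernel
  refine Subgroup.closure_induction (p := fun h _ => Commute h a0) ?_ (Commute.one_left _)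
    (fun x y _ _ hx hy => hx.mul_left hy) (fun x _ hx => hx.inv_left) hh
  rintro _ ⟨x, hx, rfl⟩
  have := same_spec (List.all_eq_true.1 hc x hx)
  simpa [Commute, SemiconjBy] using this

/-- the word conjugating to the involution of a point -/
noncomputable def wordAt (v : ℕ) : List ℕ :=
  Nat.rec (motive := fun _ => ℕ → List ℕ) (fun _ => [])
    (fun _ ih v => Bool.rec (motive := fun _ => List ℕ)
      ((Nat.sub (Nat.mod v 32) 1) :: ih (Nat.shiftRight v 5)) [] (Nat.beq v 0)) 20 v

/-- the word of a conjugate involution -/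
noncomputable def conjWord (w : List ℕ) : List ℕ := w ++ [0] ++ invWord alphabet w

/-- a table over the words -/
noncomputable def allWp (f : ℕ → List ℕ → Bool) : List ℕ → ℕ → Bool
  | [], _ => true
  | v :: vs, p => f p (wordAt v) && allWp f vs (p + 1)

theorem allWp_spec {f : ℕ → List ℕ → Bool} : ∀ {l : List ℕ} {k : ℕ}, allWp f l k = true →
    ∀ i, i < l.length → f (k + i) (wordAt (l.getD i 0)) = true
  | [], _, _, i, hi => by simp at hi
  | v :: vs, k, h, i, hi => by
    rw [allWp, Bool.and_eq_true] at h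
    cases i with
    | zero => simpa using h.1
    | succ i =>
      have := allWp_spec h.2 i (by simpa using hi)
      simpa [Nat.add_assoc, Nat.add_comm 1 i] using this

theorem wp_length : InvolData.wp.length = 819 := by decide +kernel

/-- facts about one conjugating word -/
noncomputable def baseOK (p : ℕ) (w : List ℕ) : Bool :=
  small w && Nat.beq (trace w p) 106 &&
    (Nat.beq p 106 || [137, 366, 711, 609].any fun b => !(Nat.beq (trace (conjWord w) b) (trace [0] b)))

theorem base_ok : allWp baseOK InvolData.wp 0 = true := by decide +kernel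

/-- the word of the point -/
noncomputable def wp (p : Fin P819.rep.N) : List ℕ := wordAt (InvolData.wp.getD p 0)

theorem wp_spec (p : Fin P819.rep.N) : small (wp p) = true ∧ phi (evW hev (wp p)) p106 = p ∧
    (small (conjWord (wp p)) = true) ∧
    ((p : ℕ) ≠ 106 → evW hev (conjWord (wp p)) ≠ a0) := by
  have h := allWp_spec base_ok (p : ℕ) (by rw [wp_length]; exact p.2)
  rw [Nat.zero_add] at h
  simp only [baseOK, Bool.and_eq_true, Bool.or_eq_true] at h
  obtain ⟨⟨hs, ht⟩, hne⟩ := h
  have hinv : ∀ y < 16, Nat.blt (alphabet.invl y) 16 = true := by decide +kernel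
  have hc : small (conjWord (wp p)) = true := by
    have hs' : ∀ y ∈ wp p, y < 16 := fun y hy => by
      have := List.all_eq_true.1 hs y hy
      rwa [Nat.blt_eq] at this
    simp only [small, List.all_eq_true, conjWord, List.mem_append, List.mem_singleton]
    rintro y ((hy | rfl) | hy)
    · exact List.all_eq_true.1 hs y hy
    · rfl
    · simp only [invWord, List.mem_reverse, List.mem_map] at hy
      obtain ⟨z, hz, rfl⟩ := hy
      exact hinv z (hs' z hz)
  refine ⟨hs, ?_, hc, fun hp hea => ?_⟩
  · have h2 : (phi (evW hev (wp p)))⁻¹ p = p106 := Fin.ext ((trace_spec hs p).trans (Nat.eq_of_beq_eq_true ht))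
    exact ((Equiv.Perm.inv_eq_iff_eq).1 h2).symm
  · rcases hne with hne | hne
    · exact hp (Nat.eq_of_beq_eq_true hne)
    · obtain ⟨b, hb, hb'⟩ := List.any_eq_true.1 hne
      have hb819 : b < 819 := by
        simp only [List.mem_cons, List.not_mem_nil, or_false] at hb
        omega
      have e1 : evW hev [0] = a0 := by simp
      have h1 := trace_spec hc ⟨b, hb819⟩
      rw [hea, ← e1, trace_spec (w := [0]) rfl ⟨b, hb819⟩] at h1
      change (!(Nat.beq (trace (conjWord (wp p)) b) (trace [0] b))) = true at hb'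
      rw [← h1, Nat.beq_refl] at hb'
      exact Bool.false_ne_true hb'

theorem conj_eq (h : HT) : h * a0 * h⁻¹ = evW hev (conjWord (wp (phi h p106))) := by
  set p := phi h p106
  obtain ⟨hs, hp, -, -⟩ := wp_spec p
  have hs' : ∀ y ∈ wp p, y ≤ alphabet.eps := fun y hy => by
    have := List.all_eq_true.1 hs y hy
    rw [Nat.blt_eq] at this
    exact this.le
  rw [conjWord, evW_append, evW_append, evW_invWord (letters_good (extra := hExtra)) hs', evW_cons, evW_nil,
    mul_one]
  have hm : (evW hev (wp p))⁻¹ * h ∈ St := by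
    rw [mem_St, map_mul, map_inv, Equiv.Perm.mul_apply]
    show (phi (evW hev (wp p)))⁻¹ p = p106
    rw [Equiv.Perm.inv_eq_iff_eq, hp]
  have hc : (evW hev (wp p))⁻¹ * h * a0 = a0 * ((evW hev (wp p))⁻¹ * h) := (St_comm hm).eq
  calc h * a0 * h⁻¹ = evW hev (wp p) * ((evW hev (wp p))⁻¹ * h * a0) * h⁻¹ := by group
    _ = evW hev (wp p) * a0 * (evW hev (wp p))⁻¹ := by rw [hc]; group

theorem mem_St_of_comm {h : HT} (hh : Commute h a0) : h ∈ St := by
  rw [mem_St]
  refine Fin.ext ?_
  by_contra hne
  refine (wp_spec (phi h p106)).2.2.2 hne ?_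
  rw [← conj_eq, hh.eq, mul_inv_cancel_right]

/-! ### subgroups given by words -/

/-- the subgroup generated by words -/
noncomputable def gW (gens : List (List ℕ)) : Subgroup HT :=
  Subgroup.closure ((fun w => evW hev w) '' {w | w ∈ gens})

theorem mem_gW {gens : List (List ℕ)} (i : ℕ) : evW hev (gens.getD i []) ∈ gW gens := by
  by_cases hi : i < gens.length
  · rw [List.getD_eq_getElem _ _ hi]
    exact Subgroup.subset_closure ⟨_, List.getElem_mem hi, rfl⟩
  · rw [List.getD_eq_default _ _ (Nat.le_of_not_lt hi), evW_nil]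
    exact one_mem _

theorem lWord_mem {gens : List (List ℕ)} (hs : gens.all small = true) :
    ∀ l : List ℕ, evW hev (lWord gens l) ∈ gW gens
  | [] => by simp [lWord]
  | id :: l => by
    have ih := lWord_mem hs l
    simp only [lWord, List.flatMap_cons] at ih ⊢
    rw [evW_append]
    refine mul_mem ?_ ih
    simp only [lPiece]
    cases Nat.beq (id % 2) 0
    · rw [cond_false, evW_invWord (letters_good (extra := hExtra))]
      · exact inv_mem (mem_gW _)
      · intro y hy
        by_cases hi : id / 2 < gens.length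
        · rw [List.getD_eq_getElem _ _ hi] at hy
          have := List.all_eq_true.1 (List.all_eq_true.1 hs _ (List.getElem_mem hi)) y hy
          rw [Nat.blt_eq] at this
          exact this.le
        · rw [List.getD_eq_default _ _ (Nat.le_of_not_lt hi)] at hy
          simp at hy
    · exact mem_gW _

/-- a bit -/
noncomputable def bitAt (M q : ℕ) : Bool := Nat.beq (Nat.mod (Nat.shiftRight M q) 2) 1

theorem bitAt_eq (M q : ℕ) : bitAt M q = M.testBit q := by
  rw [Nat.testBit_eq_decide_div_mod_eq, ← Nat.shiftRight_eq_div_pow]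
  show Nat.beq ((M >>> q) % 2) 1 = _
  cases h : Nat.beq ((M >>> q) % 2) 1
  · symm
    rw [decide_eq_false_iff_not]
    intro h'
    rw [h'] at h
    simp at h
  · exact (decide_eq_true (Nat.eq_of_beq_eq_true h)).symm

/-- a point of a tree -/
noncomputable def ptOf (v : ℕ) : ℕ := Nat.mod v 1024

/-- run through a tree -/
noncomputable def treeRun (gens : List (List ℕ)) : List ℕ → ℕ → Bool
  | [], _ => true
  | v :: vs, M => Vec.force (Nat.mod v 1024) fun q => Vec.force (Nat.mod (Nat.div v 1024) 1024) fun par =>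
      !(bitAt M q) && bitAt M par && Nat.beq (trace (gens.getD (Nat.shiftRight v 20) []) par) q &&
        Vec.force (Nat.lor M (Nat.shiftLeft 1 q)) fun M' => treeRun gens vs M'

/-- a tree from its root -/
noncomputable def treeOK (gens : List (List ℕ)) : List ℕ → Bool
  | [] => false
  | v :: vs => Nat.blt (ptOf v) 819 && gens.all small && treeRun gens vs (Nat.shiftLeft 1 (ptOf v))

/-- `q` is reached from `b` in the subgroup -/
def Reach (gens : List (List ℕ)) (b q : ℕ) : Prop :=
  ∃ x ∈ gW gens, ∀ i : Fin P819.rep.N, (i : ℕ) = b → (((phi x)⁻¹ i : Fin P819.rep.N) : ℕ) = q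

theorem Reach.lt {gens : List (List ℕ)} {b q : ℕ} (h : Reach gens b q) (hb : b < 819) : q < 819 := by
  obtain ⟨x, -, hx⟩ := h
  rw [← hx ⟨b, hb⟩ rfl]
  exact Fin.isLt _

theorem treeRun_spec {gens : List (List ℕ)} (hs : gens.all small = true) {b : ℕ} (hb : b < 819) :
    ∀ {vs : List ℕ} {M : ℕ}, treeRun gens vs M = true → (∀ q, M.testBit q = true → Reach gens b q) →
      (∀ v ∈ vs, Reach gens b (ptOf v)) ∧ (vs.map ptOf).Nodup ∧ ∀ v ∈ vs, M.testBit (ptOf v) = false
  | [], M, _, _ => ⟨by simp, by simp, by simp⟩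
  | v :: vs, M, h, hM => by
    simp only [treeRun, force_eq, Bool.and_eq_true, Bool.not_eq_true', bitAt_eq] at h
    obtain ⟨⟨⟨hq, hpar⟩, ht⟩, hrest⟩ := h
    have hreach : Reach gens b (ptOf v) := by
      obtain ⟨x, hx, hxb⟩ := hM _ hpar
      refine ⟨x * evW hev (gens.getD (Nat.shiftRight v 20) []), mul_mem hx (mem_gW _), fun i hi => ?_⟩
      rw [map_mul, mul_inv_rev, Equiv.Perm.mul_apply]
      have hsm : small (gens.getD (Nat.shiftRight v 20) []) = true := by
        by_cases hi : Nat.shiftRight v 20 < gens.length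
        · rw [List.getD_eq_getElem _ _ hi]
          exact List.all_eq_true.1 hs _ (List.getElem_mem hi)
        · rw [List.getD_eq_default _ _ (Nat.le_of_not_lt hi)]
          rfl
      rw [trace_spec hsm, hxb i hi]
      exact Nat.eq_of_beq_eq_true ht
    have hbit : ∀ q, (Nat.lor M (Nat.shiftLeft 1 (Nat.mod v 1024))).testBit q =
        (M.testBit q || decide (ptOf v = q)) := fun q => by
      show (M ||| 1 <<< (v % 1024)).testBit q = _
      rw [Nat.testBit_or, Nat.one_shiftLeft, Nat.testBit_two_pow]
      rfl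
    obtain ⟨i1, i2, i3⟩ := treeRun_spec hs hb hrest fun q hq' => by
      rw [hbit, Bool.or_eq_true, decide_eq_true_eq] at hq'
      rcases hq' with h1 | rfl
      exacts [hM q h1, hreach]
    refine ⟨?_, ?_, ?_⟩
    · intro w hw
      rcases List.mem_cons.1 hw with rfl | hw
      exacts [hreach, i1 w hw]
    · rw [List.map_cons, List.nodup_cons]
      refine ⟨fun hmem => ?_, i2⟩
      obtain ⟨w, hw, he⟩ := List.mem_map.1 hmem
      have := i3 w hw
      rw [hbit, he, decide_eq_true rfl, Bool.or_true] at this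
      exact Bool.false_ne_true this.symm
    · intro w hw
      rcases List.mem_cons.1 hw with rfl | hw
      · exact hq
      · have := i3 w hw
        rw [hbit, Bool.or_eq_false_iff] at this
        exact this.1

/-- the root of a tree -/
noncomputable def rootOf (t : List ℕ) : ℕ := ptOf (t.headD 0)

theorem treeOK_spec {gens : List (List ℕ)} {t : List ℕ} (h : treeOK gens t = true) :
    gens.all small = true ∧ rootOf t < 819 ∧ (∀ v ∈ t, Reach gens (rootOf t) (ptOf v)) ∧ (t.map ptOf).Nodup := by
  cases t with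
  | nil => simp [treeOK] at h
  | cons v vs =>
    simp only [treeOK, Bool.and_eq_true, Nat.blt_eq] at h
    obtain ⟨⟨hb, hs⟩, hr⟩ := h
    have hb' : rootOf (v :: vs) < 819 := hb
    have h0 : Reach gens (rootOf (v :: vs)) (ptOf v) := ⟨1, one_mem _, fun i hi => by
      rw [map_one, inv_one, Equiv.Perm.one_apply, hi]
      rfl⟩
    have hbit : ∀ q, (Nat.shiftLeft 1 (ptOf v)).testBit q = decide (ptOf v = q) := fun q => by
      show (1 <<< ptOf v).testBit q = _
      rw [Nat.one_shiftLeft, Nat.testBit_two_pow]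
    obtain ⟨i1, i2, i3⟩ := treeRun_spec hs hb' hr fun q hq => by
      rw [hbit, decide_eq_true_eq] at hq
      exact hq ▸ h0
    refine ⟨hs, hb', ?_, ?_⟩
    · intro w hw
      rcases List.mem_cons.1 hw with rfl | hw
      exacts [h0, i1 w hw]
    · rw [List.map_cons, List.nodup_cons]
      refine ⟨fun hmem => ?_, i2⟩
      obtain ⟨w, hw, he⟩ := List.mem_map.1 hmem
      have := i3 w hw
      rw [hbit, he, decide_eq_true rfl] at this
      exact Bool.false_ne_true this.symm

theorem card_step {K K' : Subgroup HT} (hle : K' ≤ K) {b : Fin P819.rep.N} (hfix : ∀ k ∈ K', phi k b = b)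
    {m : ℕ} (g : Fin m → HT) (hg : ∀ i, g i ∈ K) (hinj : Function.Injective fun i => (phi (g i))⁻¹ b) :
    m * Nat.card K' ≤ Nat.card K := by
  have : Finite HT := Nat.finite_of_card_ne_zero (by rw [card_HT]; norm_num)
  have := Nat.card_le_card_of_injective (α := Fin m × K') (β := K)
    (fun x => ⟨(x.2 : HT) * g x.1, mul_mem (hle x.2.2) (hg _)⟩) ?_
  · simpa using this
  rintro ⟨i, k, hk⟩ ⟨i', k', hk'⟩ h
  have h' : k * g i = k' * g i' := congrArg Subtype.val h
  have hi : i = i' := hinj <| by
    have e := congrArg (fun x => (phi x)⁻¹ b) h'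
    simp only [map_mul, mul_inv_rev, Equiv.Perm.mul_apply] at e
    rwa [(Equiv.Perm.inv_eq_iff_eq).2 (hfix k hk).symm, (Equiv.Perm.inv_eq_iff_eq).2 (hfix k' hk').symm] at e
  subst hi
  simp only [mul_right_cancel h']

/-- a chain of orbit trees -/
noncomputable def chainOK : List (List ℕ) → List (ℕ × List ℕ × List (List ℕ)) → Bool
  | _, [] => true
  | gens, l :: ls => treeOK gens l.2.1 && Nat.beq (rootOf l.2.1) l.1 &&
      ((l.2.2.map fun s => lWord gens s).all fun w => small w && Nat.beq (trace w l.1) l.1) &&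
      chainOK (l.2.2.map fun s => lWord gens s) ls

theorem chainOK_spec : ∀ {ls : List (ℕ × List ℕ × List (List ℕ))} {gens : List (List ℕ)},
    chainOK gens ls = true → (ls.map fun l => l.2.1.length).prod ≤ Nat.card (gW gens)
  | [], gens, _ => by
    have : Finite HT := Nat.finite_of_card_ne_zero (by rw [card_HT]; norm_num)
    simpa using Nat.one_le_iff_ne_zero.2 Nat.card_pos.ne'
  | l :: ls, gens, h => by
    simp only [chainOK, Bool.and_eq_true] at h
    obtain ⟨⟨⟨ht, hr⟩, hfix⟩, hrest⟩ := h
    obtain ⟨hs, hb, hreach, hnd⟩ := treeOK_spec ht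
    rw [Nat.eq_of_beq_eq_true hr] at hb hreach
    have ih := chainOK_spec hrest
    set gens' := l.2.2.map fun s => lWord gens s
    set b : Fin P819.rep.N := ⟨l.1, hb⟩
    have hle : gW gens' ≤ gW gens := by
      refine (Subgroup.closure_le _).2 ?_
      rintro _ ⟨w, hw, rfl⟩
      obtain ⟨s, -, rfl⟩ := List.mem_map.1 hw
      exact lWord_mem hs s
    have hfix' : ∀ k ∈ gW gens', phi k b = b := by
      intro k hk
      induction hk using Subgroup.closure_induction with
      | mem y hy =>
        obtain ⟨w, hw, rfl⟩ := hy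
        have h2 := List.all_eq_true.1 hfix w hw
        rw [Bool.and_eq_true] at h2
        have h1 := trace_spec h2.1 b
        rw [show trace w (b : ℕ) = l.1 from Nat.eq_of_beq_eq_true h2.2] at h1
        have h3 : (phi (evW hev w))⁻¹ b = b := Fin.ext h1
        exact ((Equiv.Perm.inv_eq_iff_eq).1 h3).symm
      | one => simp
      | mul y z _ _ ihy ihz => rw [map_mul, Equiv.Perm.mul_apply, ihz, ihy]
      | inv y _ ih => rw [map_inv, Equiv.Perm.inv_eq_iff_eq, ih]
    choose x hx hxb using fun i : Fin l.2.1.length => hreach _ (List.getElem_mem i.2)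
    have hm := card_step hle hfix' x hx fun i j hij => by
      have e : ptOf (l.2.1[(i : ℕ)]) = ptOf (l.2.1[(j : ℕ)]) :=
        (hxb i b rfl).symm.trans ((congrArg Fin.val hij).trans (hxb j b rfl))
      refine Fin.ext ?_
      refine (hnd.getElem_inj_iff (hi := by simp) (hj := by simp)).1 ?_
      simpa using e
    rw [List.map_cons, List.prod_cons]
    exact le_trans (Nat.mul_le_mul_left _ ih) hm

/-- colour of a point -/
noncomputable def colAt (c b : ℕ) : ℕ := Nat.mod (Nat.shiftRight c (Nat.mul 10 b)) 1024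

/-- the colouring is invariant -/
noncomputable def colOK (gens : List (List ℕ)) (c : ℕ) : Bool :=
  gens.all fun w => small w && (List.range 819).all fun b => Nat.beq (colAt c (trace w b)) (colAt c b)

theorem colOK_spec {gens : List (List ℕ)} {c : ℕ} (h : colOK gens c = true) {x : HT} (hx : x ∈ gW gens) :
    ∀ i : Fin P819.rep.N, colAt c ((phi x)⁻¹ i : Fin P819.rep.N) = colAt c i := by
  induction hx using Subgroup.closure_induction with
  | mem y hy =>
    obtain ⟨w, hw, rfl⟩ := hy
    intro i
    have h' := List.all_eq_true.1 h w hw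
    rw [Bool.and_eq_true] at h'
    rw [trace_spec h'.1]
    exact Nat.eq_of_beq_eq_true (List.all_eq_true.1 h'.2 i (List.mem_range.2 i.2))
  | one => simp
  | mul y z _ _ ihy ihz =>
    intro i
    rw [map_mul, mul_inv_rev, Equiv.Perm.mul_apply, ihz, ihy]
  | inv y _ ih =>
    intro i
    rw [map_inv, inv_inv]
    have := ih (phi y i)
    rw [Equiv.Perm.inv_def, Equiv.symm_apply_apply] at this
    exact this.symm

/-- a point whose involution moves a colour, or lies in one of the listed orbits -/
noncomputable def exclOK (c wit : ℕ) (pts : List (List ℕ)) (p : ℕ) (w : List ℕ) : Bool :=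
  Vec.force (colAt wit p) fun b =>
    cond (Nat.blt b 819) (!(Nat.beq (colAt c (trace (conjWord w) b)) (colAt c b)))
      (pts.any fun t => t.any fun v => Nat.beq (ptOf v) p)

theorem mem_pts_of_excl {gens pts : List (List ℕ)} {c wit : ℕ} (hc : colOK gens c = true)
    (he : allWp (exclOK c wit pts) InvolData.wp 0 = true) (p : Fin P819.rep.N)
    (hp : evW hev (conjWord (wp p)) ∈ gW gens) : ∃ t ∈ pts, (p : ℕ) ∈ t.map ptOf := by
  have h := allWp_spec he (p : ℕ) (by rw [wp_length]; exact p.2)
  rw [Nat.zero_add] at h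
  simp only [exclOK, force_eq] at h
  cases hb : Nat.blt (colAt wit p) 819
  · rw [hb, cond_false, List.any_eq_true] at h
    obtain ⟨t, ht, h'⟩ := h
    obtain ⟨v, hv, hv'⟩ := List.any_eq_true.1 h'
    exact ⟨t, ht, List.mem_map.2 ⟨v, hv, Nat.eq_of_beq_eq_true hv'⟩⟩
  · rw [hb, cond_true] at h
    rw [Nat.blt_eq] at hb
    have e := colOK_spec hc hp ⟨_, hb⟩
    rw [trace_spec (wp_spec p).2.2.1] at e
    change (!(Nat.beq (colAt c (trace (conjWord (wp p)) (colAt wit p))) (colAt c (colAt wit p)))) = true at h
    rw [e, Nat.beq_refl] at h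
    exact absurd h Bool.false_ne_true

/-- everything checked about one orbit -/
noncomputable def orbitFacts (gens : List (List ℕ)) (c wit : ℕ) (pts : List (List ℕ))
    (chain : List (ℕ × List ℕ × List (List ℕ))) (n : ℕ) : Bool :=
  colOK gens c && allWp (exclOK c wit pts) InvolData.wp 0 && pts.all (fun t => treeOK gens t) &&
    chainOK gens chain && Nat.beq (chain.map fun l => l.2.1.length).prod n

theorem orbitFacts_spec {gens pts : List (List ℕ)} {c wit n : ℕ} {chain : List (ℕ × List ℕ × List (List ℕ))}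
    (h : orbitFacts gens c wit pts chain n = true) :
    n ≤ Nat.card (gW gens) ∧
    (∀ p : Fin P819.rep.N, evW hev (conjWord (wp p)) ∈ gW gens → ∃ t ∈ pts, (p : ℕ) ∈ t.map ptOf) ∧
    ∀ t ∈ pts, (t.map ptOf).Nodup ∧ ∀ v ∈ t, ∀ v' ∈ t, ∀ i : Fin P819.rep.N, (i : ℕ) = ptOf v →
      ∃ x ∈ gW gens, ((phi x i : Fin P819.rep.N) : ℕ) = ptOf v' := by
  simp only [orbitFacts, Bool.and_eq_true] at h
  obtain ⟨⟨⟨⟨hc, he⟩, hp⟩, hch⟩, hn⟩ := h
  refine ⟨Nat.eq_of_beq_eq_true hn ▸ chainOK_spec hch, fun p => mem_pts_of_excl hc he p, fun t ht => ?_⟩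
  obtain ⟨-, hr, hreach, hnd⟩ := treeOK_spec (List.all_eq_true.1 hp t ht)
  refine ⟨hnd, fun v hv v' hv' i hi => ?_⟩
  obtain ⟨x, hx, hxb⟩ := hreach v hv
  obtain ⟨y, hy, hyb⟩ := hreach v' hv'
  refine ⟨y⁻¹ * x, mul_mem (inv_mem hy) hx, ?_⟩
  have e : (phi x)⁻¹ ⟨rootOf t, hr⟩ = i := Fin.ext ((hxb _ rfl).trans hi.symm)
  rw [map_mul, map_inv, Equiv.Perm.mul_apply, ← e, ← Equiv.Perm.mul_apply (phi x), mul_inv_cancel,
    Equiv.Perm.one_apply]
  exact hyb _ rfl

end CfsgLib.Th.Invol
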