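import Cfsg.Agent.Lib.Th.Orders
import Cfsg.Agent.Lib.Th.Cert.P17199
import Cfsg.Agent.Lib.Th.Cert.LChain
import Cfsg.Agent.Lib.Th.Cert.Tab

/-!
The triality subgroup inside the presented group: fast equality tests, the subgroup normalised by the
extra generator, and its action on 17199 points.
-/
set_option autoImplicit false
set_option maxRecDepth 8000

namespace CfsgLib.Th

open Cfsg.Spor CfsgLib.Presented CfsgLib.Presented.Vec

/-! ### tracing -/

/-- image of a point under a letter, from the packed table -/
noncomputable def tab (x b : ℕ) : ℕ := Nat.mod (Nat.shiftRight (Tab.tabs.get x) (Nat.mul b 10)) (Nat.pow 2 10)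

/-- follow a word from a point -/
noncomputable def trace (w : List ℕ) : ℕ → ℕ :=
  List.rec (motive := fun _ => ℕ → ℕ) (fun b => b) (fun x _ ih b => Vec.force (tab x b) ih) w

theorem trace_nil (b : ℕ) : trace [] b = b := rfl

theorem trace_cons (x : ℕ) (w : List ℕ) (b : ℕ) : trace (x :: w) b = trace w (tab x b) := by
  show Vec.force (tab x b) (trace w) = _
  rw [Vec.force_eq]

/-- the table agrees with the networks on one letter -/
noncomputable def tabOK (x : ℕ) : Bool :=
  (List.range 819).all fun b => Nat.blt (tab x b) 819 &&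
    (applyNet (P819.rep.net (alphabet.invl x)) (Nat.shiftLeft 1 (tab x b))).testBit b

theorem tab_ok : ((List.range 16).all tabOK) = true := by decide +kernel

theorem tab_spec {x : ℕ} (hx : x < alphabet.eps) (i : Fin P819.rep.N) :
    (((phi (hev x))⁻¹ i : Fin P819.rep.N) : ℕ) = tab x i := by
  have h := List.all_eq_true.1 tab_ok x (List.mem_range.2 hx)
  simp only [tabOK, List.all_eq_true, List.mem_range, Bool.and_eq_true, Nat.blt_eq] at h
  obtain ⟨-, hbit⟩ := h i i.2
  rw [Vec.testBit_applyNet ((Rep.valid_spec P819.rep_valid).2.2.1 _)] at hbit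
  change Nat.testBit (1 <<< tab x i) _ = true at hbit
  rw [Nat.testBit_shiftLeft, Bool.and_eq_true, decide_eq_true_eq] at hbit
  have hb := VCert.one_bit hbit.2
  have hle := hbit.1
  have hA : alphabet.invl x < alphabet.eps := by
    have : ((List.range 16).all fun y => Nat.blt (alphabet.invl y) 16) = true := by decide +kernel
    have := List.all_eq_true.1 this x (List.mem_range.2 hx)
    rwa [Nat.blt_eq] at this
  have hinv : (phi (hev x))⁻¹ = phi (hev (alphabet.invl x)) := by
    rw [← map_inv]
    exact congrArg phi (eq_inv_of_mul_eq_one_left ((letters_good (extra := hExtra)).inv x hx.le)).symm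
  rw [hinv, phi_ev _ hA, Rep.perm_val]
  omega

/-- the word stays among the letters -/
noncomputable def small (w : List ℕ) : Bool := w.all fun y => Nat.blt y 16

theorem trace_spec : ∀ {w : List ℕ}, small w = true → ∀ i : Fin P819.rep.N,
    (((phi (evW hev w))⁻¹ i : Fin P819.rep.N) : ℕ) = trace w i
  | [], _, i => by simp [trace_nil]
  | x :: w, h, i => by
    simp only [small, List.all_cons, Bool.and_eq_true, Nat.blt_eq] at h
    rw [evW_cons, map_mul, mul_inv_rev, Equiv.Perm.mul_apply, trace_cons, trace_spec (w := w) h.2,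
      tab_spec (x := x) h.1]

/-- two words give the same element of the triality group -/
noncomputable def same (w1 w2 : List ℕ) : Bool :=
  small w1 && small w2 && [137, 366, 711, 609].all fun b => Nat.beq (trace w1 b) (trace w2 b)

theorem same_spec {w1 w2 : List ℕ} (h : same w1 w2 = true) : evW hev w1 = evW hev w2 := by
  simp only [same, Bool.and_eq_true, List.all_eq_true] at h
  obtain ⟨⟨h1, h2⟩, h3⟩ := h
  have := eq_one_of_base (g := evW hev w2 * (evW hev w1)⁻¹) fun i hi => by
    rw [map_mul, map_inv, Equiv.Perm.mul_apply]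
    apply (Equiv.eq_symm_apply _).1
    show (phi (evW hev w1))⁻¹ i = (phi (evW hev w2))⁻¹ i
    refine Fin.ext ?_
    rw [trace_spec h1, trace_spec h2]
    exact Nat.eq_of_beq_eq_true (h3 _ hi)
  exact (mul_inv_eq_one.1 this).symm

/-! ### the subgroup -/

/-- generators of the subgroup normalised by `u` -/
def lGens : List (List ℕ) :=
  [[0], [4], [8], [12], [3, 0, 4, 2], [10, 10, 8, 11, 11], [2, 0, 6, 4, 2, 8, 0, 9, 3, 5, 7, 1, 3]]

/-- their conjugates by `u` -/
def lImgs : List (List ℕ) :=
  [[0], [4], [8], [13], [3, 0, 4, 2, 9], [10, 10, 8, 11, 11],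
    [2, 0, 4, 2, 6, 4, 6, 8, 6, 4, 2, 0, 6, 4, 2, 6, 4, 6]]

/-- the subgroup -/
noncomputable def Lsub : Subgroup HT := Subgroup.closure ((fun w => evW hev w) '' {w | w ∈ lGens})

/-- the value of a word of the triality group in the big group -/
noncomputable def hv (w : List ℕ) : Cfsg.Spor.Th := iota (evW hev w)

theorem hv_append (u v : List ℕ) : hv (u ++ v) = hv u * hv v := by simp [hv, evW_append]

theorem hv_nil : hv [] = 1 := by simp [hv]

theorem hv_eq {w : List ℕ} (hw : w.all noU = true) : hv w = evW ev w := iota_evW hw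

theorem hv_invWord {w : List ℕ} (hw : small w = true) : hv (invWord alphabet w) = (hv w)⁻¹ := by
  simp only [small, List.all_eq_true, Nat.blt_eq] at hw
  rw [hv, evW_invWord (letters_good (extra := hExtra)) (fun y hy => (hw y hy).le), map_inv, hv]

theorem hv_same {w1 w2 : List ℕ} (h : same w1 w2 = true) : hv w1 = hv w2 := by rw [hv, hv, same_spec h]

/-- the extra generator -/
noncomputable def U : Cfsg.Spor.Th := ev 14

theorem ev15 : ev 15 = U⁻¹ := by
  have h := (letters_good (extra := Th.extra)).inv 14 (by decide)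
  rw [show alphabet.invl 14 = 15 by decide +kernel] at h
  exact eq_inv_of_mul_eq_one_left h

theorem comm_of_nev {w v : List ℕ} (h : P702.rep.relsOK [[15] ++ w ++ [14] ++ invWord alphabet v] = true)
    (h1 : (w ++ v).all noU = true) (h2 : ([15] ++ w ++ [14] ++ invWord alphabet v).all noST = true) :
    hv w * U = U * hv v := by
  have h3 := congrArg kappa (nev_eq_one h)
  rw [map_one, kappa_evW h2] at h3
  simp only [List.all_append, Bool.and_eq_true] at h1
  rw [hv_eq h1.1, hv_eq h1.2]
  have hv' : ∀ y ∈ v, y ≤ alphabet.eps := fun y hy => by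
    have := List.all_eq_true.1 h1.2 y hy
    simp only [noU, Nat.blt_eq] at this
    show y ≤ 16
    omega
  rw [evW_append, evW_append, evW_append, evW_cons, evW_nil, mul_one, evW_cons, evW_nil, mul_one,
    evW_invWord (letters_good (extra := Th.extra)) hv', ev15, mul_inv_eq_one] at h3
  rw [← h3]
  simp only [U]
  group

theorem comm_t : hv [12] * U = U * hv [13] := by
  rw [hv_eq (by decide), hv_eq (by decide)]
  have h := rels_hold [15, 12, 14, 12] (by decide +kernel)
  have ht := (letters_good (extra := Th.extra)).inv 12 (by decide)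
  rw [show alphabet.invl 12 = 13 by decide +kernel] at ht
  simp only [evW_cons, evW_nil, mul_one, ev15] at h ⊢
  rw [show ev 14 = U from rfl] at h
  rw [show ev 13 = (ev 12)⁻¹ from eq_inv_of_mul_eq_one_left ht]
  calc ev 12 * U = U * (U⁻¹ * (ev 12 * (U * ev 12))) * (ev 12)⁻¹ := by group
    _ = U * (ev 12)⁻¹ := by rw [h, mul_one]

theorem comm_f : hv [10, 10, 8, 11, 11] * U = U * hv [10, 10, 8, 11, 11] := by
  rw [hv_eq (by decide)]
  have h0 := rels_hold [9, 11, 11, 15, 10, 10, 8, 11, 11, 14, 10, 10] (by decide +kernel)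
  have h := evW_rotate_eq_one ev (u := [9, 11, 11, 15, 10, 10, 8, 11, 11, 14]) (v := [10, 10]) h0
  have hi : ev 9 = (ev 8)⁻¹ := by
    have := (letters_good (extra := Th.extra)).inv 8 (by decide)
    rw [show alphabet.invl 8 = 9 by decide +kernel] at this
    exact eq_inv_of_mul_eq_one_left this
  have hs : ev 11 = (ev 10)⁻¹ := by
    have := (letters_good (extra := Th.extra)).inv 10 (by decide)
    rw [show alphabet.invl 10 = 11 by decide +kernel] at this
    exact eq_inv_of_mul_eq_one_left this
  simp only [evW_cons, evW_nil, mul_one, List.cons_append, List.nil_append, ev15, hi, hs,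
    show ev 14 = U from rfl] at h
  simp only [evW_cons, evW_nil, mul_one, hs]
  generalize ev 10 = s, ev 8 = e at h ⊢
  calc s * (s * (e * (s⁻¹ * s⁻¹))) * U
      = U * (s * (s * (e * (s⁻¹ * s⁻¹)))) *
          (s * (s * (e⁻¹ * (s⁻¹ * (s⁻¹ * (U⁻¹ * (s * (s * (e * (s⁻¹ * (s⁻¹ * U))))))))))) := by group
    _ = U * (s * (s * (e * (s⁻¹ * s⁻¹)))) := by rw [h, mul_one]

/-- The commutation relations of the generators of the subgroup with `u`. -/
theorem lGens_comm : ∀ m, hv (lGens.getD m []) * U = U * hv (lImgs.getD m [])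
  | 0 => comm_of_nev (by decide +kernel) (by decide +kernel) (by decide +kernel)
  | 1 => comm_of_nev (by decide +kernel) (by decide +kernel) (by decide +kernel)
  | 2 => comm_of_nev (by decide +kernel) (by decide +kernel) (by decide +kernel)
  | 3 => comm_t
  | 4 => comm_of_nev (by decide +kernel) (by decide +kernel) (by decide +kernel)
  | 5 => comm_f
  | 6 => comm_of_nev (by decide +kernel) (by decide +kernel) (by decide +kernel)
  | _ + 7 => by simp [lGens, lImgs, hv_nil]

theorem exists_comm {l : HT} (hl : l ∈ Lsub) : ∃ v : HT, iota l * U = U * iota v := by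
  induction hl using Subgroup.closure_induction with
  | mem y hy =>
    obtain ⟨w, hw, rfl⟩ := hy
    obtain ⟨m, hm, rfl⟩ := List.mem_iff_getElem.1 hw
    refine ⟨evW hev (lImgs.getD m []), ?_⟩
    have := lGens_comm m
    rwa [hv, hv, show lGens.getD m [] = lGens[m] by simp [hm]] at this
  | one => exact ⟨1, by simp⟩
  | mul y z _ _ ihy ihz =>
    obtain ⟨v, hv'⟩ := ihy
    obtain ⟨v', hv''⟩ := ihz
    exact ⟨v * v', by rw [map_mul, map_mul, mul_assoc, hv'', ← mul_assoc, hv', mul_assoc]⟩
  | inv y _ ih =>
    obtain ⟨v, hv'⟩ := ih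
    refine ⟨v⁻¹, ?_⟩
    rw [map_inv, map_inv, eq_mul_inv_iff_mul_eq, mul_assoc, ← hv', ← mul_assoc, inv_mul_cancel, one_mul]

/-! ### the action on 17199 points -/

theorem p17199_rels : P17199.rep.relsOK hWords = true := by decide +kernel

theorem exists_lact : ∃ φ : HT →* Equiv.Perm (Fin P17199.rep.N),
    ∀ x, x < alphabet.eps → φ (hev x) = P17199.rep.perm P17199.rep_valid x :=
  Letters.exists_rep (L := letters) rfl letters_valid nodes_valid full hWords_eq P17199.rep_valid p17199_rels

/-- the action on 17199 points -/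
noncomputable def lact : HT →* Equiv.Perm (Fin P17199.rep.N) := exists_lact.choose

theorem lact_ev : ∀ x, x < alphabet.eps → lact (hev x) = P17199.rep.perm P17199.rep_valid x :=
  exists_lact.choose_spec

/-- the first point -/
def pt0 : Fin P17199.rep.N := ⟨0, by decide⟩

theorem lact_transitive (p : Fin P17199.rep.N) : ∃ g : HT, lact g pt0 = p := by
  have hok : orbitOK P17199.rep ((List.range 16).map fun x => [x]) 0 5 (ones 17199) = true := by
    decide +kernel
  have hH : (⊤ : Subgroup HT) =
      Subgroup.closure ((fun w => evW hev w) '' {w | w ∈ (List.range 16).map fun x => [x]}) := by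
    rw [← hgen_top]
    refine congrArg Subgroup.closure ?_
    ext y
    simp only [Set.mem_image, Set.mem_Iio, Set.mem_ofPred_eq, List.mem_map, List.mem_range]
    constructor
    · rintro ⟨x, hx, rfl⟩
      exact ⟨[x], ⟨x, hx, rfl⟩, by simp⟩
    · rintro ⟨_, ⟨x, hx, rfl⟩, rfl⟩
      exact ⟨x, hx, by simp⟩
  obtain ⟨g, -, hg⟩ := (orbit_eq_of_ok P17199.rep_valid hok lact lact_ev hH (by decide) p).2
    (by rw [testBit_ones]; exact decide_eq_true p.2)
  exact ⟨g, hg⟩

theorem map_lact {w : List ℕ} (hw : small w = true) :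
    lact (evW hev w) = evW (P17199.rep.perm P17199.rep_valid) w := by
  simp only [small, List.all_eq_true, Nat.blt_eq] at hw
  simp only [evW, map_list_prod, List.map_map]
  exact congrArg List.prod (List.map_congr_left fun x hx => lact_ev x (hw x hx))

theorem Lsub_fix {l : HT} (hl : l ∈ Lsub) : lact l pt0 = pt0 := by
  induction hl using Subgroup.closure_induction with
  | mem y hy =>
    obtain ⟨w, hw, rfl⟩ := hy
    have hfix : (lGens.all fun w => small w && (applyNet (P17199.rep.netW w) 1).testBit 0) = true := by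
      decide +kernel
    have := List.all_eq_true.1 hfix w hw
    rw [Bool.and_eq_true] at this
    rw [map_lact this.1]
    apply Fin.ext
    rw [Rep.netW_perm P17199.rep_valid]
    have hb := this.2
    rw [Vec.testBit_applyNet (Rep.netOk_netW P17199.rep_valid w)] at hb
    exact VCert.one_bit hb
  | one => simp
  | mul y z _ _ ihy ihz => rw [map_mul, Equiv.Perm.mul_apply, ihz, ihy]
  | inv y _ ih =>
    rw [map_inv]
    exact (Equiv.symm_apply_eq _).2 ih.symm

theorem card_Lsub : 36864 ≤ Nat.card Lsub := by
  have hmap : Nat.card (Lsub.map phi) = Nat.card Lsub := Subgroup.card_map_of_injective phi_injective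
  rw [← hmap]
  refine LChain.levels_prod.symm.le.trans
    (le_natCard_of_chainOK LChain.rep_valid LChain.levels LChain.level0 _ rfl LChain.chain_ok _ fun x hx => ?_)
  have hx' : x ∈ LChain.gens := hx
  have hd : LChain.defs.all (fun d => Nat.blt d.1 LChain.rep.A.eps && lGens.contains d.2 &&
      d.2.all (fun y => Nat.blt y 16) && LChain.rep.relsOK [d.2 ++ [LChain.rep.A.invl d.1]]) = true := by
    decide +kernel
  obtain ⟨d, hdm, rfl⟩ : ∃ d ∈ LChain.defs, d.1 = x := by
    have : LChain.gens = LChain.defs.map Prod.fst := by decide +kernel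
    rw [this] at hx'
    exact List.mem_map.1 hx'
  have := List.all_eq_true.1 hd d hdm
  simp only [Bool.and_eq_true, List.contains_iff_mem, Nat.blt_eq] at this
  obtain ⟨⟨⟨hlt, hmem⟩, hsmall⟩, hrel⟩ := this
  refine ⟨evW hev d.2, Subgroup.subset_closure ⟨d.2, hmem, rfl⟩, ?_⟩
  rw [map_phi hsmall]
  have hgood := Rep.perm_good LChain.rep_valid
  have h1 := Rep.evW_eq_one LChain.rep_valid hrel (w := d.2 ++ [LChain.rep.A.invl d.1]) (by simp)
  rw [evW_append, evW_cons, evW_nil, mul_one] at h1
  rw [eq_inv_of_mul_eq_one_left (hgood.inv d.1 hlt.le)] at h1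
  rw [← mul_inv_eq_one.1 h1]
  simp only [List.all_eq_true, Nat.blt_eq] at hsmall
  simp only [evW]
  exact congrArg List.prod (List.map_congr_left fun y hy => range_perm P819.rep_valid LChain.rep_valid (hsmall y hy))

/-- The stabiliser of the first point is the subgroup. -/
theorem mem_Lsub_iff {g : HT} : g ∈ Lsub ↔ lact g pt0 = pt0 := by
  let : MulAction HT (Fin P17199.rep.N) := MulAction.compHom _ lact
  have hle : Lsub ≤ MulAction.stabilizer HT pt0 := fun l hl => Lsub_fix hl
  have hindex : (MulAction.stabilizer HT pt0).index = 17199 := by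
    rw [MulAction.index_stabilizer]
    have : MulAction.orbit HT pt0 = Set.univ := Set.eq_univ_of_forall fun p => lact_transitive p
    rw [this, Set.ncard_univ, Nat.card_fin]
    rfl
  have hmul := (MulAction.stabilizer HT pt0).card_mul_index
  rw [hindex, card_HT] at hmul
  have : Finite HT := Nat.finite_of_card_ne_zero cardHT_le.1
  have heq : Lsub = MulAction.stabilizer HT pt0 :=
    Subgroup.eq_of_le_of_card_ge hle (le_trans (by omega) card_Lsub)
  rw [heq]
  exact Iff.rfl

theorem index_Lsub : Lsub.index = 17199 := by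
  let : MulAction HT (Fin P17199.rep.N) := MulAction.compHom _ lact
  have heq : Lsub = MulAction.stabilizer HT pt0 := Subgroup.ext fun g => mem_Lsub_iff
  rw [heq, MulAction.index_stabilizer,
    show MulAction.orbit HT pt0 = Set.univ from Set.eq_univ_of_forall fun p => lact_transitive p,
    Set.ncard_univ, Nat.card_fin]
  rfl

end CfsgLib.Th
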