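import Cfsg.Agent.Lib.Th.Count
import Cfsg.Agent.Lib.ThMult.Normal

/-!
The order of the presented Thompson group, and its simplicity.
-/
set_option autoImplicit false
set_option maxRecDepth 8000
set_option Elab.async false

namespace CfsgLib.Th

open CfsgLib.Presented

theorem eq_one_of_sq_cube {G : Type*} [Group G] {x : G} (h2 : x * x = 1) (h3 : x * (x * x) = 1) : x = 1 := by
  rwa [h2, mul_one] at h3

/-- A normal subgroup containing the first generator is the whole group. -/
theorem eq_top_of_mem (N : Subgroup Cfsg.Spor.Th) [N.Normal] (ha : ev 0 ∈ N) : N = ⊤ := by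
  let π : Cfsg.Spor.Th →* Cfsg.Spor.Th ⧸ N := QuotientGroup.mk' N
  let f : ℕ → Cfsg.Spor.Th ⧸ N := fun x => π (ev x)
  have a1 : f 0 = 1 := (QuotientGroup.eq_one_iff _).2 ha
  have inv : ∀ x, x < 8 → f (2 * x + 1) = (f (2 * x))⁻¹ := by
    intro x hx
    show π (ev (2 * x + 1)) = (π (ev (2 * x)))⁻¹
    rw [← map_inv]
    interval_cases x <;> rfl
  have o1 : f 1 = (f 0)⁻¹ := inv 0 (by decide)
  have o3 : f 3 = (f 2)⁻¹ := inv 1 (by decide)
  have o5 : f 5 = (f 4)⁻¹ := inv 2 (by decide)
  have o7 : f 7 = (f 6)⁻¹ := inv 3 (by decide)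
  have o9 : f 9 = (f 8)⁻¹ := inv 4 (by decide)
  have o11 : f 11 = (f 10)⁻¹ := inv 5 (by decide)
  have o13 : f 13 = (f 12)⁻¹ := inv 6 (by decide)
  have o15 : f 15 = (f 14)⁻¹ := inv 7 (by decide)
  have get : ∀ w, relWords.contains w = true → evW f w = 1 := fun w hw => by
    have := congrArg π (rels_hold w (List.contains_iff_mem.1 hw))
    simp only [evW, map_list_prod, List.map_map, map_one] at this
    exact this
  have rb := get [2, 2] (by decide +kernel)
  have rc := get [4, 4] (by decide +kernel)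
  have rd := get [6, 6] (by decide +kernel)
  have rab := get [0, 2, 0, 2, 0, 2] (by decide +kernel)
  have rbc := get [2, 4, 2, 4, 2, 4] (by decide +kernel)
  have rde := get [6, 8, 6, 8, 6, 8] (by decide +kernel)
  have rs := get [10, 10, 10, 10, 10, 10, 10] (by decide +kernel)
  have rsd := get [10, 6, 10, 6] (by decide +kernel)
  have rt := get [12, 12, 12] (by decide +kernel)
  have rtu := get [15, 12, 14, 12] (by decide +kernel)
  have ruu := get [14, 14, 5, 1] (by decide +kernel)
  have rue := get [15, 3, 5, 1, 2, 14, 3, 0, 4, 2, 9] (by decide +kernel)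
  have rm := get [0, 4, 11, 15, 11, 15, 11, 15] (by decide +kernel)
  simp only [evW_cons, evW_nil, mul_one, o1, o3, o5, o9, o11, o15, a1, inv_one, one_mul]
    at rb rc rd rab rbc rde rs rsd rt rtu ruu rue rm
  have b1 : f 2 = 1 := eq_one_of_sq_cube rb rab
  simp only [b1, inv_one, one_mul] at rbc rue
  have c1 : f 4 = 1 := eq_one_of_sq_cube rc rbc
  simp only [c1, inv_one, one_mul, mul_one] at ruu rue rm
  have e1 : f 8 = 1 := by simpa using rue
  simp only [e1, one_mul, mul_one] at rde
  have d1 : f 6 = 1 := eq_one_of_sq_cube rd rde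
  simp only [d1, one_mul, mul_one] at rsd
  have s1 : f 10 = 1 := by simpa only [← mul_assoc, rsd, one_mul, mul_one] using rs
  simp only [s1, inv_one, one_mul, mul_one] at rm
  have u1 : f 14 = 1 := by
    rw [inv_eq_of_mul_eq_one_right ruu] at rm
    exact eq_one_of_sq_cube ruu rm
  simp only [u1, inv_one, one_mul, mul_one] at rtu
  have t1 : f 12 = 1 := eq_one_of_sq_cube rtu rt
  rw [eq_top_iff, ← gen_top, Subgroup.closure_le]
  rintro _ ⟨x, hx, rfl⟩
  have hx' : x < 16 := hx
  refine (QuotientGroup.eq_one_iff _).1 ?_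
  show f x = 1
  interval_cases x <;> simp [o1, o3, o5, o7, o9, o11, o13, o15, a1, b1, c1, d1, e1, s1, t1, u1]

/-- The presented Thompson group is perfect. -/
theorem commutator_eq_top : commutator Cfsg.Spor.Th = ⊤ := by
  refine eq_top_of_mem _ ((QuotientGroup.eq_one_iff _).1 ?_)
  let f : ℕ → Abelianization Cfsg.Spor.Th := fun x => Abelianization.of (ev x)
  show f 0 = 1
  have o5 : f 5 = (f 4)⁻¹ := by
    show Abelianization.of (ev 5) = (Abelianization.of (ev 4))⁻¹
    rw [← map_inv]
    rfl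
  have o7 : f 7 = (f 6)⁻¹ := by
    show Abelianization.of (ev 7) = (Abelianization.of (ev 6))⁻¹
    rw [← map_inv]
    rfl
  have get : ∀ w, relWords.contains w = true → evW f w = 1 := fun w hw => by
    have := congrArg Abelianization.of (rels_hold w (List.contains_iff_mem.1 hw))
    simp only [evW, map_list_prod, List.map_map, map_one] at this
    exact this
  have rc := get [4, 4] (by decide +kernel)
  have rd := get [6, 6] (by decide +kernel)
  have racd := get [0, 7, 5, 7, 5, 7, 5, 7, 5] (by decide +kernel)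
  simp only [evW_cons, evW_nil, mul_one, o5, o7] at rc rd racd
  rw [inv_eq_of_mul_eq_one_right rc, inv_eq_of_mul_eq_one_right rd] at racd
  calc f 0 = f 0 * ((f 4 * f 4) * (f 6 * f 6)) * ((f 4 * f 4) * (f 6 * f 6)) := by
        rw [rc, rd, mul_one, mul_one, mul_one]
    _ = 1 := by
        rw [← racd]
        simp only [mul_assoc, mul_comm, mul_left_comm]

theorem iota_injective : Function.Injective iota := by
  by_contra h
  have hne : iota.ker ≠ ⊥ := fun hb => h ((MonoidHom.ker_eq_bot_iff iota).1 hb)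
  have ha := MonoidHom.mem_ker.1 (ThMult.a_mem_normal iota.ker inferInstance hne)
  have h0 : ev 0 ∈ (⊥ : Subgroup Cfsg.Spor.Th) := by
    rw [Subgroup.mem_bot, ← ha, show ev 0 = evW ev [0] by simp, ← iota_evW (by decide)]
    simp
  have hbt : (⊥ : Subgroup Cfsg.Spor.Th) = ⊤ := eq_top_of_mem ⊥ h0
  have : iota.range = ⊤ := eq_top_iff.2 (hbt ▸ bot_le)
  have hi := index_range
  rw [this, Subgroup.index_top] at hi
  omega

theorem card_Th : Nat.card Cfsg.Spor.Th = 90745943887872000 := by
  have h := iota.range.card_mul_index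
  rw [index_range, Nat.card_congr (MonoidHom.ofInjective iota_injective).symm.toEquiv, card_HT] at h
  rw [← h]

theorem finite_Th : Finite Cfsg.Spor.Th := Nat.finite_of_card_ne_zero (by rw [card_Th]; norm_num)

theorem self_nb : ∀ i < 11, 1 ≤ i → 0 < cnt i i := by decide +kernel

/-- The triality subgroup is maximal. -/
theorem eq_top_of_range_lt {M : Subgroup Cfsg.Spor.Th} (h : iota.range ≤ M) {g : Cfsg.Spor.Th} (hg : g ∈ M)
    (hng : g ∉ iota.range) : M = ⊤ := by
  obtain ⟨i, hi, z, hz⟩ := covered (g : Cosets)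
  have h1 : 1 ≤ i := by
    refine Nat.one_le_iff_ne_zero.2 fun h0 => hng ?_
    subst h0
    rw [C_zero, iota_smul_c0, c0, QuotientGroup.eq, mul_one, inv_mem_iff] at hz
    exact hz
  have hC : C i = (((iota z)⁻¹ * g : Cfsg.Spor.Th) : Cosets) := by
    rw [← smul_eq_mul, ← MulAction.Quotient.smul_coe, hz, inv_smul_smul]
  have hM : (iota z)⁻¹ * g ∈ M := M.mul_mem (M.inv_mem (h ⟨z, rfl⟩)) hg
  generalize (iota z)⁻¹ * g = k at hC hM
  have hpos : 0 < nbCount (C i) i := by
    rw [nbCount_eq hi hi (sep_all i hi)]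
    exact self_nb i hi h1
  obtain ⟨⟨p, y, hy⟩⟩ := (Nat.card_pos_iff.1 hpos).1
  rw [hC, nb, MulAction.Quotient.smul_coe, MulAction.Quotient.smul_coe, MulAction.Quotient.smul_coe, smul_eq_mul,
    smul_eq_mul, smul_eq_mul, QuotientGroup.eq] at hy
  have hU : U ∈ M := by
    have h3 := h hy
    have h4 : (U⁻¹ * ((iota (rep p))⁻¹ * k))⁻¹ * (iota y * k) ∈ M := h3
    have h5 : k⁻¹ * iota (rep p) * U * (iota y * k) ∈ M := by
      convert h4 using 1
      group
    have h6 := M.mul_mem (M.mul_mem (M.mul_mem (M.inv_mem (h ⟨rep p, rfl⟩)) hM) h5)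
      (M.inv_mem (M.mul_mem (h ⟨y, rfl⟩) hM))
    convert h6 using 1
    group
  rw [eq_top_iff, ← gen_top, Subgroup.closure_le]
  rintro _ ⟨x, hx, rfl⟩
  have hx' : x < 16 := hx
  rcases Nat.lt_or_ge x 14 with h14 | h14
  · refine h ⟨evW hev [x], ?_⟩
    rw [iota_evW (by simp [noU, h14])]
    simp
  · obtain rfl | rfl : x = 14 ∨ x = 15 := by omega
    · exact hU
    · rw [ev15]
      exact M.inv_mem hU

end CfsgLib.Th
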