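import Cfsg.Agent.Lib.Th.Basic
import Cfsg.Agent.Lib.Th.BaseDet
import Cfsg.Agent.Lib.Th.Cert.ACDECert
import Cfsg.Agent.Lib.Th.Cert.ECert
import Cfsg.Agent.Lib.Th.Cert.SCert
import Cfsg.Agent.Lib.Th.Cert.DCert
import Cfsg.Agent.Lib.Th.Cert.WEnum
import Cfsg.Agent.Lib.Th.Cert.HEnum
import Cfsg.Agent.Lib.Th.Cert.NEnum
import Cfsg.Agent.Lib.Th.Cert.HChain
import Cfsg.Agent.Lib.Th.Cert.EChain
import Cfsg.Agent.Lib.Th.Cert.NChain

/-!
Orders and faithful permutation representations of the two presented subgroups.
-/
set_option autoImplicit false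
set_option maxRecDepth 8000

namespace CfsgLib.Th

open Cfsg.Spor CfsgLib.Presented

theorem p819_rels : P819.rep.relsOK hWords = true := by decide +kernel

theorem p702_rels : P702.rep.relsOK nWords = true := by decide +kernel

theorem exists_phi : ∃ φ : HT →* Equiv.Perm (Fin P819.rep.N),
    ∀ x, x < alphabet.eps → φ (hev x) = P819.rep.perm P819.rep_valid x :=
  Letters.exists_rep (L := letters) rfl letters_valid nodes_valid full hWords_eq P819.rep_valid p819_rels

/-- the action on 819 points -/
noncomputable def phi : HT →* Equiv.Perm (Fin P819.rep.N) := exists_phi.choose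

theorem phi_ev : ∀ x, x < alphabet.eps → phi (hev x) = P819.rep.perm P819.rep_valid x := exists_phi.choose_spec

theorem exists_psi : ∃ φ : NT →* Equiv.Perm (Fin P702.rep.N),
    ∀ x, x < alphabet.eps → φ (nev x) = P702.rep.perm P702.rep_valid x :=
  Letters.exists_rep (L := letters) rfl letters_valid nodes_valid full nWords_eq P702.rep_valid p702_rels

/-- the action on 702 points -/
noncomputable def psi : NT →* Equiv.Perm (Fin P702.rep.N) := exists_psi.choose

theorem psi_ev : ∀ x, x < alphabet.eps → psi (nev x) = P702.rep.perm P702.rep_valid x := exists_psi.choose_spec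

section

variable {extra : List (FreeGroup Th.Gen)}

local notation "ev'" => letters.ev (fun g => (PresentedGroup.of g : CoxPresented Th.Gen Th.edges extra))

theorem odd_mem_genBy {l : List ℕ} {x : ℕ} (hx : x ≤ alphabet.eps) (h : alphabet.invl x ∈ l) :
    ev' x ∈ genBy ev' l := by
  have := (letters_good (extra := extra)).inv x hx
  rw [eq_inv_of_mul_eq_one_right this]
  exact Subgroup.inv_mem _ (mem_genBy _ h)

theorem cardACDE (hk : ∀ w ∈ ACDECert.relWords, evW (subEv ev' alphabet.eps [0, 1, 4, 5, 6, 7, 8, 9]) w = 1) :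
    Nat.card (genBy ev' [0, 4, 6, 8]) ≠ 0 ∧ Nat.card (genBy ev' [0, 4, 6, 8]) ≤ 96 * 1 :=
  card_le_mul (genBy_mono ev' (by decide)) (card_bot_le ev')
    (relIndex_le_of_subCert (A := alphabet) (emb := [0, 1, 4, 5, 6, 7, 8, 9]) ACDECert.cert_ok letters_ev_one
      letters_ev_inv (by decide +kernel) (by decide +kernel) (by decide +kernel) hk
      (subs_of_check (seeds := []) (by simp) (by decide +kernel)))

theorem cardE {known : List (List ℕ)} (hknown : ∀ w ∈ known, evW ev' w = 1)
    (h1 : (ACDECert.relWords.all fun w => known.contains (w.map fun x =>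
      [0, 1, 4, 5, 6, 7, 8, 9].getD x alphabet.eps)) = true)
    (h2 : (ECert.relWords.all fun w => known.contains (w.map fun x =>
      [0, 1, 2, 3, 4, 5, 6, 7, 8, 9].getD x alphabet.eps)) = true) :
    Nat.card (genBy ev' [0, 2, 4, 6, 8]) ≠ 0 ∧ Nat.card (genBy ev' [0, 2, 4, 6, 8]) ≤ 126 * (96 * 1) :=
  card_le_mul (genBy_mono ev' (by decide)) (cardACDE (rels_of_check hknown h1))
    (relIndex_le_of_subCert (A := alphabet) (emb := [0, 1, 2, 3, 4, 5, 6, 7, 8, 9]) ECert.cert_ok letters_ev_one
      letters_ev_inv (by decide +kernel) (by decide +kernel) (by decide +kernel)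
      (rels_of_check hknown h2) (subs_of_check (seeds := []) (by simp) (by decide +kernel)))

end

/-- a relation of the triality group not visible in the centraliser's presentation -/
def wWord : List ℕ := wpow [4, 6, 8, 10] 9

theorem cardE_HT : Nat.card (genBy hev [0, 2, 4, 6, 8]) ≠ 0 ∧ Nat.card (genBy hev [0, 2, 4, 6, 8]) ≤ 12096 :=
  cardE hrels_hold (by decide +kernel) (by decide +kernel)

theorem cardE_NT : Nat.card (genBy nev [0, 2, 4, 6, 8]) ≠ 0 ∧ Nat.card (genBy nev [0, 2, 4, 6, 8]) ≤ 12096 :=
  cardE nrels_hold (by decide +kernel) (by decide +kernel)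

theorem phi_injOn_E : Function.Injective (phi.comp (genBy hev [0, 2, 4, 6, 8]).subtype) := by
  refine (card_eq_and_injective (P := Equiv.Perm (Fin P819.rep.N)) _ cardE_HT ?_).2
  refine EChain.levels_prod.symm.le.trans
    (le_natCard_of_chainOK EChain.rep_valid EChain.levels EChain.level0 _ rfl EChain.chain_ok _ fun x hx => ?_)
  have hx' : x ∈ [0, 2, 4, 6, 8] := hx
  refine ⟨⟨hev x, mem_genBy hev hx'⟩, ?_⟩
  have hlt : x < alphabet.eps := by
    simp only [List.mem_cons, List.not_mem_nil, or_false] at hx'
    show x < 16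
    omega
  show phi (hev x) = _
  rw [phi_ev x hlt]
  refine Equiv.ext fun i => Fin.ext ?_
  rw [Rep.perm_val]
  refine Eq.trans ?_ (Rep.perm_val EChain.rep_valid x i).symm
  have e : EChain.rep.net x = P819.rep.net x := by
    simp only [Rep.net, EChain.rep]
    exact List.getD_append _ _ _ _ ((Rep.valid_spec P819.rep_valid).2.2.2.1 ▸ hlt)
  rw [e]

theorem map_phi {w : List ℕ} (hw : w.all (fun y => Nat.blt y alphabet.eps) = true) :
    phi (evW hev w) = evW (P819.rep.perm P819.rep_valid) w := by
  simp only [List.all_eq_true, Nat.blt_eq] at hw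
  simp only [evW, map_list_prod, List.map_map]
  exact congrArg List.prod (List.map_congr_left fun x hx => phi_ev x (hw x hx))

theorem map_psi {w : List ℕ} (hw : w.all (fun y => Nat.blt y alphabet.eps) = true) :
    psi (evW nev w) = evW (P702.rep.perm P702.rep_valid) w := by
  simp only [List.all_eq_true, Nat.blt_eq] at hw
  simp only [evW, map_list_prod, List.map_map]
  exact congrArg List.prod (List.map_congr_left fun x hx => psi_ev x (hw x hx))

theorem w_mem : evW hev wWord ∈ genBy hev [0, 2, 4, 6, 8] := by
  have h := mem_of_fix (WEnum.loop0 (Enum.interp_sub (ev := hev) (A := alphabet) (E := WEnum.enum)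
    (emb := [0, 1, 2, 3, 4, 5, 6, 7, 8, 9, 10, 11]) (H := genBy hev [0, 2, 4, 6, 8])
    letters_ev_one letters_ev_inv (by decide +kernel) (by decide +kernel)
    (rels_of_check hrels_hold (by decide +kernel)) (subs_of_check (seeds := []) (by simp) (by decide +kernel))))
  rw [← evW_map] at h
  exact h

theorem w_eq : evW hev wWord = 1 := by
  have hrel : P819.rep.relsOK [wWord] = true := by decide +kernel
  have h := @phi_injOn_E ⟨evW hev wWord, w_mem⟩ 1 (by
    rw [map_one]
    show phi (evW hev wWord) = 1
    rw [map_phi (by decide +kernel)]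
    exact Rep.evW_eq_one P819.rep_valid hrel (List.mem_singleton.2 rfl))
  exact congrArg Subtype.val h

theorem hknown : ∀ w ∈ hWords ++ [wWord], evW hev w = 1 := by
  intro w hw
  rcases List.mem_append.1 hw with h | h
  · exact hrels_hold w h
  · rw [List.mem_singleton.1 h]
    exact w_eq

theorem cardD : Nat.card (genBy hev [6, 8, 10, 12]) ≠ 0 ∧ Nat.card (genBy hev [6, 8, 10, 12]) ≤ 1512 * 1 :=
  card_le_mul (genBy_mono hev (by decide)) (card_bot_le hev)
    (relIndex_le_of_subCert (A := alphabet) (emb := [6, 7, 8, 9, 10, 11, 12, 13]) DCert.cert_ok letters_ev_one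
      letters_ev_inv (by decide +kernel) (by decide +kernel) (by decide +kernel)
      (rels_of_check hknown (by decide +kernel)) (subs_of_check (seeds := []) (by simp) (by decide +kernel)))

theorem cardS : Nat.card (genBy hev [0, 4, 6, 8, 10, 12]) ≠ 0 ∧
    Nat.card (genBy hev [0, 4, 6, 8, 10, 12]) ≤ 512 * (1512 * 1) :=
  card_le_mul (genBy_mono hev (by decide)) cardD
    (relIndex_le_of_subCert (A := alphabet) (emb := [0, 1, 4, 5, 6, 7, 8, 9, 10, 11, 12, 13]) SCert.cert_ok
      letters_ev_one letters_ev_inv (by decide +kernel) (by decide +kernel) (by decide +kernel)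
      (rels_of_check hknown (by decide +kernel)) (subs_of_check (seeds := []) (by simp) (by decide +kernel)))

theorem hev_u : hev 14 = 1 := by
  have := hrels_hold [14] (by decide +kernel)
  simpa using this

theorem nev_st : nev 10 = 1 ∧ nev 12 = 1 := by
  constructor
  · simpa using nrels_hold [10] (by decide +kernel)
  · simpa using nrels_hold [12] (by decide +kernel)

theorem top_le_of_evens {extra : List (FreeGroup Th.Gen)} {K : Subgroup (CoxPresented Th.Gen Th.edges extra)}
    (h : ∀ x ∈ [0, 2, 4, 6, 8, 10, 12, 14], letters.ev (fun g => PresentedGroup.of g) x ∈ K) : ⊤ ≤ K := by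
  rw [← Letters.gen_top (L := letters) (edges := Th.edges) (extra := extra) letters_valid nodes_valid full,
    Subgroup.closure_le]
  rintro _ ⟨x, hx, rfl⟩
  have hx' : x < 16 := hx
  have key : ∀ y < 16, alphabet.invl y ∈ [0, 2, 4, 6, 8, 10, 12, 14] ∨ y ∈ [0, 2, 4, 6, 8, 10, 12, 14] := by
    decide +kernel
  rcases key x hx' with h' | h'
  · have := (letters_good (extra := extra)).inv x hx'.le
    rw [SetLike.mem_coe, eq_inv_of_mul_eq_one_right this]
    exact K.inv_mem (h _ h')
  · exact h x h'

theorem indexS : (genBy hev [0, 4, 6, 8, 10, 12]).relIndex ⊤ ≠ 0 ∧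
    (genBy hev [0, 4, 6, 8, 10, 12]).relIndex ⊤ ≤ 819 := by
  let emb := [0, 1, 2, 3, 4, 5, 6, 7, 8, 9, 10, 11, 12, 13]
  refine Cover.relIndex_le (C := HEnum.cover) (ev := subEv hev alphabet.eps emb) HEnum.enum_valid
    HEnum.facts_ok HEnum.cover_ok ?_ ?_ (rels_of_check hknown (by decide +kernel))
    (subs_of_check (seeds := []) (by simp) (by decide +kernel)) (top_le_of_evens fun x hx => ?_)
  · exact letters_ev_one
  · intro x hx
    have hc : ((List.range HEnum.enum.A.eps).all fun x => Nat.blt (emb.getD x alphabet.eps) alphabet.eps &&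
        Nat.beq (emb.getD (HEnum.enum.A.invl x) alphabet.eps) (alphabet.invl (emb.getD x alphabet.eps))) = true := by
      decide +kernel
    simp only [List.all_eq_true, List.mem_range, Bool.and_eq_true, Nat.blt_eq] at hc
    rw [subEv, subEv, Nat.eq_of_beq_eq_true (hc x hx).2]
    exact letters_ev_inv _ (hc x hx).1
  · by_cases h14 : x = 14
    · subst h14
      show hev 14 ∈ _
      rw [hev_u]
      exact one_mem _
    · have key : ∀ y ∈ [0, 2, 4, 6, 8, 10, 12, 14], y = 14 ∨
          (y ∈ HEnum.cover.gens ∧ emb.getD y alphabet.eps = y) := by decide +kernel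
      obtain h | ⟨h1, h2⟩ := key x hx
      · exact absurd h h14
      · refine Subgroup.subset_closure ⟨x, h1, ?_⟩
        show hev (emb.getD x alphabet.eps) = hev x
        rw [h2]

theorem cardHT_le : Nat.card HT ≠ 0 ∧ Nat.card HT ≤ 634023936 :=
  card_top_le cardS indexS

theorem range_perm {N : ℕ} {A : Alphabet} {nets : List (List Vec.Stage)} {new : List (List Vec.Stage)}
    {m : ℕ} (hR : (Rep.mk A m N nets).valid = true) {A' : Alphabet}
    (hR' : (Rep.mk A' m N (nets ++ new)).valid = true) {x : ℕ} (hx : x < A.eps) :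
    (Rep.mk A m N nets).perm hR x = (Rep.mk A' m N (nets ++ new)).perm hR' x := by
  refine Equiv.ext fun i => Fin.ext ?_
  rw [Rep.perm_val]
  refine Eq.trans ?_ (Rep.perm_val hR' x i).symm
  have e : (Rep.mk A' m N (nets ++ new)).net x = (Rep.mk A m N nets).net x := by
    simp only [Rep.net]
    exact List.getD_append _ _ _ _ ((Rep.valid_spec hR).2.2.2.1 ▸ hx)
  rw [e]

theorem cardHT_ge : 634023936 ≤ Nat.card phi.range :=
  HChain.levels_prod.symm.le.trans (chainProd_le_card_range P819.rep_valid HChain.rep_valid phi phi_ev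
    (L := HChain.level0) rfl HChain.chain_ok (by decide +kernel))

/-- The order of the presented triality group. -/
theorem card_HT : Nat.card HT = 634023936 := (card_eq_and_injective phi cardHT_le cardHT_ge).1

theorem phi_injective : Function.Injective phi := (card_eq_and_injective phi cardHT_le cardHT_ge).2

theorem indexE : (genBy nev [0, 2, 4, 6, 8]).relIndex ⊤ ≠ 0 ∧ (genBy nev [0, 2, 4, 6, 8]).relIndex ⊤ ≤ 702 := by
  let emb := [0, 1, 2, 3, 4, 5, 6, 7, 8, 9, 14, 15]
  refine Cover.relIndex_le (C := NEnum.cover) (ev := subEv nev alphabet.eps emb) NEnum.enum_valid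
    NEnum.facts_ok NEnum.cover_ok ?_ ?_ (rels_of_check nrels_hold (by decide +kernel))
    (subs_of_check (seeds := []) (by simp) (by decide +kernel)) (top_le_of_evens fun x hx => ?_)
  · exact letters_ev_one
  · intro x hx
    have hc : ((List.range NEnum.enum.A.eps).all fun x => Nat.blt (emb.getD x alphabet.eps) alphabet.eps &&
        Nat.beq (emb.getD (NEnum.enum.A.invl x) alphabet.eps) (alphabet.invl (emb.getD x alphabet.eps))) = true := by
      decide +kernel
    simp only [List.all_eq_true, List.mem_range, Bool.and_eq_true, Nat.blt_eq] at hc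
    rw [subEv, subEv, Nat.eq_of_beq_eq_true (hc x hx).2]
    exact letters_ev_inv _ (hc x hx).1
  · have key : ∀ y ∈ [0, 2, 4, 6, 8, 10, 12, 14], y = 10 ∨ y = 12 ∨
        ∃ z ∈ NEnum.cover.gens, emb.getD z alphabet.eps = y := by decide +kernel
    rcases key x hx with rfl | rfl | ⟨z, h1, h2⟩
    · show nev 10 ∈ _
      rw [nev_st.1]
      exact one_mem _
    · show nev 12 ∈ _
      rw [nev_st.2]
      exact one_mem _
    · refine Subgroup.subset_closure ⟨z, h1, ?_⟩
      show nev (emb.getD z alphabet.eps) = nev x
      rw [h2]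

theorem psi_injective : Function.Injective psi :=
  (card_eq_and_injective psi (n := 8491392) (card_top_le cardE_NT indexE)
    (NChain.levels_prod.symm.le.trans (chainProd_le_card_range P702.rep_valid NChain.rep_valid psi psi_ev
      (L := NChain.level0) rfl NChain.chain_ok (by decide +kernel)))).2

/-- Checked permutation identities hold in the first subgroup presentation. -/
theorem hev_eq_one {w : List ℕ} (h : P819.rep.relsOK [w] = true) : evW hev w = 1 := by
  refine phi_injective ?_
  have hw : w.all (fun y => Nat.blt y alphabet.eps) = true := by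
    simp only [Rep.relsOK, List.all_cons, List.all_nil, Bool.and_true, Bool.and_eq_true] at h
    exact h.1
  rw [map_one, map_phi hw]
  exact Rep.evW_eq_one P819.rep_valid h (List.mem_singleton.2 rfl)

/-- Checked permutation identities hold in the second subgroup presentation. -/
theorem nev_eq_one {w : List ℕ} (h : P702.rep.relsOK [w] = true) : evW nev w = 1 := by
  refine psi_injective ?_
  have hw : w.all (fun y => Nat.blt y alphabet.eps) = true := by
    simp only [Rep.relsOK, List.all_cons, List.all_nil, Bool.and_true, Bool.and_eq_true] at h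
    exact h.1
  rw [map_one, map_psi hw]
  exact Rep.evW_eq_one P702.rep_valid h (List.mem_singleton.2 rfl)

/-- Elements of the first subgroup presentation agreeing on the base are equal. -/
theorem eq_one_of_base {g : HT}
    (h : ∀ i : Fin P819.rep.N, (i : ℕ) ∈ [137, 366, 711, 609] → phi g i = i) : g = 1 := by
  refine phi_injective ?_
  rw [map_one]
  refine eq_one_of_fix HChain.rep_valid HChain.levels HChain.level0 _ rfl HChain.chain_ok phi.range
    (fun x hx => ?_) ?_ _ ⟨g, rfl⟩ fun M hM i hi => h i ?_
  · have hx' : x < 16 := by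
      have : HChain.level0.gens.all (fun y => Nat.blt y 16) = true := by decide +kernel
      have := List.all_eq_true.1 this x hx
      rwa [Nat.blt_eq] at this
    refine ⟨hev x, ?_⟩
    rw [phi_ev x hx']
    exact range_perm P819.rep_valid HChain.rep_valid hx'
  · rw [HChain.levels_prod]
    have : Finite HT := Nat.finite_of_card_ne_zero cardHT_le.1
    exact (Nat.card_le_card_of_surjective phi.rangeRestrict phi.rangeRestrict_surjective).trans cardHT_le.2
  · rw [hi]
    have : HChain.levels.all (fun M => [137, 366, 711, 609].contains M.point) = true := by decide +kernel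
    exact List.contains_iff_mem.1 (List.all_eq_true.1 this M hM)

end CfsgLib.Th
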