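import Cfsg.Agent.Lib.Th.OutDEU

/-!
Outer automorphisms of the presented Thompson group, last part: the image of `b` centralises a subgroup of order
1512 fixing a single coset of the triality subgroup, so it is `b` or its conjugate by `a`.
-/
set_option autoImplicit false
set_option maxRecDepth 8000
set_option Elab.async false

namespace CfsgLib.Th.Out

open CfsgLib.Presented CfsgLib.Th CfsgLib.Th.Invol CfsgLib.SymPresent
open scoped Classical

local notation "hI" => CfsgLib.Th.iota_injective
local notation "G" => Cfsg.Spor.Th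

/-- the subgroup of order 1512 -/
noncomputable abbrev Dsub : Subgroup HT := genBy hev [6, 8, 10, 12]

theorem dvd_card_Dsub : 1512 ∣ Nat.card Dsub := by
  have := finite_HT'
  have hrel : Dsub.relIndex (genBy hev [0, 4, 6, 8, 10, 12]) ≤ 512 :=
    (relIndex_le_of_subCert (A := alphabet) (emb := [0, 1, 4, 5, 6, 7, 8, 9, 10, 11, 12, 13]) SCert.cert_ok
      letters_ev_one letters_ev_inv (by decide +kernel) (by decide +kernel) (by decide +kernel)
      (rels_of_check hknown (by decide +kernel)) (subs_of_check (seeds := []) (by simp) (by decide +kernel))).2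
  have hle : Dsub ≤ genBy hev [0, 4, 6, 8, 10, 12] := genBy_mono hev (by decide)
  have h1 : Nat.card Dsub * Dsub.relIndex (genBy hev [0, 4, 6, 8, 10, 12]) = 774144 := by
    rw [Subgroup.relIndex, ← Nat.card_congr (Subgroup.subgroupOfEquivOfLe hle).toEquiv, Subgroup.card_mul_index,
      ← St_eq, card_St]
  have h2 := cardD.2
  have h3 : Nat.card Dsub = 1512 := by
    have h4 : Nat.card Dsub * Dsub.relIndex (genBy hev [0, 4, 6, 8, 10, 12]) ≤ Nat.card Dsub * 512 :=
      Nat.mul_le_mul_left _ hrel
    have h5 : Nat.card Dsub ≤ 1512 := by simpa using h2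
    omega
  rw [h3]

/-- A coset fixed by the subgroup of order 1512 is the first one. -/
theorem fixed_coset {q : Cosets} (hq : ∀ d ∈ Dsub, iota d • q = q) : q = c0 := by
  have := finite_Th
  have := finite_HT'
  have F := facts
  obtain ⟨j, hj, x, hx⟩ := covered q
  rcases Nat.eq_zero_or_pos j with rfl | hpos
  · rw [hx, C_zero, iota_smul_c0]
  exfalso
  have hconj : Dsub.map (MulAut.conj x⁻¹).toMonoidHom ≤ Stab j := by
    rintro _ ⟨d, hd, rfl⟩
    rw [mem_Stab]
    show iota (MulAut.conj x⁻¹ d) • C j = C j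
    have h1 := hq d hd
    rw [hx] at h1
    rw [MulAut.conj_apply, inv_inv, map_mul, map_mul, map_inv, mul_smul, mul_smul, h1, inv_smul_smul]
  have hdvd : 1512 ∣ Nat.card (Stab j) := by
    refine dvd_card_Dsub.trans ?_
    rw [← Subgroup.card_map_of_injective (f := (MulAut.conj x⁻¹).toMonoidHom) (MulAut.conj x⁻¹).injective]
    exact Subgroup.card_dvd_of_le hconj
  have hs := card_Stab F hj
  obtain ⟨k, hk⟩ := hdvd
  rw [hk, ← mul_assoc] at hs
  have hno : ∀ j < 11, 0 < j → ¬ CoverData.sizes.getD j 0 * 1512 ∣ 634023936 := by decide +kernel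
  exact hno j hj hpos ⟨k, hs.symm⟩

/-- the fixed points of the four letters -/
theorem fixPts_ok : ((List.range 819).all fun p => !([6, 8, 10, 12].all fun x => Nat.beq (tab x p) p) ||
    [40, 66, 106].contains p) = true := by decide +kernel

/-- the candidates -/
def bWords : List (List ℕ) := [[], [0], [2], [2, 0], [0, 2], [0, 2, 0]]

theorem sFilter_ok : ((List.range 7).all fun i => sList.all fun m =>
    !([6, 8, 12].all fun x => same ([x] ++ sWord i m) (sWord i m ++ [x])) ||
      (Nat.beq i 0 && [0, 256].contains m)) = true := by decide +kernel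

theorem bFilter_ok : (bWords.all fun w => !(same (w ++ w) [] && same ([0] ++ w ++ [0] ++ w ++ [0] ++ w) [] &&
    !(same w [0])) || [[2], [2, 0], [0, 2], [0, 2, 0]].contains w && (same w [2] || same w [0, 2, 0])) = true := by
  decide +kernel

/-- Elements of the triality group commuting with the four letters. -/
theorem cent_D {h : HT} (hc : ∀ x ∈ [6, 8, 10, 12], h * hev x = hev x * h) :
    ∃ w ∈ bWords, iota h = hv w := by
  set p := phi h p106 with hp
  have hfix : ∀ x ∈ [6, 8, 10, 12], tab x p = p := by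
    intro x hx
    have hx16 : x < alphabet.eps := by
      show x < 16
      simp only [List.mem_cons, List.not_mem_nil, or_false] at hx
      omega
    have h106 : ∀ x ∈ [6, 8, 10, 12], Nat.beq (tab x 106) 106 = true := by decide +kernel
    have e1 : phi (hev x) p106 = p106 := by
      have e2 := tab_spec hx16 p106
      have e3 : (phi (hev x))⁻¹ p106 = p106 := Fin.ext (e2.trans (Nat.eq_of_beq_eq_true (h106 x hx)))
      exact (Equiv.Perm.inv_eq_iff_eq.1 e3).symm
    have e4 : phi (hev x) p = p := by
      rw [hp, ← Equiv.Perm.mul_apply, ← map_mul, ← hc x hx, map_mul, Equiv.Perm.mul_apply, e1]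
    have e5 : (phi (hev x))⁻¹ p = p := by rw [Equiv.Perm.inv_eq_iff_eq, e4]
    rw [← tab_spec hx16 p, e5]
  have hp3 : (p : ℕ) ∈ [40, 66, 106] := by
    have h1 := List.all_eq_true.1 fixPts_ok p (List.mem_range.2 p.2)
    rw [show ([6, 8, 10, 12].all fun x => Nat.beq (tab x p) p) = true from
      List.all_eq_true.2 fun x hx => by rw [hfix x hx]; exact Nat.beq_refl _] at h1
    simpa using h1
  obtain ⟨r, hr, hrp⟩ : ∃ r ∈ ([[], [2], [0, 2]] : List (List ℕ)), phi (evW hev r) p106 = p := by
    have hs : ∀ q ∈ [40, 66, 106], ∃ r ∈ ([[], [2], [0, 2]] : List (List ℕ)), trace r q = 106 := by decide +kernel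
    obtain ⟨r, hr, e⟩ := hs p hp3
    refine ⟨r, hr, ?_⟩
    have hsm : ∀ r ∈ ([[], [2], [0, 2]] : List (List ℕ)), small r = true := by decide
    have e2 : (phi (evW hev r))⁻¹ p = p106 := Fin.ext ((trace_spec (hsm r hr) p).trans e)
    exact (Equiv.Perm.inv_eq_iff_eq.1 e2).symm
  set k := (evW hev r)⁻¹ * h with hk
  have hkSt : k ∈ St := by
    rw [mem_St, hk, map_mul, map_inv, Equiv.Perm.mul_apply, ← hp, Equiv.Perm.inv_eq_iff_eq, hrp]
  have hrc : ∀ x ∈ [6, 8, 10, 12], evW hev r * hev x = hev x * evW hev r := by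
    intro x hx
    have hall : ∀ r ∈ ([[], [2], [0, 2]] : List (List ℕ)), ∀ x ∈ [6, 8, 10, 12],
        same (r ++ [x]) ([x] ++ r) = true := by decide +kernel
    have := same_spec (hall r hr x hx)
    simpa [evW_append] using this
  have hkc : ∀ x ∈ [6, 8, 10, 12], hv [x] * iota k = iota k * hv [x] := by
    intro x hx
    have e : hev x * k = k * hev x := by
      rw [hk, ← mul_assoc, show hev x * (evW hev r)⁻¹ = (evW hev r)⁻¹ * hev x from
        ((show Commute (evW hev r) (hev x) from hrc x hx).inv_left).eq.symm, mul_assoc, ← hc x hx, mul_assoc]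
    have := congrArg iota e
    rw [map_mul iota (hev x) k, map_mul iota k (hev x)] at this
    have e2 : hv [x] = iota (hev x) := by simp [hv]
    rw [e2]
    exact this
  have hkX : iota k ∈ X := by
    rw [mem_X_iff, zT_eq, ← map_mul, ← map_mul, (St_comm hkSt).eq]
  obtain ⟨i, hi, m, hm, he⟩ := cent_s hkX (hkc 10 (by decide)).symm
  have hh := List.all_eq_true.1 (List.all_eq_true.1 sFilter_ok i (List.mem_range.2 hi)) m hm
  rw [show ([6, 8, 12].all fun x => same ([x] ++ sWord i m) (sWord i m ++ [x])) = true from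
    List.all_eq_true.2 fun x hx => by
      have hx' : x ∈ [6, 8, 10, 12] ∧ x < 16 := by
        simp only [List.mem_cons, List.not_mem_nil, or_false] at hx ⊢
        omega
      refine same_of_hv (small_append (small_single hx'.2) (small_sWord i m))
        (small_append (small_sWord i m) (small_single hx'.2)) ?_
      rw [hv_append, hv_append, ← he]
      exact hkc x hx'.1] at hh
  simp only [Bool.not_true, Bool.false_or, Bool.and_eq_true, List.contains_iff_mem] at hh
  obtain ⟨h1, h2⟩ := hh
  obtain rfl := Nat.eq_of_beq_eq_true h1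
  have hh' : iota h = hv r * iota k := by rw [hv, ← map_mul, hk, mul_inv_cancel_left]
  have htab : ∀ r ∈ ([[], [2], [0, 2]] : List (List ℕ)), ∀ m ∈ [0, 256],
      ∃ w ∈ bWords, same (r ++ sWord 0 m) w = true := by decide +kernel
  obtain ⟨w, hw, hs⟩ := htab r hr m h2
  exact ⟨w, hw, by rw [hh', he, ← hv_append]; exact hv_same hs⟩

/-- An automorphism fixing all letters but `b` sends it to `b` or to its conjugate by `a`. -/
theorem image_b {φ : MulAut G} (h : FixFour φ) (h6 : φ (ev 6) = ev 6) (h8 : φ (ev 8) = ev 8) :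
    φ (ev 2) = hv [2] ∨ φ (ev 2) = hv [0, 2, 0] := by
  set β := φ (ev 2) with hβ
  have hfix : ∀ x ∈ [6, 8, 10, 12], φ (hv [x]) = hv [x] := by
    intro x hx
    simp only [List.mem_cons, List.not_mem_nil, or_false] at hx
    rcases hx with rfl | rfl | rfl | rfl <;> rw [← ev_eq_hv (by decide)]
    exacts [h6, h8, h.fs, h.ft]
  have hcomm : ∀ x ∈ [6, 8, 10, 12], β * hv [x] = hv [x] * β := by
    intro x hx
    have hall : ∀ x ∈ [6, 8, 10, 12], same [2, x] [x, 2] = true := by decide +kernel
    have := congrArg φ (hv_same (hall x hx))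
    rwa [show [2, x] = [2] ++ [x] from rfl, show [x, 2] = [x] ++ [2] from rfl, hv_append, hv_append, map_mul,
      map_mul, hfix x hx, ← ev_eq_hv (x := 2) (by decide), ← hβ] at this
  have hD : ∀ d ∈ Dsub, Commute β (iota d) := by
    intro d hd
    refine Subgroup.closure_induction (p := fun d _ => Commute β (iota d)) ?_ (by rw [map_one]; exact Commute.one_right _)
      (fun x y _ _ hx hy => by rw [map_mul]; exact hx.mul_right hy) (fun x _ hx => by rw [map_inv]; exact hx.inv_right) hd
    rintro _ ⟨x, hx, rfl⟩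
    have := hcomm x hx
    simpa [hv, Commute, SemiconjBy] using this
  have hq : (β • c0 : Cosets) = c0 := fixed_coset fun d hd => by
    rw [← mul_smul, ← (hD d hd).eq, mul_smul, iota_smul_c0]
  obtain ⟨k, hk⟩ := smul_c0_eq_iff.1 hq
  obtain ⟨w, hw, he⟩ := cent_D (h := k) fun x hx => hI (by
    rw [map_mul, map_mul, hk]
    have := hcomm x hx
    simpa [hv] using this)
  rw [hk] at he
  have hsm : ∀ w ∈ bWords, small w = true := by decide
  have fa : φ (hv [0]) = hv [0] := by rw [← zT_hv]; exact h.fa
  have s1 : same (w ++ w) [] = true := same_of_hv (small_append (hsm w hw) (hsm w hw)) rfl (by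
    rw [hv_append, ← he, hβ, ← map_mul, ev_eq_hv (by decide), ← hv_append,
      hv_same (show same ([2] ++ [2]) [] = true by decide +kernel), hv_nil, map_one])
  have s2 : same ([0] ++ w ++ [0] ++ w ++ [0] ++ w) [] = true := same_of_hv
    (small_append (small_append (small_append (small_append (small_append (small_single (by decide)) (hsm w hw))
      (small_single (by decide))) (hsm w hw)) (small_single (by decide))) (hsm w hw)) rfl (by
      simp only [hv_append]
      rw [← he, hβ, ev_eq_hv (by decide), ← fa]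
      simp only [← map_mul, ← hv_append]
      rw [hv_same (show same ([0] ++ [2] ++ [0] ++ [2] ++ [0] ++ [2]) [] = true by decide +kernel), hv_nil, map_one])
  have s3 : same w [0] = false := by
    refine Bool.eq_false_iff.2 fun hs => ?_
    have h4 : φ (ev 2) = φ (hv [0]) := by rw [fa, ← hβ, he]; exact hv_same hs
    have h5 := φ.injective h4
    rw [ev_eq_hv (by decide)] at h5
    have := same_of_hv (by decide) (by decide) h5
    revert this
    decide +kernel
  have hh := List.all_eq_true.1 bFilter_ok w hw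
  rw [s1, s2, s3] at hh
  simp only [Bool.not_false, Bool.and_self, Bool.not_true, Bool.false_or, Bool.and_eq_true, Bool.or_eq_true] at hh
  rcases hh.2 with h' | h'
  · exact Or.inl (he.trans (hv_same h'))
  · exact Or.inr (he.trans (hv_same h'))

/-- Every automorphism is inner. -/
theorem all_inner (φ : MulAut G) : IsInn φ := by
  obtain ⟨g1, h1⟩ := exists_fix_a φ
  refine isInn_conj g1 ?_
  obtain ⟨g2, h2a, h2s⟩ := exists_fix_s h1
  refine isInn_conj g2 ?_
  obtain ⟨g3, h3a, h3s, h3t⟩ := exists_fix_t h2a h2s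
  refine isInn_conj g3 ?_
  obtain ⟨g4, h4a, h4s, h4t, h4c⟩ := exists_fix_c h3a h3s h3t
  refine isInn_conj g4 ?_
  obtain ⟨g5, h5, h56, h58, h5u⟩ := exists_fix_deu ⟨h4a, h4s, h4t, h4c⟩
  refine isInn_conj g5 ?_
  generalize MulAut.conj g5 * (MulAut.conj g4 * (MulAut.conj g3 * (MulAut.conj g2 * (MulAut.conj g1 * φ)))) = ψ
    at h5 h56 h58 h5u
  have final : ∀ χ : MulAut G, FixFour χ → χ (ev 6) = ev 6 → χ (ev 8) = ev 8 → χ U = U → χ (ev 2) = ev 2 →
      χ = 1 := by
    intro χ k k6 k8 ku kb
    have hext : χ.toMonoidHom = MonoidHom.id G := by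
      refine PresentedGroup.ext fun x => ?_
      show χ (PresentedGroup.of x) = PresentedGroup.of x
      cases x
      exacts [k.fa, kb, k.fc, k6, k8, k.fs, k.ft, ku]
    exact MulEquiv.ext fun x => DFunLike.congr_fun hext x
  rcases image_b h5 h56 h58 with hb | hb
  · rw [final ψ h5 h56 h58 h5u (hb.trans (ev_eq_hv (by decide)).symm)]
    exact one_mem _
  · refine isInn_conj (hv [0]) ?_
    have hy : ∀ k, k < 14 → same [0, k] [k, 0] = true → hv [0] * hv [k] * (hv [0])⁻¹ = hv [k] := by
      intro k hk hsame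
      rw [← hv_append, show [0] ++ [k] = [0, k] from rfl, hv_same hsame, show [k, 0] = [k] ++ [0] from rfl,
        hv_append, mul_inv_cancel_right]
    suffices e : MulAut.conj (hv [0]) * ψ = 1 by
      rw [e]
      exact one_mem _
    refine final _ ⟨?_, ?_, ?_, ?_⟩ ?_ ?_ ?_ ?_
    all_goals rw [conj_mul_apply]
    · rw [h5.fa, zT_hv, mul_inv_cancel_right]
    · rw [h5.fs, ev_eq_hv (by decide), hy 10 (by decide) (by decide +kernel)]
    · rw [h5.ft, ev_eq_hv (by decide), hy 12 (by decide) (by decide +kernel)]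
    · rw [h5.fc, ev_eq_hv (by decide), hy 4 (by decide) (by decide +kernel)]
    · rw [h56, ev_eq_hv (by decide), hy 6 (by decide) (by decide +kernel)]
    · rw [h58, ev_eq_hv (by decide), hy 8 (by decide) (by decide +kernel)]
    · have h0 := lGens_comm 0
      rw [show lGens.getD 0 [] = [0] from rfl, show lImgs.getD 0 [] = [0] from rfl] at h0
      rw [h5u, h0, mul_inv_cancel_right]
    · rw [hb, ← inv_hv_ev (by decide), ← hv_append, ← hv_append, ev_eq_hv (by decide)]
      exact hv_same (by decide +kernel)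

/-- The outer automorphism group is trivial. -/
theorem card_out : Nat.card (Cfsg.Out G) = 1 := by
  rw [Nat.card_eq_one_iff_unique]
  refine ⟨⟨fun x y => ?_⟩, ⟨1⟩⟩
  obtain ⟨x, rfl⟩ := QuotientGroup.mk_surjective x
  obtain ⟨y, rfl⟩ := QuotientGroup.mk_surjective y
  exact QuotientGroup.eq.2 (mul_mem (inv_mem (all_inner x)) (all_inner y))

end CfsgLib.Th.Out
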