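import Cfsg.Agent.Lib.Th.InvolFacts
import Cfsg.Agent.Lib.Schur.AutAlternating

/-!
Outer automorphisms of the presented Thompson group, first part: the centraliser of `a` with explicit images of
its seven letters in the alternating group of degree nine, and words for the elements of its extraspecial subgroup.
-/
set_option autoImplicit false
set_option maxRecDepth 8000
set_option Elab.async false

namespace CfsgLib.Th.Out

open CfsgLib.Presented CfsgLib.Th CfsgLib.Th.Invol CfsgLib.SymPresent
open scoped Classical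

local notation "hI" => CfsgLib.Th.iota_injective

theorem finite_HT' : Finite HT := Nat.finite_of_card_ne_zero (by rw [card_HT]; norm_num)

/-- Equal values give a true test. -/
theorem same_of_eq {v w : List ℕ} (hv' : small v = true) (hw : small w = true) (h : evW hev v = evW hev w) :
    same v w = true := by
  simp only [same, Bool.and_eq_true, List.all_eq_true]
  refine ⟨⟨hv', hw⟩, fun b hb => ?_⟩
  have hb' : b < 819 := by
    have : ∀ b ∈ [137, 366, 711, 609], b < 819 := by decide
    exact this b hb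
  have h1 := trace_spec hv' ⟨b, hb'⟩
  rw [h, trace_spec hw ⟨b, hb'⟩] at h1
  rw [show trace v b = trace w b from h1.symm]
  exact Nat.beq_refl _

theorem same_of_hv {v w : List ℕ} (hv' : small v = true) (hw : small w = true) (h : hv v = hv w) :
    same v w = true := same_of_eq hv' hw (hI h)

theorem same_of_prop {v w : List ℕ} (hv' : small v = true) (hw : small w = true) :
    hv v = hv w ↔ same v w = true := ⟨same_of_hv hv' hw, hv_same⟩

/-! ### the centraliser and its map to the alternating group -/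

theorem X_facts : X = Subgroup.centralizer {zT} ∧ Nat.card X = 92897280 ∧
    (psi9 hI).ker = QT.subgroupOf X := by
  have : Finite Cfsg.Spor.Th := finite_Th
  have F := facts
  obtain ⟨e9⟩ := range_psi9 hI
  have hA : Nat.card (alternatingGroup (Fin 9)) = 181440 := by
    rw [nat_card_alternatingGroup, Nat.card_fin]
    decide
  have hker := (psi9 hI).ker.card_mul_index
  rw [Subgroup.index_ker, Nat.card_congr e9.toEquiv, hA] at hker
  have hQX : Nat.card (QT.subgroupOf X) = 512 := by
    rw [Nat.card_congr (Subgroup.subgroupOfEquivOfLe QT_le_X).toEquiv, card_QT hI]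
  have h512 : 512 ∣ Nat.card (psi9 hI).ker := hQX ▸ Subgroup.card_dvd_of_le (QT_le_ker hI)
  have hX : 92897280 ∣ Nat.card X := by
    rw [← hker]
    obtain ⟨m, hm⟩ := h512
    exact ⟨m, by rw [hm]; ring⟩
  have hC := card_Cz_eq F (hX.trans (Subgroup.card_dvd_of_le X_le_centralizer))
  have hXC : X = Subgroup.centralizer {zT} := by
    refine Subgroup.eq_of_le_of_card_ge X_le_centralizer ?_
    rw [hC]
    exact Nat.le_of_dvd Nat.card_pos hX
  have h3 : Nat.card X = 92897280 := by rw [hXC, hC]
  refine ⟨hXC, h3, (Subgroup.eq_of_le_of_card_ge (QT_le_ker hI) ?_).symm⟩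
  rw [h3] at hker
  omega

theorem mem_X_iff {g : Cfsg.Spor.Th} : g ∈ X ↔ g * zT = zT * g := by
  rw [X_facts.1, Subgroup.mem_centralizer_singleton_iff]

/-- the exponents of a letter in the Carmichael generators -/
def exIdx (g : ℕ) : List ℕ := InvolData.exW.foldr (fun p acc => cond (Nat.beq p.1 g) p.2 acc) []

/-- the image of a letter among the nine points -/
noncomputable def piLetter (g : ℕ) : Equiv.Perm (Fin 9) :=
  ((exIdx g).map fun i => tri (7 : Fin 9) 8 (Fin.ofNat 9 i)).prod

theorem exists_pi : ∃ π : X →* Equiv.Perm (Fin 9), π.range = alternatingGroup (Fin 9) ∧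
    (∀ x, π x = 1 ↔ psi9 hI x = 1) ∧ ∀ k ∈ [0, 4, 6, 8, 10, 12, 14], π (xl k) = piLetter k := by
  let y : Fin 7 → Equiv.Perm (Fin 8 → ZMod 2) := fun i => psi9 hI (xw (xCarm i))
  let e : Fin 7 → Fin 9 := fun i => ⟨i, by omega⟩
  let yy : Fin 7 → Equiv.Perm (Fin 8 → ZMod 2) × Equiv.Perm (Fin 9) := fun i => (y i, tri 7 8 (e i))
  have hp : ∀ w, sameAct w [] = true → psi9 hI (xw w) = 1 := fun w hw => by
    rw [psi9_eq hI hw, show xw [] = 1 from rfl, map_one]
  have hcarm : Carm yy := by
    have h := carm_ok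
    simp only [List.all_eq_true, Bool.and_eq_true, Bool.or_eq_true, decide_eq_true_eq] at h
    have ht : (∀ i : Fin 7, (tri (7 : Fin 9) 8 ⟨i, by omega⟩) ^ 3 = 1) ∧
        ∀ i j : Fin 7, i ≠ j → (tri (7 : Fin 9) 8 ⟨i, by omega⟩ * tri (7 : Fin 9) 8 ⟨j, by omega⟩) ^ 2 = 1 := by
      decide +kernel
    refine ⟨fun i => Prod.ext ?_ (ht.1 i), fun i j hij => Prod.ext ?_ (ht.2 i j hij)⟩
    · show y i ^ 3 = 1
      rw [pow_three, ← hp _ (h i (List.mem_finRange _)).1, xw_append, xw_append, map_mul, map_mul]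
    · show (y i * y j) ^ 2 = 1
      rw [pow_two, ← hp _ (((h i (List.mem_finRange _)).2 j (List.mem_finRange _)).resolve_left hij),
        xw_append, xw_append, map_mul, map_mul]
  obtain ⟨hinj, hmap, -⟩ := injOn_of_carm hcarm (MonoidHom.snd _ _) (MonoidHom.id (Equiv.Perm (Fin 9)))
    Function.injective_id (a := (7 : Fin 9)) (b := 8) (by decide) e (by decide) (by decide)
    (fun a b h => Fin.ext (congrArg Fin.val h :)) (by decide) (fun i => rfl)
  set H := Subgroup.closure (Set.range yy)
  let f : H →* Equiv.Perm (Fin 9) := (MonoidHom.snd _ _).comp H.subtype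
  have hf : Function.Injective f := fun a b h => Subtype.ext (hinj a.2 b.2 h)
  have hfr : f.range = alternatingGroup (Fin 9) := by
    rw [MonoidHom.range_comp, H.range_subtype, hmap, Subgroup.map_id]
  let eH : H ≃* alternatingGroup (Fin 9) := (MonoidHom.ofInjective hf).trans (MulEquiv.subgroupCongr hfr)
  have hs : IsSimpleGroup (alternatingGroup (Fin 9)) := alternatingGroup.isSimpleGroup (by simp)
  have : Nontrivial H := eH.toEquiv.nontrivial
  have : IsSimpleGroup H := IsSimpleGroup.isSimpleGroup_of_surjective eH.symm.toMonoidHom eH.symm.surjective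
  let g : H →* Equiv.Perm (Fin 8 → ZMod 2) := (MonoidHom.fst _ _).comp H.subtype
  have hne : g.ker ≠ ⊤ := by
    intro h
    have h1 : g ⟨yy 0, Subgroup.subset_closure ⟨0, rfl⟩⟩ = 1 := MonoidHom.mem_ker.1 (h ▸ Subgroup.mem_top _)
    change psi9 hI (xw (xCarm 0)) = 1 at h1
    refine xCarm_nontrivial.1 ?_
    rw [← act_word hI xCarm_nontrivial.2]
    exact congrArg (fun p : Equiv.Perm (Fin 8 → ZMod 2) => p.symm (vec 8 1)) h1
  have hk : g.ker = ⊥ := (Subgroup.Normal.eq_bot_or_eq_top (MonoidHom.normal_ker g)).resolve_right hne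
  have hginj : Function.Injective g := (MonoidHom.ker_eq_bot_iff g).1 hk
  -- the letters
  have hletter : ∀ k ∈ [0, 4, 6, 8, 10, 12, 14], ∃ h : H, g h = psi9 hI (xl k) ∧ f h = piLetter k := by
    intro k hk
    obtain ⟨he, hlt⟩ := Bool.and_eq_true_iff.1 (List.all_eq_true.1 ex_ok k hk)
    have e1 : psi9 hI (xl k) = psi9 hI (xw (exWord k)) := by
      rw [← psi9_eq hI he]
      simp [xw]
    rw [e1, exWord, piLetter, exIdx]
    generalize InvolData.exW.foldr (fun p acc => cond (Nat.beq p.1 k) p.2 acc) [] = l at hlt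
    induction l with
    | nil => exact ⟨1, by rw [map_one]; simp [xw], by rw [map_one]; rfl⟩
    | cons a l ih =>
      simp only [List.all_cons, Bool.and_eq_true, Nat.blt_eq] at hlt
      obtain ⟨h, h1, h2⟩ := ih hlt.2
      refine ⟨⟨yy ⟨a, hlt.1⟩, Subgroup.subset_closure ⟨_, rfl⟩⟩ * h, ?_, ?_⟩
      · rw [map_mul, h1, List.flatMap_cons, xw_append, map_mul]
        rfl
      · rw [map_mul, h2, List.map_cons, List.prod_cons]
        refine congrArg (· * _) ?_
        show tri (7 : Fin 9) 8 (e ⟨a, hlt.1⟩) = _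
        congr 1
        exact Fin.ext (Nat.mod_eq_of_lt (by omega)).symm
  have hsurj : ∀ x : X, ∃ h : H, g h = psi9 hI x := by
    rintro ⟨x, hx⟩
    induction hx using Subgroup.closure_induction with
    | mem u hu =>
      obtain ⟨k, hk, rfl⟩ := hu
      obtain ⟨h, h1, -⟩ := hletter k hk
      refine ⟨h, h1.trans (congrArg (psi9 hI) (Subtype.ext ?_))⟩
      rw [xl, dif_pos (by simp only [Set.mem_ofPred_eq, xLetters, List.mem_cons, List.not_mem_nil, or_false] at hk ⊢; omega)]
    | one => exact ⟨1, by rw [map_one]; exact (map_one (psi9 hI)).symm⟩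
    | mul u v hu hv ihu ihv =>
      obtain ⟨h, h1⟩ := ihu
      obtain ⟨h', h2⟩ := ihv
      exact ⟨h * h', by rw [map_mul, h1, h2, ← map_mul]; rfl⟩
    | inv u hu ih =>
      obtain ⟨h, h1⟩ := ih
      exact ⟨h⁻¹, by rw [map_inv, h1, ← map_inv]; rfl⟩
  choose s hs' using hsurj
  let σ : X →* H :=
    { toFun := s
      map_one' := hginj (by rw [hs', map_one, map_one])
      map_mul' := fun x y => hginj (by rw [hs', map_mul g, hs', hs', map_mul]) }
  refine ⟨f.comp σ, ?_, fun x => ?_, fun k hk => ?_⟩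
  · refine le_antisymm ?_ ?_
    · rintro _ ⟨x, rfl⟩
      rw [← hfr]
      exact ⟨_, rfl⟩
    · rw [← hfr]
      rintro _ ⟨h, rfl⟩
      have hgen : ∀ h : H, ∃ x : X, σ x = h := by
        rintro ⟨h, hh⟩
        induction hh using Subgroup.closure_induction with
        | mem u hu =>
          obtain ⟨i, rfl⟩ := hu
          exact ⟨xw (xCarm i), hginj (by rw [show σ (xw (xCarm i)) = s (xw (xCarm i)) from rfl, hs']; rfl)⟩
        | one => exact ⟨1, by rw [map_one]; rfl⟩
        | mul u v hu hv ihu ihv =>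
          obtain ⟨x, hx⟩ := ihu
          obtain ⟨y, hy⟩ := ihv
          exact ⟨x * y, by rw [map_mul, hx, hy]; rfl⟩
        | inv u hu ih =>
          obtain ⟨x, hx⟩ := ih
          exact ⟨x⁻¹, by rw [map_inv, hx]; rfl⟩
      obtain ⟨x, hx⟩ := hgen h
      exact ⟨x, congrArg f hx⟩
  · constructor
    · intro h
      rw [← hs' x, show s x = 1 from hf (h.trans (map_one f).symm), map_one]
    · intro h
      show f (s x) = 1
      rw [show s x = 1 from hginj (by rw [hs', h, map_one]), map_one]
  · obtain ⟨h, h1, h2⟩ := hletter k hk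
    show f (s (xl k)) = _
    rw [show s (xl k) = h from hginj (by rw [hs', h1]), h2]

/-- the map of the centraliser to the alternating group of degree nine -/
noncomputable def pi : X →* Equiv.Perm (Fin 9) := exists_pi.choose

theorem range_pi : pi.range = alternatingGroup (Fin 9) := exists_pi.choose_spec.1

theorem pi_eq_one {x : X} : pi x = 1 ↔ (x : Cfsg.Spor.Th) ∈ QT := by
  rw [show pi x = 1 ↔ psi9 hI x = 1 from exists_pi.choose_spec.2.1 x, ← MonoidHom.mem_ker, X_facts.2.2]
  rfl

theorem psi9_eq_of_pi {x y : X} (h : pi x = pi y) : psi9 hI x = psi9 hI y := by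
  rw [← mul_inv_eq_one, ← map_inv, ← map_mul]
  exact (exists_pi.choose_spec.2.1 _).1 (by show pi (x * y⁻¹) = 1; rw [map_mul, map_inv, h, mul_inv_cancel])

theorem pi_letter {k : ℕ} (hk : k ∈ [0, 4, 6, 8, 10, 12, 14]) : pi (xl k) = piLetter k :=
  exists_pi.choose_spec.2.2 k hk

/-! ### words for the extraspecial subgroup -/

/-- the word of a mask -/
noncomputable def qm (m : ℕ) : List ℕ := wordTo m 8

theorem small_qm (m : ℕ) : small (qm m) = true := small_wordTo m 8

theorem qm_shift : ((List.range 256).all fun m => same (0 :: qm m) (qm (m + 256))) = true := by decide +kernel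

/-- the mask of a vector -/
def maskOf (v : Fin 8 → ZMod 2) : ℕ := ∑ i : Fin 8, (v i).val * 2 ^ (i : ℕ)

theorem maskOf_spec : ∀ v : Fin 8 → ZMod 2, maskOf v < 256 ∧ vec 8 (maskOf v) = v := by decide +kernel

theorem exists_qm {q : HT} (hq : q ∈ Q0) : ∃ m < 512, q = evW hev (qm m) := by
  obtain ⟨hlt, hv⟩ := maskOf_spec (Multiplicative.toAdd (pat ⟨q, hq⟩))
  set m := maskOf (Multiplicative.toAdd (pat ⟨q, hq⟩))
  have hp : pat ⟨q, hq⟩ = pat ⟨evW hev (wordTo m 8), wordTo_mem m 8 le_rfl⟩ := by
    rw [pat_wordTo m 8 le_rfl, hv, ofAdd_toAdd]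
  rcases (card_Q0.2 (⟨q, hq⟩ * (⟨evW hev (wordTo m 8), wordTo_mem m 8 le_rfl⟩ : Q0)⁻¹)).1
      (by rw [map_mul, map_inv, hp, mul_inv_cancel]) with h | h
  · exact ⟨m, hlt.trans (by norm_num), mul_inv_eq_one.1 h⟩
  · refine ⟨m + 256, by omega, ?_⟩
    have h2 := same_spec (List.all_eq_true.1 qm_shift m (List.mem_range.2 hlt))
    rw [evW_cons] at h2
    rw [← h2]
    exact mul_inv_eq_iff_eq_mul.1 h

theorem exists_qm_QT {g : Cfsg.Spor.Th} (hg : g ∈ QT) : ∃ m < 512, g = hv (qm m) := by
  obtain ⟨q, hq, rfl⟩ := hg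
  obtain ⟨m, hm, rfl⟩ := exists_qm hq
  exact ⟨m, hm, rfl⟩

theorem qm_mem (m : ℕ) : hv (qm m) ∈ QT := ⟨_, wordTo_mem m 8 le_rfl, rfl⟩

/-- the conjugate of the element of a mask under `u` -/
noncomputable def uWord (m : ℕ) : ℕ → List ℕ
  | 0 => cond (bitAt m 8) [0] []
  | k + 1 => uWord m k ++ cond (bitAt m k) (wordTo ((tabOf 14).getD k 0) 8) []

theorem U_conj_qm (m : ℕ) : U⁻¹ * hv (qm m) * U = hv (uWord m 8) := by
  suffices ∀ k ≤ 8, U⁻¹ * hv (wordTo m k) * U = hv (uWord m k) from this 8 le_rfl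
  intro k
  induction k with
  | zero =>
    intro _
    rw [wordTo, uWord]
    cases bitAt m 8
    · simp [hv_nil]
    · have h := lGens_comm 0
      rw [show lGens.getD 0 [] = [0] from rfl, show lImgs.getD 0 [] = [0] from rfl] at h
      rw [cond_true, mul_assoc, h, inv_mul_cancel_left]
  | succ k ih =>
    intro hk
    rw [wordTo, uWord, hv_append, hv_append, ← ih (Nat.le_of_succ_le hk)]
    cases bitAt m k
    · simp [hv_nil]
    · simp only [cond_true]
      rw [show hv (wordTo ((tabOf 14).getD k 0) 8) = U⁻¹ * hv (qw k) * U from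
        (conj_gen (g := 14) (by decide) ⟨k, hk⟩).symm]
      group

end CfsgLib.Th.Out
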