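import Cfsg.Agent.Lib.Th.OutBase

/-!
Outer automorphisms of the presented Thompson group, second part: finite checks in the triality subgroup and the
centraliser in `C(a)` of the generator of order seven.
-/
set_option autoImplicit false
set_option maxRecDepth 8000
set_option Elab.async false

namespace CfsgLib.Th.Out

open CfsgLib.Presented CfsgLib.Th CfsgLib.Th.Invol CfsgLib.SymPresent
open scoped Classical

local notation "hI" => CfsgLib.Th.iota_injective

theorem small_append {v w : List ℕ} (hv' : small v = true) (hw : small w = true) : small (v ++ w) = true := by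
  rw [small, List.all_append, Bool.and_eq_true]
  exact ⟨hv', hw⟩

theorem small_rep (x i : ℕ) (hx : x < 16) : small (List.replicate i x) = true := by
  simp [small, List.all_replicate, hx]

theorem small_single {x : ℕ} (hx : x < 16) : small [x] = true := by simp [small, hx]

theorem small_uWord (m : ℕ) : ∀ k, small (uWord m k) = true
  | 0 => by rw [uWord]; cases bitAt m 8 <;> rfl
  | k + 1 => by
    rw [uWord]
    refine small_append (small_uWord m k) ?_
    cases bitAt m k
    · rfl
    · exact small_wordTo _ 8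

theorem hv_replicate (x : ℕ) : ∀ i, hv (List.replicate i x) = hv [x] ^ i
  | 0 => by simp [hv_nil]
  | i + 1 => by
    rw [List.replicate_succ, show x :: List.replicate i x = [x] ++ List.replicate i x from rfl, hv_append,
      hv_replicate x i, pow_succ']

theorem ev_eq_hv {x : ℕ} (hx : x < 14) : ev x = hv [x] := by
  rw [hv_eq (by simp [noU, hx])]
  simp

/-- a power of the letter of order seven times an element of the extraspecial subgroup -/
noncomputable def sWord (i m : ℕ) : List ℕ := List.replicate i 10 ++ qm m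

theorem small_sWord (i m : ℕ) : small (sWord i m) = true := small_append (small_rep 10 i (by decide)) (small_qm m)

/-- the masks centralised by `s` -/
def sList : List ℕ := [0, 1, 2, 3, 256, 257, 258, 259]

theorem sList_ok : ((List.range 512).all fun m => !(same ([10] ++ qm m) (qm m ++ [10])) || sList.contains m) = true := by
  decide +kernel

theorem cList_ok : (sList.all fun m => !(same ([12] ++ qm m) (qm m ++ [12]) && same (qm m ++ qm m) [] &&
    !(same (qm m) []) && !(same (qm m) [0])) || [1, 2, 257, 258].contains m) = true := by decide +kernel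

/-- a permutation commuting with the image of `s` -/
theorem comm_cycle' {σ p : Equiv.Perm (Fin 9)} (h : p * σ = σ * p)
    (horb : ∀ q : Fin 9, σ q ≠ q → ∃ i : Fin 7, (σ ^ (i : ℕ)) 0 = q)
    (hfix : ∀ q : Fin 9, σ q = q → q = 5 ∨ q = 6) (h0 : σ 0 ≠ 0) (h5 : σ 5 = 5 ∧ σ 6 = 6) :
    ∃ i : Fin 7, p = σ ^ (i : ℕ) ∨ p = σ ^ (i : ℕ) * Equiv.swap 5 6 := by
  have happ : ∀ q, p (σ q) = σ (p q) := fun q => DFunLike.congr_fun h q
  have hp0 : σ (p 0) ≠ p 0 := by
    intro e
    rw [← happ] at e
    have : σ 0 = (0 : Fin 9) := p.injective e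
    exact h0 this
  obtain ⟨i, hi⟩ := horb _ hp0
  refine ⟨i, ?_⟩
  set r := (σ ^ (i : ℕ))⁻¹ * p with hr
  have hp : p = σ ^ (i : ℕ) * r := by rw [hr, mul_inv_cancel_left]
  have hrc : Commute r (σ) := (((Commute.refl (σ)).pow_left i).inv_left).mul_left h
  have hr0 : r 0 = 0 := by rw [hr, Equiv.Perm.mul_apply, Equiv.Perm.inv_eq_iff_eq]; exact hi.symm
  have hmoved : ∀ q, σ q ≠ q → r q = q := by
    intro q hq
    obtain ⟨k, rfl⟩ := horb q hq
    have := DFunLike.congr_fun (hrc.pow_right (k : ℕ)).eq 0
    rw [Equiv.Perm.mul_apply] at this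
    exact this.trans ((Equiv.Perm.mul_apply _ _ _).trans (congrArg _ hr0))
  have hstay : ∀ q : Fin 9, σ q = q → r q = 5 ∨ r q = 6 := by
    intro q hq
    refine hfix _ ?_
    have := DFunLike.congr_fun hrc.eq q
    rw [Equiv.Perm.mul_apply, Equiv.Perm.mul_apply, hq] at this
    exact this.symm
  have hdec : ∀ q : Fin 9, σ q ≠ q ∨ q = 5 ∨ q = 6 := fun q => (em (σ q = q)).symm.imp_right (hfix q)
  rcases hstay 5 h5.1 with e5 | e5
  · left
    have e6 : r 6 = 6 := (hstay 6 h5.2).resolve_left fun e => by
      have := r.injective (e.trans e5.symm)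
      exact absurd this (by decide)
    rw [hp, show r = 1 from Equiv.ext fun q => by
      rcases hdec q with hq | rfl | rfl
      exacts [hmoved q hq, e5, e6], mul_one]
  · right
    have e6 : r 6 = 5 := (hstay 6 h5.2).resolve_right fun e => by
      have := r.injective (e.trans e5.symm)
      exact absurd this (by decide)
    rw [hp, show r = Equiv.swap 5 6 from Equiv.ext fun q => by
      rcases hdec q with hq | rfl | rfl
      · rw [hmoved q hq, Equiv.swap_apply_of_ne_of_ne (fun e => hq (by rw [e]; exact h5.1)) (fun e => hq (by rw [e]; exact h5.2))]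
      · rw [e5, Equiv.swap_apply_left]
      · rw [e6, Equiv.swap_apply_right]]

theorem piLetter_ten : (∀ q : Fin 9, piLetter 10 q ≠ q → ∃ i : Fin 7, (piLetter 10 ^ (i : ℕ)) 0 = q) ∧
    (∀ q : Fin 9, piLetter 10 q = q → q = 5 ∨ q = 6) ∧ piLetter 10 0 ≠ 0 ∧
    (piLetter 10 5 = 5 ∧ piLetter 10 6 = 6) := by decide +kernel

theorem comm_cycle {p : Equiv.Perm (Fin 9)} (h : p * piLetter 10 = piLetter 10 * p) :
    ∃ i : Fin 7, p = piLetter 10 ^ (i : ℕ) ∨ p = piLetter 10 ^ (i : ℕ) * Equiv.swap 5 6 :=
  comm_cycle' h piLetter_ten.1 piLetter_ten.2.1 piLetter_ten.2.2.1 piLetter_ten.2.2.2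

/-- a letter as an element of the centraliser -/
theorem xl_val {k : ℕ} (hk : k ∈ [0, 4, 6, 8, 10, 12, 14]) : ((xl k : X) : Cfsg.Spor.Th) = ev k := by
  rw [xl, dif_pos (by simp only [xLetters, List.mem_cons, List.not_mem_nil, or_false] at hk ⊢; omega)]

/-- elements with equal images differ by the extraspecial subgroup -/
theorem exists_mask {x y : X} (h : pi x = pi y) :
    ∃ m < 512, (x : Cfsg.Spor.Th) = (y : Cfsg.Spor.Th) * hv (qm m) := by
  have h1 : pi (y⁻¹ * x) = 1 := by rw [map_mul, map_inv, h, inv_mul_cancel]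
  obtain ⟨m, hm, e⟩ := exists_qm_QT (pi_eq_one.1 h1)
  refine ⟨m, hm, ?_⟩
  rw [← e]
  simp

/-- The centraliser of `s` in the centraliser of `a`. -/
theorem cent_s {g : Cfsg.Spor.Th} (hX : g ∈ X) (hs : g * hv [10] = hv [10] * g) :
    ∃ i < 7, ∃ m ∈ sList, g = hv (sWord i m) := by
  set x : X := ⟨g, hX⟩
  have hxs : x * xl 10 = xl 10 * x := Subtype.ext (by
    show g * ((xl 10 : X) : Cfsg.Spor.Th) = ((xl 10 : X) : Cfsg.Spor.Th) * g
    rw [xl_val (by decide), ev_eq_hv (by decide)]
    exact hs)
  have hc : pi x * piLetter 10 = piLetter 10 * pi x := by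
    rw [← pi_letter (by decide), ← map_mul, ← map_mul, hxs]
  obtain ⟨i, hi⟩ := comm_cycle hc
  have he : pi x = pi (xl 10 ^ (i : ℕ)) := by
    rw [map_pow, pi_letter (by decide)]
    refine hi.resolve_right fun e => ?_
    have hmem : pi x ∈ alternatingGroup (Fin 9) := range_pi ▸ ⟨x, rfl⟩
    rw [e, Equiv.Perm.mem_alternatingGroup] at hmem
    have : ∀ i : Fin 7, Equiv.Perm.sign (piLetter 10 ^ (i : ℕ) * Equiv.swap (5 : Fin 9) 6) ≠ 1 := by decide +kernel
    exact this i hmem
  obtain ⟨m, hm, e⟩ := exists_mask he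
  rw [SubgroupClass.coe_pow, xl_val (by decide), ev_eq_hv (by decide), ← hv_replicate, ← hv_append] at e
  change g = hv (sWord i m) at e
  refine ⟨i, i.2, m, ?_, e⟩
  have h1 : hv ([10] ++ qm m) = hv (qm m ++ [10]) := by
    rw [hv_append, hv_append]
    rw [e, sWord, hv_append, hv_replicate] at hs
    have hcc := ((Commute.refl (hv [10])).pow_left (i : ℕ)).eq
    rw [mul_assoc, ← mul_assoc (hv [10]), ← hcc, mul_assoc] at hs
    exact (mul_left_cancel hs).symm
  have h2 := List.all_eq_true.1 sList_ok m (List.mem_range.2 hm)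
  rw [same_of_hv (small_append (small_single (by decide)) (small_qm m))
    (small_append (small_qm m) (small_single (by decide))) h1] at h2
  simpa using h2

end CfsgLib.Th.Out
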