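import Cfsg.Agent.Lib.Th.OutNorm

/-!
Outer automorphisms of the presented Thompson group, fourth part: after fixing `a`, `s`, `t`, `c` an inner
automorphism makes an automorphism fix `d`, `e` and `u`.
-/
set_option autoImplicit false
set_option maxRecDepth 8000
set_option Elab.async false

namespace CfsgLib.Th.Out

open CfsgLib.Presented CfsgLib.Th CfsgLib.Th.Invol CfsgLib.SymPresent
open scoped Classical

local notation "hI" => CfsgLib.Th.iota_injective
local notation "G" => Cfsg.Spor.Th

/-- the word of `d` times a mask -/
noncomputable def dW (m : ℕ) : List ℕ := [6] ++ qm m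

/-- the word of `e` times a mask -/
noncomputable def eW (m : ℕ) : List ℕ := [8] ++ qm m

theorem small_dW (m : ℕ) : small (dW m) = true := small_append (small_single (by decide)) (small_qm m)

theorem small_eW (m : ℕ) : small (eW m) = true := small_append (small_single (by decide)) (small_qm m)

theorem dList_ok : ((List.range 512).all fun m => !(same (dW m ++ dW m) [] && same ([12] ++ dW m) (dW m ++ [12]) &&
    same (dW m ++ [10] ++ dW m) [11] &&
    same ([0] ++ dW m ++ [5] ++ dW m ++ [5] ++ dW m ++ [5] ++ dW m ++ [5]) []) ||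
      [0, 3, 256, 259].contains m) = true := by decide +kernel

theorem eList_ok : ((List.range 512).all fun m => !(same (eW m ++ eW m) [] && same ([12] ++ eW m) (eW m ++ [12]) &&
    same ([4] ++ eW m) (eW m ++ [4]) && same (eW m ++ [11] ++ eW m ++ [11, 11] ++ eW m ++ [10, 10, 10]) []) ||
      [0, 261].contains m) = true := by decide +kernel

theorem uList_ok : ((List.range 512).all fun m => !(same (qm m ++ [4]) ([4] ++ qm m) &&
    same ([13] ++ qm m ++ [12]) (qm m) && same (uWord m 8 ++ qm m) []) || [0, 1, 256, 257].contains m) = true := by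
  decide +kernel

theorem deu_ok : ([0, 3, 256, 259].all fun md => [0, 261].all fun me => [0, 1, 256, 257].all fun m =>
    !(same (dW md ++ eW me ++ dW md ++ eW me ++ dW md ++ eW me) [] &&
      same ([8] ++ uWord me 8 ++ qm m) (qm m ++ [8] ++ qm me)) || (Nat.beq me 0 && [0, 259].contains md)) = true := by
  decide +kernel

theorem hv_fix {φ : MulAut G} {w : List ℕ} (hw : ∀ x ∈ w, φ (hv [x]) = hv [x]) : φ (hv w) = hv w := by
  induction w with
  | nil => rw [hv_nil, map_one]
  | cons x w ih =>
    rw [show x :: w = [x] ++ w from rfl, hv_append, map_mul, hw x List.mem_cons_self,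
      ih fun y hy => hw y (List.mem_cons_of_mem _ hy)]

/-- What is assumed after the first steps. -/
structure FixFour (φ : MulAut G) : Prop where
  fa : φ zT = zT
  fs : φ (ev 10) = ev 10
  ft : φ (ev 12) = ev 12
  fc : φ (ev 4) = ev 4

variable {φ : MulAut G} (h : FixFour φ)

include h

theorem fix_letter : ∀ x ∈ [0, 1, 4, 5, 10, 11, 12, 13], φ (hv [x]) = hv [x] := by
  have base : ∀ x ∈ [0, 4, 10, 12], φ (hv [x]) = hv [x] := by
    intro x hx
    simp only [List.mem_cons, List.not_mem_nil, or_false] at hx
    rcases hx with rfl | rfl | rfl | rfl <;> rw [← ev_eq_hv (by decide)]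
    exacts [h.fa, h.fc, h.fs, h.ft]
  intro x hx
  simp only [List.mem_cons, List.not_mem_nil, or_false] at hx
  have hinv : ∀ y, y < 14 → φ (hv [y]) = hv [y] → φ (hv [alphabet.invl y]) = hv [alphabet.invl y] := by
    intro y hy e
    rw [inv_hv_ev hy, map_inv, e]
  rcases hx with rfl | rfl | rfl | rfl | rfl | rfl | rfl | rfl
  exacts [base 0 (by decide), hinv 0 (by decide) (base 0 (by decide)), base 4 (by decide),
    hinv 4 (by decide) (base 4 (by decide)), base 10 (by decide), hinv 10 (by decide) (base 10 (by decide)),
    base 12 (by decide), hinv 12 (by decide) (base 12 (by decide))]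

theorem exists_image {k : ℕ} (hk : k ∈ [0, 4, 6, 8, 10, 12, 14]) : ∃ m < 512, φ (ev k) = ev k * hv (qm m) := by
  obtain ⟨hp, -⟩ := sigma_one h.fa h.fs h.ft
  obtain ⟨m, hm, e⟩ := exists_mask (x := alphaX h.fa (xl k)) (y := xl k) (hp _)
  refine ⟨m, hm, ?_⟩
  have e' : φ ((xl k : X) : G) = ((xl k : X) : G) * hv (qm m) := e
  rwa [xl_val hk] at e'

theorem image_d : ∃ m ∈ [0, 3, 256, 259], φ (hv [6]) = hv (dW m) := by
  obtain ⟨m, hm, e⟩ := exists_image h (k := 6) (by decide)
  rw [ev_eq_hv (by decide), ← hv_append] at e
  refine ⟨m, ?_, e⟩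
  have f := fix_letter h
  have s1 : same (dW m ++ dW m) [] = true := same_of_hv (small_append (small_dW m) (small_dW m)) rfl (by
    rw [hv_append, dW, ← e, ← map_mul, ← hv_append, hv_same (show same ([6] ++ [6]) [] = true by decide +kernel),
      hv_nil, map_one])
  have s2 : same ([12] ++ dW m) (dW m ++ [12]) = true := same_of_hv
    (small_append (small_single (by decide)) (small_dW m))
    (small_append (small_dW m) (small_single (by decide))) (by
      rw [hv_append, hv_append, dW, ← e, ← f 12 (by decide), ← map_mul, ← map_mul, ← hv_append, ← hv_append,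
        hv_same (show same ([12] ++ [6]) ([6] ++ [12]) = true by decide +kernel)])
  have s3 : same (dW m ++ [10] ++ dW m) [11] = true := same_of_hv
    (small_append (small_append (small_dW m) (small_single (by decide))) (small_dW m)) (small_single (by decide)) (by
      rw [hv_append, hv_append, dW, ← e, ← f 10 (by decide), ← f 11 (by decide), ← map_mul, ← map_mul, ← hv_append,
        ← hv_append, hv_same (show same ([6] ++ [10] ++ [6]) [11] = true by decide +kernel)])
  have s4 : same ([0] ++ dW m ++ [5] ++ dW m ++ [5] ++ dW m ++ [5] ++ dW m ++ [5]) [] = true := same_of_hv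
    (small_append (small_append (small_append (small_append (small_append (small_append (small_append
      (small_append (small_single (by decide)) (small_dW m)) (small_single (by decide))) (small_dW m))
      (small_single (by decide))) (small_dW m)) (small_single (by decide))) (small_dW m))
      (small_single (by decide))) rfl (by
      simp only [hv_append]
      rw [dW, ← e, ← f 0 (by decide), ← f 5 (by decide)]
      simp only [← map_mul, ← hv_append]
      rw [hv_same (show same ([0] ++ [6] ++ [5] ++ [6] ++ [5] ++ [6] ++ [5] ++ [6] ++ [5]) [] = true by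
        decide +kernel), hv_nil, map_one])
  have hh := List.all_eq_true.1 dList_ok m (List.mem_range.2 hm)
  rw [s1, s2, s3, s4] at hh
  simpa using hh

theorem image_e : ∃ m ∈ [0, 261], φ (hv [8]) = hv (eW m) := by
  obtain ⟨m, hm, e⟩ := exists_image h (k := 8) (by decide)
  rw [ev_eq_hv (by decide), ← hv_append] at e
  refine ⟨m, ?_, e⟩
  have f := fix_letter h
  have s1 : same (eW m ++ eW m) [] = true := same_of_hv (small_append (small_eW m) (small_eW m)) rfl (by
    rw [hv_append, eW, ← e, ← map_mul, ← hv_append, hv_same (show same ([8] ++ [8]) [] = true by decide +kernel),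
      hv_nil, map_one])
  have s2 : ∀ y, y = 12 ∨ y = 4 → same ([y] ++ eW m) (eW m ++ [y]) = true := by
    rintro y (rfl | rfl)
    · exact same_of_hv (small_append (small_single (by decide)) (small_eW m))
        (small_append (small_eW m) (small_single (by decide))) (by
        rw [hv_append, hv_append, eW, ← e, ← f 12 (by decide), ← map_mul, ← map_mul, ← hv_append, ← hv_append,
          hv_same (show same ([12] ++ [8]) ([8] ++ [12]) = true by decide +kernel)])
    · exact same_of_hv (small_append (small_single (by decide)) (small_eW m))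
        (small_append (small_eW m) (small_single (by decide))) (by
        rw [hv_append, hv_append, eW, ← e, ← f 4 (by decide), ← map_mul, ← map_mul, ← hv_append, ← hv_append,
          hv_same (show same ([4] ++ [8]) ([8] ++ [4]) = true by decide +kernel)])
  have hf2 : φ (hv [11, 11]) = hv [11, 11] := hv_fix fun x hx => by
    simp only [List.mem_cons, List.not_mem_nil, or_false, or_self] at hx
    exact hx ▸ f 11 (by decide)
  have hf3 : φ (hv [10, 10, 10]) = hv [10, 10, 10] := hv_fix fun x hx => by
    simp only [List.mem_cons, List.not_mem_nil, or_false, or_self] at hx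
    exact hx ▸ f 10 (by decide)
  have s4 : same (eW m ++ [11] ++ eW m ++ [11, 11] ++ eW m ++ [10, 10, 10]) [] = true := same_of_hv
    (small_append (small_append (small_append (small_append (small_append (small_eW m) (small_single (by decide)))
      (small_eW m)) rfl) (small_eW m)) rfl) rfl (by
      simp only [hv_append]
      rw [eW, ← e, ← f 11 (by decide), ← hf2, ← hf3]
      simp only [← map_mul, ← hv_append]
      rw [hv_same (show same ([8] ++ [11] ++ [8] ++ [11, 11] ++ [8] ++ [10, 10, 10]) [] = true by decide +kernel),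
        hv_nil, map_one])
  have hh := List.all_eq_true.1 eList_ok m (List.mem_range.2 hm)
  rw [s1, s2 12 (Or.inl rfl), s2 4 (Or.inr rfl), s4] at hh
  simpa using hh

theorem image_u {me : ℕ} (he : φ (hv [8]) = hv (eW me)) : ∃ m ∈ [0, 1, 256, 257], φ U = U * hv (qm m) ∧
    same ([8] ++ uWord me 8 ++ qm m) (qm m ++ [8] ++ qm me) = true := by
  obtain ⟨m, hm, e⟩ := exists_image h (k := 14) (by decide)
  change φ U = U * hv (qm m) at e
  have f := fix_letter h
  have hc4 : hv [4] * U = U * hv [4] := by
    have h1 := lGens_comm 1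
    rwa [show lGens.getD 1 [] = [4] from rfl, show lImgs.getD 1 [] = [4] from rfl] at h1
  have hc8 : hv [8] * U = U * hv [8] := by
    have h1 := lGens_comm 2
    rwa [show lGens.getD 2 [] = [8] from rfl, show lImgs.getD 2 [] = [8] from rfl] at h1
  have s1 : same (qm m ++ [4]) ([4] ++ qm m) = true := same_of_hv
    (small_append (small_qm m) (small_single (by decide))) (small_append (small_single (by decide)) (small_qm m)) (by
      have h1 := congrArg φ hc4
      rw [map_mul, map_mul, f 4 (by decide), e, ← mul_assoc, hc4, mul_assoc, mul_assoc] at h1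
      rw [hv_append, hv_append]
      exact (mul_left_cancel h1).symm)
  have s2 : same ([13] ++ qm m ++ [12]) (qm m) = true := same_of_hv
    (small_append (small_append (small_single (by decide)) (small_qm m)) (small_single (by decide))) (small_qm m) (by
      have h1 := congrArg φ comm_t
      rw [map_mul, map_mul, f 12 (by decide), f 13 (by decide), e, ← mul_assoc, comm_t, mul_assoc, mul_assoc] at h1
      have h2 := mul_left_cancel h1
      rw [hv_append, hv_append, h2, mul_assoc, ← hv_append [13] [12],
        hv_same (show same ([13] ++ [12]) [] = true by decide +kernel), hv_nil, mul_one])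
  have s3 : same (uWord m 8 ++ qm m) [] = true := same_of_hv (small_append (small_uWord m 8) (small_qm m)) rfl (by
    have h1 := congrArg φ U_sq
    rw [map_mul, e, hv_fix (w := [0, 4]) (fun x hx => by
      simp only [List.mem_cons, List.not_mem_nil, or_false] at hx
      rcases hx with rfl | rfl
      exacts [f 0 (by decide), f 4 (by decide)]), ← U_sq] at h1
    rw [hv_append, ← U_conj_qm, hv_nil]
    calc U⁻¹ * hv (qm m) * U * hv (qm m) = (U * U)⁻¹ * (U * hv (qm m) * (U * hv (qm m))) := by group
      _ = 1 := by rw [h1, inv_mul_cancel])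
  have s4 : same ([8] ++ uWord me 8 ++ qm m) (qm m ++ [8] ++ qm me) = true := same_of_hv
    (small_append (small_append (small_single (by decide)) (small_uWord me 8)) (small_qm m))
    (small_append (small_append (small_qm m) (small_single (by decide))) (small_qm me)) (by
      have h1 := congrArg φ hc8
      rw [map_mul, map_mul, he, e, eW, hv_append] at h1
      simp only [hv_append]
      refine mul_left_cancel (a := U) ?_
      calc U * (hv [8] * hv (uWord me 8) * hv (qm m)) = U * hv [8] * U⁻¹ * hv (qm me) * (U * hv (qm m)) := by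
            rw [← U_conj_qm]; group
        _ = hv [8] * hv (qm me) * (U * hv (qm m)) := by rw [← hc8, mul_inv_cancel_right]
        _ = U * hv (qm m) * (hv [8] * hv (qm me)) := h1
        _ = U * (hv (qm m) * hv [8] * hv (qm me)) := by group)
  have hh := List.all_eq_true.1 uList_ok m (List.mem_range.2 hm)
  rw [s1, s2, s3] at hh
  exact ⟨m, by simpa using hh, e, s4⟩

theorem deu_cases : φ (hv [8]) = hv [8] ∧ ∃ md ∈ [0, 259], φ (hv [6]) = hv (dW md) ∧
    ∃ m ∈ [0, 1, 256, 257], φ U = U * hv (qm m) := by
  obtain ⟨md, hmd, ed⟩ := image_d h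
  obtain ⟨me, hme, ee⟩ := image_e h
  obtain ⟨m, hm, eu, hs⟩ := image_u h ee
  have h3 : same (dW md ++ eW me ++ dW md ++ eW me ++ dW md ++ eW me) [] = true := same_of_hv
    (small_append (small_append (small_append (small_append (small_append (small_dW md) (small_eW me)) (small_dW md))
      (small_eW me)) (small_dW md)) (small_eW me)) rfl (by
      simp only [hv_append]
      rw [← ed, ← ee]
      simp only [← map_mul, ← hv_append]
      rw [hv_same (show same ([6] ++ [8] ++ [6] ++ [8] ++ [6] ++ [8]) [] = true by decide +kernel), hv_nil, map_one])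
  have hh := List.all_eq_true.1 (List.all_eq_true.1 (List.all_eq_true.1 deu_ok md hmd) me hme) m hm
  rw [h3, hs] at hh
  simp only [Bool.and_self, Bool.not_true, Bool.false_or, Bool.and_eq_true, List.contains_iff_mem] at hh
  obtain ⟨h1, h2⟩ := hh
  obtain rfl := Nat.eq_of_beq_eq_true h1
  refine ⟨?_, md, h2, ed, m, hm, eu⟩
  rw [ee]
  exact hv_same (by decide +kernel)

/-- With `d` fixed, `u` is fixed. -/
theorem fix_u {m : ℕ} (hm : m ∈ [0, 1, 256, 257]) (eu : φ U = U * hv (qm m)) : φ U = U := by
  have f := fix_letter h
  rcases eq_or_ne m 0 with rfl | hm0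
  · rw [eu, show hv (qm 0) = 1 by rw [← hv_nil]; exact hv_same (by decide +kernel), mul_one]
  exfalso
  have hchk : ∀ m ∈ [1, 256, 257], same (qm m ++ [10]) ([10] ++ qm m) = true ∧ same (uWord m 8) (qm m) = true ∧
      same (qm m ++ qm m ++ qm m) [] = false := by decide +kernel
  have hm' : m ∈ [1, 256, 257] := by
    simp only [List.mem_cons, List.not_mem_nil, or_false] at hm ⊢
    omega
  obtain ⟨c1, c2, c3⟩ := hchk m hm'
  set q := hv (qm m) with hq
  have k1 : Commute q (hv [10]) := by
    have := hv_same c1
    rw [hv_append, hv_append] at this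
    exact this
  have k2 : Commute q U := by
    have e := U_conj_qm m
    rw [hv_same c2, mul_assoc, inv_mul_eq_iff_eq_mul] at e
    exact e
  have hrel : (U * hv [10]) ^ 3 = hv [0, 4] := by
    have h0 := rels_hold [0, 4, 11, 15, 11, 15, 11, 15] (by decide +kernel)
    simp only [evW_cons, evW_nil, mul_one, ev15, ev_eq_hv (show 0 < 14 by decide), ev_eq_hv (show 4 < 14 by decide),
      ev_eq_hv (show 11 < 14 by decide)] at h0
    rw [show hv [11] = (hv [10])⁻¹ from inv_hv_ev (x := 10) (by decide)] at h0
    rw [show [0, 4] = [0] ++ [4] from rfl, hv_append]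
    symm
    calc hv [0] * hv [4]
        = hv [0] * (hv [4] * ((hv [10])⁻¹ * (U⁻¹ * ((hv [10])⁻¹ * (U⁻¹ * ((hv [10])⁻¹ * U⁻¹)))))) *
            (U * hv [10]) ^ 3 := by simp only [pow_three]; group
      _ = (U * hv [10]) ^ 3 := by rw [h0, one_mul]
  have himg := congrArg φ hrel
  rw [map_pow, map_mul, f 10 (by decide), eu, hv_fix (w := [0, 4]) (fun x hx => by
    simp only [List.mem_cons, List.not_mem_nil, or_false] at hx
    rcases hx with rfl | rfl
    exacts [f 0 (by decide), f 4 (by decide)]), mul_assoc, k1.eq, ← mul_assoc,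
    ((k2.symm.mul_left k1.symm)).mul_pow, hrel] at himg
  have h3 : hv (qm m ++ qm m ++ qm m) = hv [] := by
    rw [hv_append, hv_append, hv_nil, ← hq, mul_assoc, ← pow_three]
    exact mul_eq_left.1 himg
  have := same_of_hv (small_append (small_append (small_qm m) (small_qm m)) (small_qm m)) rfl h3
  rw [c3] at this
  exact Bool.noConfusion this

omit h in
/-- Some element brings the images of `d`, `e`, `u` back. -/
theorem exists_fix_deu (h : FixFour φ) : ∃ g : G, FixFour (MulAut.conj g * φ) ∧
    (MulAut.conj g * φ) (ev 6) = ev 6 ∧ (MulAut.conj g * φ) (ev 8) = ev 8 ∧ (MulAut.conj g * φ) U = U := by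
  obtain ⟨e8, md, hmd, ed, m, hm, eu⟩ := deu_cases h
  have hU := fix_u h hm eu
  have e6 : ev 6 = hv [6] := ev_eq_hv (by decide)
  have e8' : φ (ev 8) = ev 8 := by rw [ev_eq_hv (by decide)]; exact e8
  simp only [List.mem_cons, List.not_mem_nil, or_false] at hmd
  rcases hmd with rfl | rfl
  · refine ⟨1, ?_, ?_, ?_, ?_⟩ <;> rw [map_one, one_mul]
    · exact h
    · rw [e6, ed]
      exact hv_same (by decide +kernel)
    · exact e8'
    · exact hU
  · have hy : ∀ k, k < 14 → same [4, k] [k, 4] = true → hv [4] * hv [k] * (hv [4])⁻¹ = hv [k] := by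
      intro k hk hsame
      rw [← hv_append, show [4] ++ [k] = [4, k] from rfl, hv_same hsame, show [k, 4] = [k] ++ [4] from rfl,
        hv_append, mul_inv_cancel_right]
    refine ⟨hv [4], ⟨?_, ?_, ?_, ?_⟩, ?_, ?_, ?_⟩ <;> rw [conj_mul_apply]
    · rw [h.fa, zT_hv, hy 0 (by decide) (by decide +kernel)]
    · rw [h.fs, ev_eq_hv (by decide), hy 10 (by decide) (by decide +kernel)]
    · rw [h.ft, ev_eq_hv (by decide), hy 12 (by decide) (by decide +kernel)]
    · rw [h.fc, ev_eq_hv (by decide), hy 4 (by decide) (by decide +kernel)]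
    · rw [e6, ed, ← inv_hv_ev (by decide), ← hv_append, ← hv_append]
      exact hv_same (by decide +kernel)
    · rw [e8', ev_eq_hv (by decide), hy 8 (by decide) (by decide +kernel)]
    · have h1 := lGens_comm 1
      rw [show lGens.getD 1 [] = [4] from rfl, show lImgs.getD 1 [] = [4] from rfl] at h1
      rw [hU, h1, mul_inv_cancel_right]

end CfsgLib.Th.Out
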