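import Cfsg.Agent.Lib.Th.OutCent
import Mathlib.GroupTheory.Sylow
import Cfsg.Prelude.Def_KGroupFacts

/-!
Outer automorphisms of the presented Thompson group, third part: up to inner automorphisms every automorphism
fixes the involution `a`, then the letters `s`, `t`, `c`.
-/
set_option autoImplicit false
set_option maxRecDepth 8000
set_option Elab.async false

namespace CfsgLib.Th.Out

open CfsgLib.Presented CfsgLib.Th CfsgLib.Th.Invol CfsgLib.SymPresent CfsgLib.Schur
open scoped Classical Pointwise

local notation "hI" => CfsgLib.Th.iota_injective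
local notation "G" => Cfsg.Spor.Th

/-- inner -/
def IsInn (φ : MulAut G) : Prop := φ ∈ Cfsg.Inn G

/-- It is enough to treat a composite with an inner automorphism. -/
theorem isInn_conj {φ : MulAut G} (g : G) (h : IsInn (MulAut.conj g * φ)) : IsInn φ := by
  have h1 : MulAut.conj g ∈ Cfsg.Inn G := ⟨g, rfl⟩
  have := mul_mem (inv_mem h1) h
  rwa [inv_mul_cancel_left] at this

theorem conj_mul_apply (g : G) (φ : MulAut G) (x : G) : (MulAut.conj g * φ) x = g * φ x * g⁻¹ := by
  simp [MulAut.mul_apply, MulAut.conj_apply]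

theorem inv_hv_ev {x : ℕ} (hx : x < 14) : hv [alphabet.invl x] = (hv [x])⁻¹ := by
  rw [← hv_invWord (small_single (by omega))]
  rfl

theorem zT_hv : zT = hv [0] := ev_eq_hv (by decide)

theorem zT_ne_one : zT ≠ 1 := by
  rw [zT_eq]
  exact fun h => a0_ne_one (hI (h.trans (map_one iota).symm))

theorem zT_sq : zT * zT = 1 := by rw [zT_eq, ← map_mul, (qRels 0 0).2.2.2.2, map_one]

/-- Elements of the centraliser of `a` commuting with its extraspecial subgroup. -/
theorem central_cases {g : G} (hg : g ∈ X) (hc : ∀ q ∈ QT, g * q = q * g) : g = 1 ∨ g = zT := by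
  set x : X := ⟨g, hg⟩
  have hact : ∀ v, act hI x⁻¹ v = v := by
    intro v
    obtain ⟨q, hq⟩ := piT_surjective hI (Multiplicative.ofAdd v)
    refine Multiplicative.ofAdd.injective ?_
    rw [act_spec hI _ hq, ← hq]
    refine congrArg _ (Subtype.ext ?_)
    show ((x⁻¹ : X) : G)⁻¹ * q * ((x⁻¹ : X) : G) = q
    rw [Subgroup.coe_inv, inv_inv, hc q q.2, mul_inv_cancel_right]
  have hq : g ∈ QT := by
    have h1 : x ∈ (psi9 hI).ker := MonoidHom.mem_ker.2 (Equiv.ext hact)
    rw [X_facts.2.2] at h1
    exact h1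
  obtain ⟨q, hq', rfl⟩ := hq
  have h2 : ∀ i : Fin 8, q * qe i = qe i * q := fun i => hI (by
    rw [map_mul, map_mul]
    exact hc _ ⟨_, qe_mem i, rfl⟩)
  have hp : pat ⟨q, hq'⟩ = 1 := by
    refine Multiplicative.toAdd.injective (funext fun i => ?_)
    rw [pat_apply, if_pos (h2 _), toAdd_one]
    rfl
  rcases (card_Q0.2 _).1 hp with h | h
  · left
    rw [show q = 1 from h, map_one]
  · right
    rw [zT_eq]
    exact congrArg iota h

/-- Some inner automorphism brings the image of `a` back. -/
theorem exists_fix_a (φ : MulAut G) : ∃ g : G, (MulAut.conj g * φ) zT = zT := by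
  have : Finite G := finite_Th
  have : Fact (Nat.Prime 2) := ⟨Nat.prime_two⟩
  obtain ⟨P0⟩ : Nonempty (Sylow 2 X) := inferInstance
  have hP0 : Nat.card P0 = 2 ^ 15 := by
    rw [P0.card_eq_multiplicity, X_facts.2.1, show (92897280 : ℕ) = 2 ^ 15 * 2835 by norm_num,
      Nat.factorization_mul (by norm_num) (by norm_num), Finsupp.add_apply, Nat.Prime.factorization_pow Nat.prime_two,
      Finsupp.single_eq_same, Nat.factorization_eq_zero_of_not_dvd (by norm_num : ¬ 2 ∣ 2835)]
  have hPc : Nat.card ((P0 : Subgroup X).map X.subtype) = 2 ^ (Nat.card G).factorization 2 := by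
    rw [Subgroup.card_map_of_injective X.subtype_injective, hP0, card_Th,
      show (90745943887872000 : ℕ) = 2 ^ 15 * 2769346432125 by norm_num,
      Nat.factorization_mul (by norm_num) (by norm_num), Finsupp.add_apply, Nat.Prime.factorization_pow Nat.prime_two,
      Finsupp.single_eq_same, Nat.factorization_eq_zero_of_not_dvd (by norm_num : ¬ 2 ∣ 2769346432125)]
  set S : Sylow 2 G := Sylow.ofCard _ hPc with hS
  have hSX : ∀ y ∈ (S : Subgroup G), y ∈ X := by
    rintro _ ⟨y, -, rfl⟩
    exact y.2
  have hQS : ∀ q ∈ QT, q ∈ (S : Subgroup G) := by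
    intro q hq
    have hn : (QT.subgroupOf X).Normal := X_facts.2.2 ▸ MonoidHom.normal_ker (psi9 hI)
    have hp : IsPGroup 2 (QT.subgroupOf X) := IsPGroup.of_card (n := 9) (by
      rw [Nat.card_congr (Subgroup.subgroupOfEquivOfLe QT_le_X).toEquiv, card_QT hI]
      norm_num)
    refine ⟨⟨q, QT_le_X hq⟩, ?_, rfl⟩
    exact hp.le_sylow_of_normal P0 (Subgroup.mem_subgroupOf.2 hq)
  have hzS : zT ∈ (S : Subgroup G) := hQS _ ⟨a0, a0_mem, zT_eq.symm⟩
  have hcent : ∀ z ∈ (S : Subgroup G), (∀ y ∈ (S : Subgroup G), z * y = y * z) → z = 1 ∨ z = zT := fun z hz hzc =>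
    central_cases (hSX z hz) fun q hq => hzc q (hQS q hq)
  set T : Subgroup G := (S : Subgroup G).map φ.toMonoidHom with hT
  have hTc : Nat.card T = 2 ^ (Nat.card G).factorization 2 := by
    rw [hT, Subgroup.card_map_of_injective φ.injective]
    exact hPc
  obtain ⟨g, hg⟩ := MulAction.exists_smul_eq G (Sylow.ofCard T hTc) S
  have hg' : ∀ y ∈ (S : Subgroup G), g * φ y * g⁻¹ ∈ (S : Subgroup G) := by
    intro y hy
    have h1 : MulAut.conj g • φ y ∈ MulAut.conj g • T := Subgroup.smul_mem_pointwise_smul _ _ _ ⟨y, hy, rfl⟩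
    have h2 : (MulAut.conj g • T : Subgroup G) = (S : Subgroup G) := congrArg Sylow.toSubgroup hg
    rw [h2] at h1
    simpa [MulAut.smul_def, MulAut.conj_apply] using h1
  refine ⟨g, ?_⟩
  rw [conj_mul_apply]
  refine (hcent _ (hg' _ hzS) fun y hy => ?_).resolve_left fun h => ?_
  · have hsurj : ∃ y' ∈ (S : Subgroup G), g * φ y' * g⁻¹ = y := by
      have h2 : (MulAut.conj g • T : Subgroup G) = (S : Subgroup G) := congrArg Sylow.toSubgroup hg
      have h1 := h2.symm ▸ hy
      rw [Subgroup.mem_smul_pointwise_iff_exists] at h1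
      obtain ⟨_, ⟨y', hy', rfl⟩, e⟩ := h1
      exact ⟨y', hy', by simpa [MulAut.smul_def, MulAut.conj_apply] using e⟩
    obtain ⟨y', hy', rfl⟩ := hsurj
    have hzy : zT * y' = y' * zT := (mem_X_iff.1 (hSX y' hy')).symm
    calc g * φ zT * g⁻¹ * (g * φ y' * g⁻¹) = g * φ (zT * y') * g⁻¹ := by rw [map_mul]; group
      _ = g * φ (y' * zT) * g⁻¹ := by rw [hzy]
      _ = _ := by rw [map_mul]; group
  · apply zT_ne_one
    apply φ.injective
    rw [map_one]
    calc φ zT = g⁻¹ * (g * φ zT * g⁻¹) * g := by group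
      _ = 1 := by rw [h]; group

/-! ### automorphisms fixing `a` -/

variable {φ : MulAut G} (ha : φ zT = zT)

include ha

theorem map_X {g : G} (hg : g ∈ X) : φ g ∈ X := by
  rw [mem_X_iff] at hg ⊢
  rw [← ha, ← map_mul, ← map_mul, hg]

theorem map_X_back {g : G} (hg : φ g ∈ X) : g ∈ X := by
  rw [mem_X_iff] at hg ⊢
  apply φ.injective
  rw [map_mul, map_mul, ha, hg]

/-- the restriction -/
noncomputable def alphaX : X →* X where
  toFun x := ⟨φ x, map_X ha x.2⟩
  map_one' := Subtype.ext (map_one φ)
  map_mul' x y := Subtype.ext (map_mul φ (x : G) y)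

theorem alphaX_surjective : Function.Surjective (alphaX ha) := fun y =>
  ⟨⟨φ.symm y, map_X_back ha (by rw [MulEquiv.apply_symm_apply]; exact y.2)⟩,
    Subtype.ext (φ.apply_symm_apply (y : G))⟩

/-- The automorphism induced on the nine points. -/
theorem exists_sigma : ∃ σ : Equiv.Perm (Fin 9), ∀ x : X, pi (alphaX ha x) = σ * pi x * σ⁻¹ := by
  have : Finite G := finite_Th
  let A := alternatingGroup (Fin 9)
  let pA : X →* A := pi.codRestrict A fun x => (le_of_eq range_pi) ⟨x, rfl⟩
  have hpA : Function.Surjective pA := by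
    rintro ⟨p, hp⟩
    rw [show A = alternatingGroup (Fin 9) from rfl, ← range_pi] at hp
    obtain ⟨x, hx⟩ := hp
    exact ⟨x, Subtype.ext hx⟩
  let b : X →* A := pA.comp (alphaX ha)
  have hb : Function.Surjective b := hpA.comp (alphaX_surjective ha)
  have hker : pA.ker ≤ b.ker := by
    have hs : IsSimpleGroup A := alternatingGroup.isSimpleGroup (by simp)
    have hn : (pA.ker.map b).Normal := Subgroup.Normal.map (MonoidHom.normal_ker _) b hb
    rcases hn.eq_bot_or_eq_top with h | h
    · exact (Subgroup.map_eq_bot_iff _).1 h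
    · exfalso
      have h1 : Nat.card (pA.ker.map b) ∣ Nat.card pA.ker := Subgroup.card_map_dvd _ _
      have hk : pA.ker = QT.subgroupOf X := by
        ext x
        rw [MonoidHom.mem_ker, Subgroup.mem_subgroupOf, ← pi_eq_one]
        exact ⟨fun e => congrArg Subtype.val e, fun e => Subtype.ext e⟩
      rw [hk, Nat.card_congr (Subgroup.subgroupOfEquivOfLe QT_le_X).toEquiv, card_QT hI] at h1
      rw [hk] at h
      rw [h, Subgroup.card_top, nat_card_alternatingGroup, Nat.card_fin] at h1
      revert h1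
      decide
  let β : A →* A := pA.liftOfSurjective hpA ⟨b, hker⟩
  have hβ : ∀ x, β (pA x) = b x := fun x => MonoidHom.liftOfRightInverse_comp_apply _ _ _ _ x
  have hβs : Function.Surjective β := fun y => by
    obtain ⟨x, rfl⟩ := hb y
    exact ⟨pA x, hβ x⟩
  let βe : MulAut A := MulEquiv.ofBijective β ⟨Finite.injective_iff_surjective.2 hβs, hβs⟩
  obtain ⟨σ, hσ⟩ := (conjNormal_bijective (n := 9) (by decide) (by decide)).2 βe
  refine ⟨σ, fun x => ?_⟩
  have h1 : (MulAut.conjNormal σ : MulAut A) (pA x) = b x := by rw [hσ]; exact hβ x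
  have h2 := congrArg Subtype.val h1
  rw [MulAut.conjNormal_apply] at h2
  exact h2.symm

theorem pi_alpha_of_fix {σ : Equiv.Perm (Fin 9)} (hσ : ∀ x : X, pi (alphaX ha x) = σ * pi x * σ⁻¹) {k : ℕ}
    (hk : k ∈ [0, 4, 6, 8, 10, 12, 14]) (hfix : φ (ev k) = ev k) : σ * piLetter k = piLetter k * σ := by
  have h1 : alphaX ha (xl k) = xl k := Subtype.ext (by
    show φ ((xl k : X) : G) = _
    rw [xl_val hk, hfix])
  have h2 := hσ (xl k)
  rw [h1, pi_letter hk, eq_mul_inv_iff_mul_eq] at h2
  exact h2.symm

/-- Some element of the centraliser brings the image of `s` back. -/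
theorem exists_fix_s : ∃ g : G, (MulAut.conj g * φ) zT = zT ∧ (MulAut.conj g * φ) (ev 10) = ev 10 := by
  have : Finite G := finite_Th
  have : Fact (Nat.Prime 7) := ⟨by norm_num⟩
  set s : X := xl 10
  have hs7 : s ^ 7 = 1 := Subtype.ext (by
    rw [SubgroupClass.coe_pow, xl_val (by decide), ev_eq_hv (by decide), ← hv_replicate, Subgroup.coe_one, ← hv_nil]
    exact hv_same (by decide +kernel))
  have hs1 : s ≠ 1 := fun h => by
    have h' := congrArg Subtype.val h
    rw [xl_val (by decide), ev_eq_hv (by decide), Subgroup.coe_one, ← hv_nil] at h'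
    have := same_of_hv (by decide) (by decide) h'
    revert this
    decide +kernel
  have ho : orderOf s = 7 := orderOf_eq_prime hs7 hs1
  have ho' : orderOf (alphaX ha s) = 7 := by
    rw [orderOf_injective (alphaX ha) (fun x y h => Subtype.ext (φ.injective (congrArg Subtype.val h))), ho]
  have hfac : 7 ^ (Nat.card X).factorization 7 = 7 := by
    rw [X_facts.2.1, show (92897280 : ℕ) = 7 * 13271040 by norm_num,
      Nat.factorization_mul (by norm_num) (by norm_num), Finsupp.add_apply,
      Nat.Prime.factorization_self (by norm_num : Nat.Prime 7),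
      Nat.factorization_eq_zero_of_not_dvd (by norm_num : ¬ 7 ∣ 13271040), add_zero, pow_one]
  have c1 : Nat.card (Subgroup.zpowers (alphaX ha s)) = 7 ^ (Nat.card X).factorization 7 := by
    rw [Nat.card_zpowers, ho', hfac]
  have c2 : Nat.card (Subgroup.zpowers s) = 7 ^ (Nat.card X).factorization 7 := by
    rw [Nat.card_zpowers, ho, hfac]
  obtain ⟨g, hg⟩ := MulAction.exists_smul_eq X (Sylow.ofCard _ c1) (Sylow.ofCard _ c2)
  have h2 : (MulAut.conj g • Subgroup.zpowers (alphaX ha s) : Subgroup X) = Subgroup.zpowers s :=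
    congrArg Sylow.toSubgroup hg
  have h1 : g * alphaX ha s * g⁻¹ ∈ Subgroup.zpowers s := by
    rw [← h2]
    have := Subgroup.smul_mem_pointwise_smul (alphaX ha s) (MulAut.conj g) _ (Subgroup.mem_zpowers _)
    simpa [MulAut.smul_def, MulAut.conj_apply] using this
  rw [mem_zpowers_iff_mem_range_orderOf, Finset.mem_image] at h1
  obtain ⟨k, hk, hk'⟩ := h1
  rw [Finset.mem_range, ho] at hk
  have hwords : ∀ k < 7, k ≠ 0 →
      let w := [[], [], [12, 12], [6, 12], [12], [6, 12, 12], [6]].getD k []
      small w = true ∧ same (invWord alphabet w ++ List.replicate k 10 ++ w) [10] = true ∧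
        same ([0] ++ w) (w ++ [0]) = true := by decide +kernel
  have hk0 : k ≠ 0 := by
    rintro rfl
    apply hs1
    have he : g * alphaX ha s * g⁻¹ = 1 := by rw [← hk']; simp
    have he' : alphaX ha s = 1 := by
      calc alphaX ha s = g⁻¹ * (g * alphaX ha s * g⁻¹) * g := by group
        _ = 1 := by rw [he]; group
    exact Subtype.ext (φ.injective ((congrArg Subtype.val he').trans (map_one φ).symm))
  obtain ⟨hsm, hsame, hcomm⟩ := hwords k hk hk0
  generalize [[], [], [12, 12], [6, 12], [12], [6, 12, 12], [6]].getD k [] = w at hsm hsame hcomm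
  refine ⟨(hv w)⁻¹ * (g : G), ?_, ?_⟩
  · rw [conj_mul_apply, ha, mul_assoc (hv w)⁻¹, mem_X_iff.1 g.2]
    have e : hv w * zT = zT * hv w := by
      rw [zT_hv, ← hv_append, ← hv_append]
      exact (hv_same hcomm).symm
    calc (hv w)⁻¹ * (zT * (g : G)) * ((hv w)⁻¹ * (g : G))⁻¹ = (hv w)⁻¹ * (zT * hv w) := by group
      _ = zT := by rw [← e, inv_mul_cancel_left]
  · have e : (g : G) * φ (ev 10) * (g : G)⁻¹ = hv (List.replicate k 10) := by
      have := congrArg Subtype.val hk'
      rw [SubgroupClass.coe_pow, xl_val (by decide), ev_eq_hv (by decide), ← hv_replicate] at this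
      rw [this]
      show _ = (g : G) * φ ((xl 10 : X) : G) * (g : G)⁻¹
      rw [xl_val (by decide)]
    have e2 := hv_same hsame
    rw [hv_append, hv_append, hv_invWord hsm, ← e, ← ev_eq_hv (by decide)] at e2
    rw [conj_mul_apply]
    conv_rhs => rw [← e2]
    group

omit ha in
/-- Some element of the centraliser of `s` brings the image of `t` back. -/
theorem exists_fix_t (ha : φ zT = zT) (hs : φ (ev 10) = ev 10) : ∃ g : G, (MulAut.conj g * φ) zT = zT ∧
    (MulAut.conj g * φ) (ev 10) = ev 10 ∧ (MulAut.conj g * φ) (ev 12) = ev 12 := by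
  set τ := φ (ev 12) with hτ
  have hs' : φ (hv [10]) = hv [10] := by rw [← ev_eq_hv (by decide), hs]
  have hτX : τ ∈ X := map_X ha (ev_mem_X (by decide))
  have hts : (hv [12])⁻¹ * hv [10] * hv [12] = hv [10, 10] := by
    rw [← inv_hv_ev (by decide), ← hv_append, ← hv_append]
    exact hv_same (by decide +kernel)
  have hτs : τ⁻¹ * hv [10] * τ = hv [10, 10] := by
    have := congrArg φ hts
    rw [map_mul, map_mul, map_inv, hs', ← ev_eq_hv (x := 12) (by decide),
      show [10, 10] = [10] ++ [10] from rfl, hv_append, map_mul, hs'] at this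
    rw [show [10, 10] = [10] ++ [10] from rfl, hv_append]
    exact this
  set y := (hv [12])⁻¹ * τ with hy
  have hyX : y ∈ X := mul_mem (inv_mem (by rw [← ev_eq_hv (by decide)]; exact ev_mem_X (by decide))) hτX
  have hy2 : y * hv [10, 10] = hv [10, 10] * y := by
    calc y * hv [10, 10] = (hv [12])⁻¹ * τ * (τ⁻¹ * hv [10] * τ) := by rw [hτs, hy]
      _ = (hv [12])⁻¹ * hv [10] * hv [12] * y := by rw [hy]; group
      _ = hv [10, 10] * y := by rw [hts]
  have hys : y * hv [10] = hv [10] * y := by
    have e : hv [10, 10] ^ 4 = hv [10] := by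
      rw [show hv [10, 10] = hv [10] * hv [10] from hv_append [10] [10], ← pow_two, ← pow_mul, ← hv_replicate]
      exact hv_same (by decide +kernel)
    have := ((show Commute y (hv [10, 10]) from hy2).pow_right 4).eq
    rwa [e] at this
  obtain ⟨i, hi, m, hm, he⟩ := cent_s hyX hys
  set w := [12] ++ sWord i m with hw
  have hsw : small w = true := small_append (small_single (by decide)) (small_sWord i m)
  have hτw : τ = hv w := by rw [hw, hv_append, ← he, hy, mul_inv_cancel_left]
  have hcube : hv (w ++ w ++ w) = hv [] := by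
    have h1 : hv [12] * hv [12] * hv [12] = 1 := by
      rw [← hv_append, ← hv_append, ← hv_nil]
      exact hv_same (by decide +kernel)
    rw [hv_append, hv_append, ← hτw, hv_nil, hτ, ← map_mul, ← map_mul, ev_eq_hv (by decide), h1, map_one]
  have hfilter : ((List.range 7).all fun i => sList.all fun m =>
      !(same (([12] ++ sWord i m) ++ ([12] ++ sWord i m) ++ ([12] ++ sWord i m)) []) ||
        (same (List.replicate i 11 ++ ([12] ++ sWord i m) ++ List.replicate i 10) [12])) = true := by
    decide +kernel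
  have h3 := List.all_eq_true.1 (List.all_eq_true.1 hfilter i (List.mem_range.2 hi)) m hm
  rw [← hw, same_of_hv (small_append (small_append hsw hsw) hsw) rfl hcube] at h3
  simp only [Bool.not_true, Bool.false_or] at h3
  refine ⟨(hv (List.replicate i 10))⁻¹, ?_, ?_, ?_⟩
  · rw [conj_mul_apply, ha, inv_inv]
    have : hv (List.replicate i 10) * zT = zT * hv (List.replicate i 10) := by
      rw [hv_replicate]
      refine ((show Commute (hv [10]) zT from ?_).pow_left i).eq
      show hv [10] * zT = zT * hv [10]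
      rw [zT_hv, ← hv_append, ← hv_append]
      exact hv_same (by decide +kernel)
    rw [mul_assoc, ← this, inv_mul_cancel_left]
  · rw [conj_mul_apply, hs, inv_inv, ev_eq_hv (by decide), hv_replicate, mul_assoc,
      ← (Commute.refl (hv [10])).pow_left i |>.eq, inv_mul_cancel_left]
  · rw [conj_mul_apply, inv_inv, ← hτ, hτw]
    have e : (hv (List.replicate i 10))⁻¹ = hv (List.replicate i 11) := by
      rw [hv_replicate, hv_replicate, ← inv_pow, ← inv_hv_ev (by decide)]
      rfl
    rw [e, ← hv_append, ← hv_append, ev_eq_hv (by decide)]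
    exact hv_same h3

omit ha in
theorem c_cases (ha : φ zT = zT) (hs : φ (ev 10) = ev 10) (ht : φ (ev 12) = ev 12) :
    ∃ m ∈ [1, 2, 257, 258], φ (ev 4) = hv (qm m) := by
  set γ := φ (ev 4) with hγ
  have hX : γ ∈ X := map_X ha (ev_mem_X (by decide))
  obtain ⟨σ, hσ⟩ := exists_sigma ha
  have hpi : pi (alphaX ha (xl 4)) = 1 := by
    rw [hσ, pi_letter (by decide), show piLetter 4 = 1 by decide +kernel, mul_one, mul_inv_cancel]
  have hQ : γ ∈ QT := by
    have := pi_eq_one.1 hpi
    change φ ((xl 4 : X) : G) ∈ QT at this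
    rwa [xl_val (by decide)] at this
  obtain ⟨m, hm, he⟩ := exists_qm_QT hQ
  have hcomm : ∀ k, k < 14 → φ (ev k) = ev k → same [k, 4] [4, k] = true →
      same ([k] ++ qm m) (qm m ++ [k]) = true := by
    intro k hk hfix hsame
    refine same_of_hv (small_append (small_single (by omega)) (small_qm m))
      (small_append (small_qm m) (small_single (by omega))) ?_
    have := congrArg φ (hv_same hsame)
    rw [show [k, 4] = [k] ++ [4] from rfl, show [4, k] = [4] ++ [k] from rfl, hv_append, hv_append, map_mul,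
      map_mul, ← ev_eq_hv hk, hfix, ← ev_eq_hv (x := 4) (by decide), ← hγ, he, ev_eq_hv hk] at this
    rw [hv_append, hv_append]
    exact this
  have h1 := List.all_eq_true.1 sList_ok m (List.mem_range.2 hm)
  rw [hcomm 10 (by decide) hs (by decide +kernel)] at h1
  have hm' : m ∈ sList := by simpa using h1
  have h2 := List.all_eq_true.1 cList_ok m hm'
  rw [hcomm 12 (by decide) ht (by decide +kernel)] at h2
  have hsq : same (qm m ++ qm m) [] = true := by
    refine same_of_hv (small_append (small_qm m) (small_qm m)) rfl ?_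
    rw [hv_append, ← he, hγ, ← map_mul, hv_nil, ev_eq_hv (by decide), ← hv_append,
      show hv ([4] ++ [4]) = 1 by rw [← hv_nil]; exact hv_same (by decide +kernel), map_one]
  have hn1 : same (qm m) [] = false := by
    refine Bool.eq_false_iff.2 fun h => ?_
    have h4 : φ (ev 4) = φ 1 := by rw [map_one, ← hγ, he, ← hv_nil]; exact hv_same h
    have h5 := φ.injective h4
    rw [ev_eq_hv (by decide), ← hv_nil] at h5
    have := same_of_hv (by decide) (by decide) h5
    revert this
    decide +kernel
  have hna : same (qm m) [0] = false := by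
    refine Bool.eq_false_iff.2 fun h => ?_
    have h4 : φ (ev 4) = φ zT := by rw [ha, ← hγ, he, zT_hv]; exact hv_same h
    have h5 := φ.injective h4
    rw [ev_eq_hv (by decide), zT_hv] at h5
    have := same_of_hv (by decide) (by decide) h5
    revert this
    decide +kernel
  rw [hsq, hn1, hna] at h2
  exact ⟨m, by simpa using h2, he⟩

omit ha in
/-- The map induced on the nine points is trivial, and the image of `c` is `c` or `a c`. -/
theorem sigma_one (ha : φ zT = zT) (hs : φ (ev 10) = ev 10) (ht : φ (ev 12) = ev 12) :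
    (∀ x : X, pi (alphaX ha x) = pi x) ∧ ∃ m ∈ [1, 257], φ (ev 4) = hv (qm m) := by
  obtain ⟨m, hm, hγ⟩ := c_cases ha hs ht
  obtain ⟨σ, hσ⟩ := exists_sigma ha
  have h10 := pi_alpha_of_fix ha hσ (k := 10) (by decide) hs
  have h12 := pi_alpha_of_fix ha hσ (k := 12) (by decide) ht
  have key : σ = 1 ∨ σ = Equiv.swap 5 6 := by
    obtain ⟨i, hi⟩ := comm_cycle h10
    have hd : ∀ i : Fin 7,
        ((piLetter 10 ^ (i : ℕ)) * piLetter 12 = piLetter 12 * (piLetter 10 ^ (i : ℕ)) → (i : ℕ) = 0) ∧
        ((piLetter 10 ^ (i : ℕ) * Equiv.swap 5 6) * piLetter 12 =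
          piLetter 12 * (piLetter 10 ^ (i : ℕ) * Equiv.swap 5 6) → (i : ℕ) = 0) := by decide +kernel
    rcases hi with rfl | rfl
    · left
      rw [(hd i).1 h12, pow_zero]
    · right
      rw [(hd i).2 h12, pow_zero, one_mul]
  -- the image of `e` fixes the vector of the image of `c`
  have hfold : ∀ w : List ℕ, w.all (fun x => decide (x ∈ xLetters)) = true →
      pi (alphaX ha (xl 8)) = pi (xw w) → vec 8 (foldT w m) = vec 8 m := by
    intro w hw he
    rw [← act_word hI hw m]
    set x := alphaX ha (xl 8)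
    have h9 := congrArg (fun p : Equiv.Perm (Fin 8 → ZMod 2) => p.symm (vec 8 m)) (psi9_eq_of_pi he)
    change act hI x (vec 8 m) = act hI (xw w) (vec 8 m) at h9
    rw [← h9]
    refine Multiplicative.ofAdd.injective ?_
    have hq : piT hI ⟨iota (evW hev (wordTo m 8)), ⟨_, wordTo_mem m 8 le_rfl, rfl⟩⟩ =
        Multiplicative.ofAdd (vec 8 m) := piT_word hI m
    rw [act_spec hI x hq, ← hq]
    refine congrArg _ (Subtype.ext ?_)
    show (φ ((xl 8 : X) : G))⁻¹ * hv (qm m) * φ ((xl 8 : X) : G) = hv (qm m)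
    rw [xl_val (by decide), ← hγ, ← map_inv, ← map_mul, ← map_mul]
    refine congrArg φ ?_
    rw [ev_eq_hv (by decide), ev_eq_hv (by decide), ← inv_hv_ev (by decide), ← hv_append, ← hv_append]
    exact hv_same (by decide +kernel)
  have hx8 : pi (alphaX ha (xl 8)) = σ * piLetter 8 * σ⁻¹ := by rw [hσ, pi_letter (by decide)]
  rcases key with rfl | rfl
  · refine ⟨fun x => by rw [hσ, one_mul, inv_one, mul_one], m, ?_, hγ⟩
    have h := hfold [8] (by decide +kernel) (by
      rw [hx8, one_mul, inv_one, mul_one, show xw [8] = xl 8 by simp [xw], pi_letter (by decide)])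
    have hbad : ∀ m ∈ [2, 258], vec 8 (foldT [8] m) ≠ vec 8 m := by decide +kernel
    simp only [List.mem_cons, List.not_mem_nil, or_false] at hm hbad ⊢
    rcases hm with rfl | rfl | rfl | rfl
    · exact Or.inl rfl
    · exact absurd h (hbad 2 (Or.inl rfl))
    · exact Or.inr rfl
    · exact absurd h (hbad 258 (Or.inr rfl))
  · exfalso
    have h := hfold [6, 8, 14, 6, 14] (by decide +kernel) (by
      rw [hx8]
      simp only [xw, List.map_cons, List.map_nil, List.prod_cons, List.prod_nil, mul_one, map_mul]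
      rw [pi_letter (by decide), pi_letter (by decide), pi_letter (by decide)]
      decide +kernel)
    have hbad : ∀ m ∈ [1, 2, 257, 258], vec 8 (foldT [6, 8, 14, 6, 14] m) ≠ vec 8 m := by decide +kernel
    exact hbad m hm h

omit ha in
/-- Some element of the extraspecial subgroup brings the image of `c` back. -/
theorem exists_fix_c (ha : φ zT = zT) (hs : φ (ev 10) = ev 10) (ht : φ (ev 12) = ev 12) :
    ∃ g : G, (MulAut.conj g * φ) zT = zT ∧ (MulAut.conj g * φ) (ev 10) = ev 10 ∧
      (MulAut.conj g * φ) (ev 12) = ev 12 ∧ (MulAut.conj g * φ) (ev 4) = ev 4 := by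
  obtain ⟨-, m, hm, hγ⟩ := sigma_one ha hs ht
  simp only [List.mem_cons, List.not_mem_nil, or_false] at hm
  rcases hm with rfl | rfl
  · refine ⟨1, ?_, ?_, ?_, ?_⟩ <;> rw [map_one, one_mul]
    · exact ha
    · exact hs
    · exact ht
    · rw [hγ, ev_eq_hv (by decide)]
      exact hv_same (by decide +kernel)
  · have hy : ∀ k, k < 14 → same ([k] ++ qm 2) (qm 2 ++ [k]) = true →
        hv (qm 2) * hv [k] * (hv (qm 2))⁻¹ = hv [k] := by
      intro k hk h
      have h' := hv_same h
      rw [hv_append, hv_append] at h'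
      rw [← h', mul_inv_cancel_right]
    refine ⟨hv (qm 2), ?_, ?_, ?_, ?_⟩ <;> rw [conj_mul_apply]
    · rw [ha, zT_hv, hy 0 (by decide) (by decide +kernel)]
    · rw [hs, ev_eq_hv (by decide), hy 10 (by decide) (by decide +kernel)]
    · rw [ht, ev_eq_hv (by decide), hy 12 (by decide) (by decide +kernel)]
    · rw [hγ, ev_eq_hv (by decide), ← hv_invWord (small_qm 2), ← hv_append, ← hv_append]
      exact hv_same (by decide +kernel)

end CfsgLib.Th.Out
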