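import Cfsg.Agent.Lib.Th.Simple

/-!
The range of the embedding of the triality group, as the subgroup generated by seven of the eight generators.
-/
set_option autoImplicit false

namespace CfsgLib.Th

open Cfsg.Spor

theorem range_iota : iota.range = (Subgroup.closure
    ({Th.a, Th.b, Th.c, Th.d, Th.e, Th.s, Th.t} : Set (FreeGroup Th.Gen))).map
      (PresentedGroup.mk (coxRelators Th.edges ∪ {r | r ∈ Th.extra})) := by
  rw [MonoidHom.map_closure]
  refine le_antisymm ?_ ((Subgroup.closure_le _).2 ?_)
  · rw [MonoidHom.range_eq_map, ← PresentedGroup.closure_range_of, MonoidHom.map_closure, Subgroup.closure_le]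
    rintro _ ⟨_, ⟨g, rfl⟩, rfl⟩
    rw [iota, PresentedGroup.toGroup.of]
    cases g <;> first
      | exact Subgroup.one_mem _
      | exact Subgroup.subset_closure ⟨_, by simp, rfl⟩
  · rintro _ ⟨r, hr, rfl⟩
    rcases hr with rfl | rfl | rfl | rfl | rfl | rfl | rfl
    exacts [⟨PresentedGroup.of .a, PresentedGroup.toGroup.of hkills⟩, ⟨PresentedGroup.of .b, PresentedGroup.toGroup.of hkills⟩,
      ⟨PresentedGroup.of .c, PresentedGroup.toGroup.of hkills⟩, ⟨PresentedGroup.of .d, PresentedGroup.toGroup.of hkills⟩,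
      ⟨PresentedGroup.of .e, PresentedGroup.toGroup.of hkills⟩, ⟨PresentedGroup.of .s, PresentedGroup.toGroup.of hkills⟩,
      ⟨PresentedGroup.of .t, PresentedGroup.toGroup.of hkills⟩]

end CfsgLib.Th
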