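import Cfsg.Agent.Lib.Th.Triality

/-!
The relators involving the extra generator, read as products of segments `u h`.
-/
set_option autoImplicit false
set_option maxRecDepth 8000

namespace CfsgLib.Th

open CfsgLib.Presented

/-- the segments of the relators -/
def relSegs : List (List (List ℕ)) := [[[], [5, 1]],
  [[4, 0, 1], [0]],
  [[4, 0, 5], [4]],
  [[4, 0, 9], [8]],
  [[4, 0, 6], [6, 8], [4, 0, 6], [6, 8]],
  [[4, 0, 3, 5, 1, 2], [3, 0, 4, 2, 9]],
  [[4, 0, 6, 3, 5, 1, 2, 7], [6, 3, 0, 4, 2, 5, 9, 7], [4, 0, 6, 3, 5, 1, 2, 9], [4, 0, 7]],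
  [[4, 0, 12], [12]],
  [[4, 0, 10, 10, 8, 11, 11], [10, 10, 9, 11, 11]],
  [[4, 0, 11], [4, 0, 11], [4, 0, 0, 4, 11]],
  [[4, 0, 10], [11], [4, 0, 10], [11], [4, 0, 10], [11], [4, 0, 10], [0, 4, 11]],
  [[10, 10, 6, 11, 11], [10, 10, 6, 11, 11], [10, 10, 6, 11, 11], [10, 10, 11, 11, 9, 7, 5, 6, 8, 10, 10, 10, 9, 7, 5, 6, 8, 11, 7, 5, 6, 5, 1, 6, 11, 11]]]

/-- their sources -/
def relSrc : List (List ℕ × List ℕ × ℕ) := [([14, 14, 5, 1], [14, 14, 5, 1], 0),
  ([15, 1, 14, 0], [15, 1, 14, 0], 0),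
  ([15, 5, 14, 4], [15, 5, 14, 4], 0),
  ([15, 9, 14, 8], [15, 9, 14, 8], 0),
  ([6, 8, 15, 6, 14, 6, 8, 15, 6, 14], [6, 8, 15, 6, 14, 6, 8, 15, 6, 14], 2),
  ([15, 3, 5, 1, 2, 14, 3, 0, 4, 2, 9], [15, 3, 5, 1, 2, 14, 3, 0, 4, 2, 9], 0),
  ([7, 15, 6, 3, 5, 1, 2, 7, 14, 6, 3, 0, 4, 2, 5, 9, 7, 15, 6, 3, 5, 1, 2, 9, 15], [7, 15, 6, 3, 5, 1, 2, 7, 14, 6, 3, 0, 4, 2, 5, 9, 7, 15, 6, 3, 5, 1, 2, 9, 15], 1),
  ([15, 12, 14, 12], [15, 12, 14, 12], 0),
  ([9, 11, 11, 15, 10, 10, 8, 11, 11, 14, 10, 10], [9, 11, 11, 15, 10, 10, 8, 11, 11, 14, 10, 10], 3),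
  ([0, 4, 11, 15, 11, 15, 11, 15], [0, 4, 11, 15, 11, 15, 11, 15], 3),
  ([0, 4, 11, 15, 10, 14, 11, 15, 10, 14, 11, 15, 10, 14, 11, 15, 10, 14], [0, 4, 11, 15, 10, 14, 11, 15, 10, 14, 11, 15, 10, 14, 11, 15, 10, 14], 3),
  ([6, 11, 11, 14, 10, 10, 6, 11, 11, 14, 10, 10, 6, 11, 11, 14, 10, 10, 6, 11, 11, 14, 10, 10, 11, 11, 9, 7, 5, 6, 8, 10, 10, 10, 9, 7, 5, 6, 8, 11, 7, 5, 6, 5, 1], [6, 11, 11, 14, 10, 10, 6, 11, 11, 14, 10, 10, 6, 11, 11, 14, 10, 10, 6, 11, 11, 14, 9, 7, 5, 6, 8, 10, 10, 10, 9, 7, 5, 6, 8, 11, 7, 5, 6, 5, 1], 3)]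

/-- product of segments `u h` -/
noncomputable def segProd (l : List (List ℕ)) : Cfsg.Spor.Th := (l.map fun s => U * hv s).prod

theorem segProd_nil : segProd [] = 1 := rfl

theorem segProd_cons (s : List ℕ) (l : List (List ℕ)) : segProd (s :: l) = U * hv s * segProd l := by
  simp [segProd]

theorem segProd_append (l l' : List (List ℕ)) : segProd (l ++ l') = segProd l * segProd l' := by
  simp [segProd]

/-- replace the inverse of `u` -/
def expand (w : List ℕ) : List ℕ := w.flatMap fun x => if x = 15 then [14, 4, 0] else [x]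

theorem ev15' : ev 15 = ev 14 * (ev 4 * ev 0) := by
  have h := rels_hold [14, 14, 5, 1] (by decide +kernel)
  have h5 : ev 5 * ev 4 = 1 := by
    have := (letters_good (extra := Cfsg.Spor.Th.extra)).inv 4 (by decide)
    rwa [show alphabet.invl 4 = 5 by decide +kernel] at this
  have h1 : ev 1 * ev 0 = 1 := by
    have := (letters_good (extra := Cfsg.Spor.Th.extra)).inv 0 (by decide)
    rwa [show alphabet.invl 0 = 1 by decide +kernel] at this
  have h4 : ev 4 * ev 4 = 1 := by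
    have := rels_hold [4, 4] (by decide +kernel)
    simpa using this
  have h0 : ev 0 * ev 0 = 1 := by
    have := rels_hold [0, 0] (by decide +kernel)
    simpa using this
  simp only [evW_cons, evW_nil, mul_one] at h
  rw [eq_inv_of_mul_eq_one_left h5, inv_eq_of_mul_eq_one_right h4, eq_inv_of_mul_eq_one_left h1,
    inv_eq_of_mul_eq_one_right h0] at h
  rw [ev15, show U = ev 14 from rfl]
  exact inv_eq_of_mul_eq_one_right h

theorem evW_expand : ∀ w : List ℕ, evW ev (expand w) = evW ev w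
  | [] => rfl
  | x :: w => by
    rw [show expand (x :: w) = (if x = 15 then [14, 4, 0] else [x]) ++ expand w from rfl, evW_append,
      evW_expand w, evW_cons]
    split_ifs with h
    · subst h
      simp [ev15', mul_assoc]
    · simp

theorem segProd_eq_evW : ∀ l : List (List ℕ), (∀ s ∈ l, s.all noU = true) →
    segProd l = evW ev (l.flatMap fun s => 14 :: s)
  | [], _ => rfl
  | s :: l, h => by
    rw [segProd_cons, List.flatMap_cons, evW_append, evW_cons, segProd_eq_evW l fun z hz =>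
      h z (List.mem_cons_of_mem _ hz), hv_eq (h s List.mem_cons_self)]
    rfl

/-- one relator is good -/
noncomputable def srcOK (segs : List (List ℕ)) (w r : List ℕ) (k : ℕ) : Bool :=
  relWords.contains r && listEq (pushAll alphabet w []) (pushAll alphabet r []) &&
    w.all (fun y => Nat.ble y 16) && r.all (fun y => Nat.ble y 16) &&
    segs.all (fun s => s.all noU && small s) && listEq (rotW (expand w) k) (segs.flatMap fun s => 14 :: s)

theorem segProd_eq_one {segs : List (List ℕ)} {w r : List ℕ} {k : ℕ} (h : srcOK segs w r k = true) :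
    segProd segs = 1 := by
  simp only [srcOK, Bool.and_eq_true, List.all_eq_true, Nat.ble_eq, List.contains_iff_mem] at h
  obtain ⟨⟨⟨⟨⟨hr, hp⟩, hw⟩, hr'⟩, hs⟩, hrot⟩ := h
  rw [segProd_eq_evW _ fun s hsm => List.all_eq_true.2 (hs s hsm).1, ← listEq_eq hrot]
  apply evW_rotate_eq_one
  rw [List.take_append_drop, evW_expand]
  have e := pushAll_ev (ev := ev) (letters_good (extra := Cfsg.Spor.Th.extra)) [] hw
  rw [listEq_eq hp, pushAll_ev (letters_good (extra := Cfsg.Spor.Th.extra)) [] hr'] at e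
  simp only [List.reverse_nil, evW_nil, one_mul] at e
  rw [← e]
  exact rels_hold r hr

theorem relSegs_ok : ((List.range relSegs.length).all fun b =>
    srcOK (relSegs.getD b []) (relSrc.getD b ([], [], 0)).1 (relSrc.getD b ([], [], 0)).2.1
      (relSrc.getD b ([], [], 0)).2.2) = true := by decide +kernel

/-- a rotation of a relator's segments -/
def rotSegs (b k : ℕ) : List (List ℕ) := (relSegs.getD b []).drop k ++ (relSegs.getD b []).take k

theorem segProd_rotSegs (b k : ℕ) : segProd (rotSegs b k) = 1 := by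
  have h : segProd (relSegs.getD b []) = 1 := by
    by_cases hb : b < relSegs.length
    · exact segProd_eq_one (List.all_eq_true.1 relSegs_ok b (List.mem_range.2 hb))
    · rw [List.getD_eq_default _ _ (Nat.le_of_not_lt hb)]
      rfl
  rw [← List.take_append_drop k (relSegs.getD b []), segProd_append] at h
  rw [rotSegs, segProd_append]
  exact mul_eq_one_comm.1 h

theorem rotSegs_small {b k : ℕ} {s : List ℕ} (h : s ∈ rotSegs b k) : small s = true := by
  have hs : s ∈ relSegs.getD b [] := by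
    rcases List.mem_append.1 h with h | h
    · exact List.mem_of_mem_drop h
    · exact List.mem_of_mem_take h
  by_cases hb : b < relSegs.length
  · have := List.all_eq_true.1 relSegs_ok b (List.mem_range.2 hb)
    simp only [srcOK, Bool.and_eq_true, List.all_eq_true] at this
    have h2 := (this.1.2 s hs).2
    exact h2
  · rw [List.getD_eq_default _ _ (Nat.le_of_not_lt hb)] at hs
    simp at hs

end CfsgLib.Th
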